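import Cfsg.Agent.Lib.RecogM23.Model41
import Cfsg.Agent.Lib.Golay.Simple

/-!
A simple group of order `10200960` with a subgroup of index `23` is the Mathieu group of degree `23`.

Owner: helper41.
-/

set_option autoImplicit false
set_option linter.style.haveILetI false

namespace Cfsg.Agent.Lib.RecogM23.Assemble41

open Cfsg (GolayPt M24)
open Cfsg.Agent.Lib.Golay

/-- The Mathieu group of degree `23` has a subgroup of index `23`. -/
theorem exists_index : ∃ H : Subgroup Cfsg.Spor.M23, H.index = 23 := by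
  haveI : Finite Cfsg.Spor.M23 := Nat.finite_of_card_ne_zero (by rw [card_spor_M23]; norm_num)
  refine ⟨Cfsg.Spor.M22.subgroupOf Cfsg.Spor.M23, ?_⟩
  have hle : Cfsg.Spor.M22 ≤ Cfsg.Spor.M23 := by
    intro g hg
    simp only [Cfsg.Spor.M22, Cfsg.Spor.M23, Subgroup.mem_inf] at hg ⊢
    tauto
  have h := (Cfsg.Spor.M22.subgroupOf Cfsg.Spor.M23).card_mul_index
  rw [Nat.card_congr (Subgroup.subgroupOfEquivOfLe hle).toEquiv, card_spor_M22, card_spor_M23] at h
  omega

/-- A simple group of order `10200960` with a subgroup of index `23` is `M₂₃`. -/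
theorem isoM23 {G : Type*} [Group G] [Finite G] (hG : Cfsg.IsM23 G) {H : Subgroup G}
    (hH : H.index = 23) : Cfsg.Spor.IsoM23 G := by
  obtain ⟨hs, hc⟩ := hG
  haveI := hs
  haveI : Finite Cfsg.Spor.M23 := Nat.finite_of_card_ne_zero (by rw [card_spor_M23]; norm_num)
  haveI : IsSimpleGroup Cfsg.Spor.M23 := isSimple_spor_M23
  obtain ⟨H', hH'⟩ := exists_index
  exact Model41.nonempty_mulEquiv hc card_spor_M23 hH hH'

end Cfsg.Agent.Lib.RecogM23.Assemble41
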