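import Cfsg.Agent.Lib.RecogM22.Basic
import Cfsg.Agent.Lib.RecogM22.Options

/-!
Simple groups of order `10200960`: the possible centraliser orders of involutions and the setting
of the bounded searches.
-/

set_option autoImplicit false
set_option linter.style.haveILetI false
set_option linter.unusedSectionVars false

namespace Cfsg.Agent.Lib.RecogM23.Base

open Cfsg.Agent.Lib.Classif Cfsg.Agent.Lib.SmallGroups
open Cfsg.Agent.Lib.RecogM22.Basic

universe u

/-- The multiples of `4 * p` dividing `10200960` with quotient at least `23`. -/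
def cents (p : ℕ) : List ℕ :=
  ((List.range (443520 / (4 * p) + 1)).map (· * (4 * p))).filter fun c =>
    decide (c ≠ 0) && decide (10200960 % c = 0)

variable {G : Type u} [Group G] [Finite G] [IsSimpleGroup G] (h : Nat.card G = 10200960)

include h

theorem not_comm : ¬ IsMulCommutative G :=
  Classif.SmallOrderKills3.not_comm h (by norm_num)

/-- A proper subgroup has index at least `23`. -/
theorem card_le_of_ne_top {H : Subgroup G} (hH : H ≠ ⊤) : Nat.card H ≤ 443520 := by
  obtain ⟨hfac, hidx⟩ := index_facts (not_comm h) hH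
  rw [h] at hfac hidx
  have h23 : 23 ≤ H.index := by
    by_contra hlt
    have hp : Nat.Prime 23 := by norm_num
    have : 23 ≤ H.index := (hp.dvd_factorial).mp ((show 23 ∣ 2 * 10200960 by norm_num).trans hfac)
    exact hlt this
  nlinarith

/-- The centraliser of an involution has order at most `443520`. -/
theorem card_centralizer_le {x : G} (hx : x ≠ 1) :
    Nat.card (Subgroup.centralizer ({x} : Set G)) ≤ 443520 :=
  card_le_of_ne_top h (centralizer_ne_top (not_comm h) hx)

theorem cent_mem {p : ℕ} (hp : Nat.Coprime 4 p) {u : G} (hu : orderOf u = 2)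
    (hpc : p ∣ Nat.card (Subgroup.centralizer ({u} : Set G))) :
    Nat.card (Subgroup.centralizer ({u} : Set G)) ∈ cents p := by
  have h4 := four_dvd_centralizer (h ▸ by norm_num : 4 ∣ Nat.card G) hu
  have hle := card_centralizer_le h (fun e => by rw [e, orderOf_one] at hu; omega : u ≠ 1)
  have hdvd := (Subgroup.centralizer ({u} : Set G)).card_subgroup_dvd_card
  have hpos : 0 < Nat.card (Subgroup.centralizer ({u} : Set G)) := Nat.card_pos
  rw [h] at hdvd
  generalize Nat.card (Subgroup.centralizer ({u} : Set G)) = c at *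
  obtain ⟨m, rfl⟩ := hp.mul_dvd_of_dvd_of_dvd h4 hpc
  simp only [cents, List.mem_filter, List.mem_map, List.mem_range, Bool.and_eq_true,
    decide_eq_true_eq]
  refine ⟨⟨m, ?_, by ring⟩, by omega, Nat.mod_eq_zero_of_dvd hdvd⟩
  have hp0 : 0 < 4 * p := by
    rcases Nat.eq_zero_or_pos p with rfl | hp'
    · simp at hpos
    · omega
  exact Nat.lt_succ_of_le ((Nat.le_div_iff_mul_le hp0).mpr (by linarith))

/-- An involution of `C(P)` and the order of its centraliser. -/
theorem exists_involution {p : ℕ} [Fact p.Prime] (hp : Nat.Coprime 4 p) {P : Sylow p G}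
    (hP : Nat.card (P : Subgroup G) = p)
    (h2 : 2 ∣ Nat.card (Subgroup.centralizer ((P : Subgroup G) : Set G))) :
    ∃ u : G, u ∈ Subgroup.centralizer ((P : Subgroup G) : Set G) ∧ orderOf u = 2 ∧
      Nat.card (Subgroup.centralizer ({u} : Set G)) ∈ cents p := by
  haveI : Fact (Nat.Prime 2) := ⟨Nat.prime_two⟩
  obtain ⟨⟨u, huC⟩, hu⟩ := exists_prime_orderOf_dvd_card'
    (G := Subgroup.centralizer ((P : Subgroup G) : Set G)) 2 h2
  rw [Subgroup.orderOf_mk] at hu
  refine ⟨u, huC, hu, cent_mem h hp hu (hP ▸ Subgroup.card_dvd_of_le fun y hy => ?_)⟩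
  exact Subgroup.mem_centralizer_singleton_iff.mpr (Subgroup.mem_centralizer_iff.mp huC y hy)

end Cfsg.Agent.Lib.RecogM23.Base
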