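import Mathlib.Data.Fintype.Basic
import Mathlib.Data.Fin.VecNotation
import Mathlib.Data.Nat.Prime.Basic
import Mathlib.Data.Fintype.Pi
import Mathlib.Algebra.Group.Fin.Basic
import Mathlib.Algebra.Group.Basic
import Mathlib.Tactic.NormNum

/-!
Kernel-checked facts on twenty-three points: the maps normalising `i ↦ 2 i` that fix `0`, and which of
them can lie with `i ↦ i + 1` and `i ↦ 2 i` in a group of order `10200960`.

Owner: helper41.
-/

set_option autoImplicit false

namespace Cfsg.Agent.Lib.RecogM23.Cert41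

/-- The translation. -/
def T (i : Fin 23) : Fin 23 := i + 1

/-- The multiplication by two. -/
def M (i : Fin 23) : Fin 23 := 2 * i

/-- The negation. -/
def N (i : Fin 23) : Fin 23 := -i

/-- The eleventh power of a residue, which tells the squares. -/
def leg (i : Fin 23) : Fin 23 := i * i * i * i * i * i * i * i * i * i * i

/-- The map with cube twist taking `1` to `u` and `-1` to `v`. -/
def A (u v : Fin 23) (i : Fin 23) : Fin 23 :=
  if i = 0 then 0 else if leg i = 1 then u * (i * i * i) else -(v * (i * i * i))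

theorem exists_pow : ∀ i : Fin 23, i = 0 ∨ ∃ k : Fin 11, i = M^[k.1] 1 ∨ i = M^[k.1] 22 := by
  decide +kernel

theorem A_spec : ∀ u v : Fin 23, ∀ k : Fin 11, A u v (M^[k.1] 1) = M^[3 * k.1] u ∧
    A u v (M^[k.1] 22) = M^[3 * k.1] v := by
  decide +kernel

/-- An injective map whose fifth iterate is the identity preserves the two classes. -/
theorem classes : ∀ u v : Fin 23, (∀ i, (A u v)^[5] i = i) → leg u = 1 ∧ leg v = 22 := by
  decide +kernel

theorem shift : ∀ u : Fin 23, leg u = 1 → ∃ j : Fin 11, M^[j.1] (M^[3 * (11 - j.1)] u) = 1 := by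
  decide +kernel

theorem neg_spec : ∀ i : Fin 23, N (M i) = M (N i) ∧ N (N i) = i ∧ T (N (T i)) = N i ∧
    T^[22] (N i) = N (T i) := by
  decide +kernel

/-- The mirror candidate. -/
theorem mirror : ∀ i : Fin 23, M^[6] (N (A 1 21 (N (M^[5] i)))) = A 1 11 i := by
  decide +kernel

/-- The words for the bad candidates: `0`, `1`, `2` stand for `T`, `M`, `A 1 v`. -/
def word : Fin 23 → List (Fin 3) × ℕ × ℕ
  | 5 => ([0, 2], 17, 5)
  | 7 => ([0, 2], 19, 3)
  | 10 => ([0, 1, 2, 1], 19, 3)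
  | 14 => ([0, 2, 2], 13, 5)
  | 15 => ([0, 2, 2], 19, 3)
  | 17 => ([0, 2], 17, 5)
  | 19 => ([0, 0, 2], 19, 3)
  | 20 => ([0, 2, 1, 2], 13, 8)
  | 22 => ([0, 1, 2], 17, 5)
  | _ => ([], 0, 0)

/-- The value of a word. -/
def ev (v : Fin 23) : List (Fin 3) → Fin 23 → Fin 23
  | [], i => i
  | c :: l, i => (![T, M, A 1 v] : Fin 3 → Fin 23 → Fin 23) c (ev v l i)

theorem bad : ∀ v : Fin 23, leg v = 22 → v = 11 ∨ v = 21 ∨
    ((word v).2.1.Prime ∧ ¬ (word v).2.1 ∣ 10200960 ∧
      (∃ i, (ev v (word v).1)^[(word v).2.2] i ≠ i) ∧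
      ∀ i, (ev v (word v).1)^[(word v).2.2 * (word v).2.1] i = i) := by
  decide +kernel

end Cfsg.Agent.Lib.RecogM23.Cert41
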