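import Cfsg.Agent.Lib.RecogM22.Search

/-!
Lists of signed degree-value pairs with values stepped along their residue classes.
-/

set_option autoImplicit false

namespace Cfsg.Agent.Lib.RecogM23.Items

/-- The integers congruent to `r` modulo `m` of absolute value at most about `b`. -/
def stepped (m : ℕ) (r : ℤ) (b : ℕ) : List ℤ :=
  (List.range (2 * (b / m + 2) + 1)).map fun i : ℕ => r + (m : ℤ) * ((i : ℤ) - ((b / m + 2 : ℕ) : ℤ))

theorem mem_stepped {m b : ℕ} {r w : ℤ} (hm : m ≠ 0) (hr : r.natAbs ≤ m) (hw : w.natAbs ≤ b)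
    (h : (m : ℤ) ∣ w - r) : w ∈ stepped m r b := by
  obtain ⟨q, hq⟩ := h
  have hq' : q.natAbs ≤ b / m + 2 := by
    have hle : m * q.natAbs ≤ b + m := by
      rw [show m * q.natAbs = (w - r).natAbs by rw [hq, Int.natAbs_mul, Int.natAbs_natCast]]
      have := Int.natAbs_sub_le w r
      omega
    have h1 : q.natAbs ≤ (b + m) / m := (Nat.le_div_iff_mul_le (Nat.pos_of_ne_zero hm)).mpr
      (by rw [Nat.mul_comm]; exact hle)
    rw [Nat.add_div_right _ (Nat.pos_of_ne_zero hm)] at h1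
    omega
  simp only [stepped, List.mem_map, List.mem_range]
  refine ⟨(q + ((b / m + 2 : ℕ) : ℤ)).toNat, by omega, ?_⟩
  rw [show ((q + ((b / m + 2 : ℕ) : ℤ)).toNat : ℤ) = q + ((b / m + 2 : ℕ) : ℤ) by omega]
  linarith

/-- Values `w` for the signed degree `k` at an involution with centraliser of order `c`, in the class
of `r` modulo `m`. -/
def vals (g c m : ℕ) (k r : ℤ) : List ℤ :=
  (stepped m r (Nat.min (Nat.sqrt c) k.natAbs)).filter fun w =>
    decide (w * w ≤ (c : ℤ)) && decide (w.natAbs < k.natAbs) && decide ((k - w) % 4 = 0) &&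
      decide (((g / c : ℕ) : ℤ) * w % k = 0)

theorem mem_vals {g c m : ℕ} {k r w : ℤ} (hm : m ≠ 0) (hr : r.natAbs ≤ m)
    (h1 : w.natAbs < k.natAbs) (h2 : (4 : ℤ) ∣ k - w) (h3 : (m : ℤ) ∣ w - r)
    (h4 : k ∣ ((g / c : ℕ) : ℤ) * w) (h5 : w * w ≤ c) : w ∈ vals g c m k r := by
  have hs : w.natAbs ≤ Nat.sqrt c := by
    rw [Nat.le_sqrt]
    have : ((w.natAbs * w.natAbs : ℕ) : ℤ) ≤ c := by
      push_cast; rw [abs_mul_abs_self]; exact h5
    exact_mod_cast this
  simp only [vals, List.mem_filter, Bool.and_eq_true, decide_eq_true_eq]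
  exact ⟨mem_stepped hm hr (Nat.le_min.mpr ⟨hs, h1.le⟩) h3,
    ⟨⟨h5, h1⟩, Int.emod_eq_zero_of_dvd h2⟩, Int.emod_eq_zero_of_dvd h4⟩

/-- All pairs over the signed degrees `ks`. -/
def pairs (g c m : ℕ) (ks : List ℤ) (r : ℤ → ℤ) : List (ℤ × ℤ) :=
  ks.flatMap fun k => (vals g c m k (r k)).map fun w => (k, w)

theorem mem_pairs {g c m : ℕ} {ks : List ℤ} {r : ℤ → ℤ} {k w : ℤ} (hk : k ∈ ks)
    (hw : w ∈ vals g c m k (r k)) : (k, w) ∈ pairs g c m ks r := by
  simp only [pairs, List.mem_flatMap, List.mem_map]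
  exact ⟨k, hk, w, hw, rfl⟩

end Cfsg.Agent.Lib.RecogM23.Items
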