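import Cfsg.Agent.Lib.RecogM23.CertLocal
import Cfsg.Agent.Lib.RecogM23.Items

/-!
The values of the known characters at an arbitrary involution.
-/

set_option autoImplicit false

namespace Cfsg.Agent.Lib.RecogM23.Classes

/-- The values of degree `d`. -/
def V (c : ℕ) (d : ℤ) : List ℤ := Items.vals 10200960 c 4 d (d % 4)

/-- The condition at the prime `7`. -/
def good7 (c : ℕ) (e f : ℤ) : Bool :=
  let w := 1 - e + f
  decide (1 + e * e + f * f + 2 * (w * w) ≤ (c : ℤ)) &&
    decide (10200960 - e * e * (10200960 / 1035) + f * f * (10200960 / 2024) -
      w * w * (10200960 / 990) = 0) && (V c 990).elem w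

/-- The condition at the prime `11`, with the expected values. -/
def good11 (c : ℕ) (a b n e f : ℤ) : Bool :=
  let x := 1 + a + b - n + e
  let w := 1 - e + f
  ! (decide (1 + a * a + b * b + n * n + e * e + f * f + 2 * (w * w) + 2 * (x * x) ≤ (c : ℤ)) &&
    decide (10200960 + (a * a + b * b) * (10200960 / 45) - n * n * (10200960 / 230) +
      e * e * (10200960 / 1035) - x * x * (10200960 / 896) = 0) && (V c 896).elem x) ||
    (decide (c = 2688) && decide (a = -3) && decide (b = -3) && decide (n = 22) &&
      decide (e = 27) && decide (f = 8))

/-- Only the values at `u` occur. -/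
def test (c : ℕ) : Bool :=
  (V c 1035).all fun e => (V c 2024).all fun f => ! good7 c e f ||
    (V c 45).all fun a => (V c 45).all fun b => (V c 230).all fun n => good11 c a b n e f

theorem dead_all : Local.cents.all test = true := by decide +kernel

end Cfsg.Agent.Lib.RecogM23.Classes
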