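import Cfsg.Agent.Lib.RecogM23.Twentythree

/-!
Simple groups of order `10200960`: every degree is congruent to `0`, `±1` or `±11` modulo `23`.
-/

set_option autoImplicit false
set_option linter.style.haveILetI false
set_option linter.unusedSectionVars false

namespace Cfsg.Agent.Lib.RecogM23.Mod23

open Cfsg.Agent.Lib.Characters Cfsg.Agent.Lib.Characters.Basic
open Cfsg.Agent.Lib.Classif Cfsg.Agent.Lib.SmallGroups
open Cfsg.Agent.Lib.Classif.PrimeExceptional (deg)

universe u

/-- The admissible degrees. -/
def okd (k : ℤ) : Bool :=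
  [0, 1, 22, 11, 12].elem (k.natAbs % 23)

variable {G : Type u} [Group G] [Finite G] [IsSimpleGroup G] (h : Nat.card G = 10200960)

include h

theorem okd_deg (χ : Cfsg.IrrCharacter G) : okd (deg χ) = true := by
  classical
  haveI : Fact (Nat.Prime 23) := ⟨by norm_num⟩
  set P : Sylow 23 G := default
  obtain ⟨hP, -, hC, hN⟩ := Twentythree.data h P
  have hCP : Subgroup.centralizer ((P : Subgroup G) : Set G) = P := by
    refine (Subgroup.eq_of_le_of_card_ge ?_ (by rw [hP, hC])).symm
    intro x hx
    haveI := isCyclic_of_prime_card hP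
    haveI : IsMulCommutative (P : Subgroup G) := IsCyclic.isMulCommutative
    rw [Subgroup.mem_centralizer_iff]
    intro y hy
    exact congrArg Subtype.val (mul_comm' (⟨y, hy⟩ : (P : Subgroup G)) ⟨x, hx⟩)
  have hrel : (Subgroup.centralizer ((P : Subgroup G) : Set G)).relIndex
      (Subgroup.normalizer ((P : Subgroup G) : Set G)) = 11 := by
    have h' := Sylow.card_centralizer_mul_relIndex (P : Subgroup G)
    rw [hN, hC] at h'
    omega
  obtain ⟨D⟩ := FirstPowerData.exists_data P hP hrel
  have hperf := Sylow.commutator_eq_top (Base.not_comm h)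
  have h0 := RecogThree.M12.Basic.deg_nonneg χ
  have key : ∀ m : ℕ, m = 0 ∨ m = 1 ∨ m = 22 ∨ m = 11 ∨ m = 12 →
      (deg χ).natAbs % 23 = m → okd (deg χ) = true := by
    intro m hm hd
    rcases hm with rfl | rfl | rfl | rfl | rfl <;> simp [okd, hd]
  by_cases h1 : χ = oneChar G
  · subst h1; simp [okd, PrimeExceptional.deg_oneChar]
  by_cases hK : χ ∈ D.K
  · have hd := (FirstPowerKills.signed_facts hperf hP D hK).1
    have := D.a_unit χ hK
    refine key ((deg χ).natAbs % 23) ?_ rfl
    rcases this with e | e <;> rw [e] at hd <;> omega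
  by_cases hF : χ ∈ D.fam
  · have hd := D.θ_cong hP
    rw [← D.fam_deg χ hF] at hd
    refine key ((deg χ).natAbs % 23) ?_ rfl
    rcases D.δ_unit with e | e <;> rw [e] at hd <;> omega
  · have hd := PrimeDegrees.dvd_deg_of_other hP hCP D χ h1 hK hF
    refine key ((deg χ).natAbs % 23) ?_ rfl
    omega

end Cfsg.Agent.Lib.RecogM23.Mod23
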