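import Cfsg.Agent.Lib.RecogM23.DegSearch
import Cfsg.Agent.Lib.RecogM23.Mod23

/-!
The finite searches at the prime `11` for the order `10200960`.
-/

set_option autoImplicit false

namespace Cfsg.Agent.Lib.RecogM23.Eleven

open Cfsg.Agent.Lib.RecogM22.Search (Sums cands add ok init)

/-- The signed degrees of absolute value at least `22`, admissible modulo `23`. -/
def allKs : List ℤ := [23, 45, -230, -252, 276, -483, -736, 1035, 1288, -2760]

theorem cands_eq : (cands 10200960 11 22 1).filter Mod23.okd = allKs := by decide +kernel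

/-- Admissible with a centraliser of order divisible by `q`, `q ^ a` the whole power. -/
def nd (Q : ℕ) (k : ℤ) : Bool := decide (k % (Q : ℤ) ≠ 0)

theorem opts_eleven : (RecogM22.Options.opts 10200960 11 8064 115).all (fun ne : ℕ × ℕ =>
    decide (ne = (185472, 5)) || decide (10200960 / (ne.1 * ne.2 * 11) % 23 = 0) ||
      [(276, 10), (1288, 10), (15456, 10)].elem ne ||
      [(4830, 2), (1288, 2), (3312, 2), (57960, 2), (15456, 2)].elem ne ||
      [(1288, 5), (15456, 5)].elem ne || [(276, 5), (3312, 5)].elem ne ||
      [(3312, 10), (276, 2), (1035, 2), (7360, 2)].elem ne) = true := by decide +kernel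

/-- Filters for `276`. -/
def good336 (k : ℤ) : Bool := Mod23.okd k && nd 9 k && nd 7 k && nd 128 k

/-- Filters for `1288` and `15456`. -/
def good72 (k : ℤ) : Bool := Mod23.okd k && nd 9 k && nd 128 k

theorem dead_336 : DegSearch.dead 10200960 11 10 1 22 (allKs.filter good336) good336 = true := by
  decide +kernel

theorem dead_72 : DegSearch.dead 10200960 11 10 1 22 (allKs.filter good72) good72 = true := by
  decide +kernel

/-- The square condition with `|C(Q)| = 11 V`. -/
def sq (c : ℕ) (s : Sums) : Bool :=
  [96, 360, 140, 8, 30].any fun V : ℕ => (List.range (V + 1)).any fun j : ℕ =>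
    decide (RecogM22.Basic.tVal 10200960 s * (V : ℤ) = 11 * (c : ℤ) ^ 2 * (j : ℤ) ^ 2)

/-- A search at an involution centralising the Sylow subgroup. -/
def dead (c e t : ℕ) (ks : List ℤ) (extra : Sums → Bool) : Bool :=
  ! Search.go (add (10200960 : ℕ)) (ok (10200960 : ℕ) c) (Family.fin 10200960 c 11 e t 22 extra)
    (Items.pairs 10200960 c 11 ks fun _ => 1) (e - 1) (init (10200960 : ℕ))

theorem dead_two : ((Base.cents 11).filter fun c => decide (c % 23 ≠ 0)).all (fun c =>
    dead c 2 5 allKs fun s => sq c s) = true := by decide +kernel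

/-- The degree `23` alone, for `(276, 2)`. -/
def good1680 (k : ℤ) : Bool := Mod23.okd k && nd 9 k && nd 5 k && nd 7 k && nd 128 k

theorem dead_1680 : ((Base.cents 11).filter fun c => decide (c % 23 ≠ 0)).all (fun c =>
    dead c 2 5 [23] fun s => decide (RecogM22.Basic.tVal 10200960 s = 0)) = true := by
  decide +kernel

theorem ks_1680 : DegSearch.dead 10200960 11 2 5 22
    ((allKs.filter good1680).filter fun k => decide (k ≠ 23)) good1680 = true := by decide +kernel

/-- Filters for `1035`. -/
def good448 (k : ℤ) : Bool := Mod23.okd k && nd 7 k && nd 128 k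

theorem ks_448 : DegSearch.dead 10200960 11 2 5 22
    ((allKs.filter good448).filter fun k => decide (k ≠ 23) && decide (k ≠ 45)) good448 = true := by
  decide +kernel

/-- Filters at `7` for the centraliser of order `1540`. -/
def good220 (k : ℤ) : Bool := Mod23.okd k && nd 5 k && nd 11 k

/-- The signed degrees at `7` for the centraliser of order `1540`. -/
def ks220 : List ℤ := [-69, 92, 288, 414, -552, 736]

theorem ks220_eq : (cands 10200960 7 14 1).filter good220 = ks220 := by decide +kernel

theorem dead_220 : DegSearch.dead 10200960 7 2 3 14 ks220 good220 = true := by decide +kernel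

theorem factors : (∀ k ∈ RecogM22.Options.divs 7360, k % 11 = 1 → (7360 / k) % 7 = 1 →
      k = 7360) ∧
    (∀ k ∈ RecogM22.Options.divs 1035, k % 11 = 1 → (1035 / k) % 7 = 1 → k = 1035) ∧
    (∀ k ∈ RecogM22.Options.divs 3312, k % 11 = 1 → (3312 / k) % 7 = 1 → k = 3312 ∨ k = 1) := by
  decide +kernel

theorem opts_seven_3312 : (RecogM22.Options.opts 10200960 7 5760 253).all (fun ne : ℕ × ℕ =>
    decide (ne.1 = 3312 → ne.2 = 2)) = true := by decide +kernel

end Cfsg.Agent.Lib.RecogM23.Eleven
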