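import Cfsg.Agent.Lib.RecogM23.CertEleven11
import Mathlib.Tactic.IntervalCases

/-!
Kernel checks for the involutions of the group of order `7920`.
-/

set_option autoImplicit false

namespace Cfsg.Agent.Lib.RecogM23.CertEleven11

open Cfsg.Agent.Lib.Computation

theorem covered_zero : covered 0 = true := by decide +kernel

theorem covered_one : covered 1 = true := by decide +kernel

theorem covered_two : covered 2 = true := by decide +kernel

theorem covered_three : covered 3 = true := by decide +kernel

theorem covered_four : covered 4 = true := by decide +kernel

theorem covered_five : covered 5 = true := by decide +kernel

theorem covered_six : covered 6 = true := by decide +kernel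

theorem covered_seven : covered 7 = true := by decide +kernel

theorem covered_eight : covered 8 = true := by decide +kernel

theorem covered_nine : covered 9 = true := by decide +kernel

theorem covered_ten : covered 10 = true := by decide +kernel

theorem covered_eleven : covered 11 = true := by decide +kernel

theorem counts : ((List.range 10).all fun i =>
    atMost ((invs.countP (test (pows (i + 1)))))) = true := by decide +kernel

theorem covered_all : ∀ j < 12, covered j = true := by
  intro j hj
  interval_cases j
  exacts [covered_zero, covered_one, covered_two, covered_three, covered_four, covered_five,
    covered_six, covered_seven, covered_eight, covered_nine, covered_ten, covered_eleven]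

theorem q₀_ok : okPerm 24 5 q₀ = true := by decide +kernel

theorem q₀_order : isId q₀ = false ∧ isId (pows 11) = true := by decide +kernel

theorem q₀_mem : (permRep 24 5 (by decide)).sift Cfsg.Agent.Lib.MathieuFusion.Cert.m11G_chain q₀ = true := by
  decide +kernel

theorem chain_length : (Cfsg.Agent.Lib.MathieuFusion.Cert.m11G_chain.head?.map fun L =>
    L.orb.toList.length) = some 12 := by decide +kernel

end Cfsg.Agent.Lib.RecogM23.CertEleven11
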