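import Cfsg.Agent.Lib.RecogM22.Search

/-!
A search over multisets taking one item at a time, complete because the accumulating bound is
monotone.
-/

set_option autoImplicit false

namespace Cfsg.Agent.Lib.RecogM23.Search

open Cfsg.Agent.Lib.RecogM22.Search (rep search)

/-- Up to `n` further copies of `it`, then `next`. -/
def copies {ι σ : Type*} (add : σ → ι → σ) (ok : σ → Bool) (next : ℕ → σ → Bool) (it : ι) :
    ℕ → σ → Bool
  | 0, s => next 0 s
  | n + 1, s => next (n + 1) s ||
      (ok (add s it) && copies add ok next it n (add s it))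

/-- Some multiset of `n` items keeps `ok` and ends in `fin`. -/
def go {ι σ : Type*} (add : σ → ι → σ) (ok fin : σ → Bool) : List ι → ℕ → σ → Bool
  | [], n, s => n == 0 && fin s
  | it :: rest, n, s => copies add ok (go add ok fin rest) it n s

theorem ok_of_rep {ι σ : Type*} {add : σ → ι → σ} {ok : σ → Bool} {it : ι}
    (hok : ∀ s it, ok (add s it) = true → ok s = true) :
    ∀ (j : ℕ) (s : σ), ok (rep add it j s) = true → ok s = true
  | 0, _, h => h
  | j + 1, s, h => hok s it (ok_of_rep hok j _ h)

theorem copies_of_rep {ι σ : Type*} {add : σ → ι → σ} {ok : σ → Bool} {next : ℕ → σ → Bool}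
    {it : ι} (hok : ∀ s it, ok (add s it) = true → ok s = true) :
    ∀ (j n : ℕ) (s : σ), j ≤ n → ok (rep add it j s) = true →
      next (n - j) (rep add it j s) = true → copies add ok next it n s = true
  | 0, 0, s, _, _, h => h
  | 0, n + 1, s, _, _, h => by
    simp only [copies, Bool.or_eq_true]
    exact Or.inl h
  | j + 1, 0, s, h, _, _ => absurd h (by omega)
  | j + 1, n + 1, s, h, ho, hn => by
    simp only [copies, Bool.or_eq_true, Bool.and_eq_true]
    refine Or.inr ⟨ok_of_rep hok j _ ho, copies_of_rep hok j n _ (by omega) ho ?_⟩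
    rwa [Nat.add_sub_add_right] at hn

theorem go_of_search {ι σ : Type*} {add : σ → ι → σ} {ok fin : σ → Bool}
    (hok : ∀ s it, ok (add s it) = true → ok s = true) :
    ∀ (items : List ι) (n : ℕ) (s : σ), search add ok fin items n s = true →
      go add ok fin items n s = true
  | [], n, s, h => by simpa [go, search] using h
  | it :: rest, n, s, h => by
    simp only [search, List.any_eq_true, List.mem_range, Bool.and_eq_true] at h
    obtain ⟨j, hj, ho, hs⟩ := h
    exact copies_of_rep hok j n s (Nat.le_of_lt_succ hj) ho (go_of_search hok rest _ _ hs)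

end Cfsg.Agent.Lib.RecogM23.Search
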