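import Cfsg.Agent.Lib.RecogM23.Family
import Cfsg.Agent.Lib.RecogM23.Search

/-!
Searches on the signed degrees of a family alone.
-/

set_option autoImplicit false
set_option linter.style.haveILetI false
set_option linter.unusedSectionVars false

namespace Cfsg.Agent.Lib.RecogM23.DegSearch

open Cfsg.Agent.Lib.Characters Cfsg.Agent.Lib.Classif
open Cfsg.Agent.Lib.Classif.PrimeExceptional (deg natAbs_deg)
open Cfsg.Agent.Lib.RecogM22.Search (search search_complete cands)

/-- Adding a signed degree to the sum and the sum of squares. -/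
def addK (s : ℤ × ℤ) (k : ℤ) : ℤ × ℤ := (s.1 + k, s.2 + k * k)

/-- The bound. -/
def okK (g : ℕ) (s : ℤ × ℤ) : Bool := decide (s.2 ≤ (g : ℤ))

/-- The final test. -/
def finK (g p e t lo : ℕ) (good : ℤ → Bool) (s : ℤ × ℤ) : Bool :=
  decide (lo ≤ s.1.natAbs) && decide (g % s.1.natAbs = 0) && decide ((s.1 - (e : ℤ)) % (p : ℤ) = 0) &&
    decide (s.2 + (t : ℤ) * (s.1 * s.1) ≤ g) && good s.1

/-- No family on these signed degrees. -/
def dead (g p e t lo : ℕ) (ks : List ℤ) (good : ℤ → Bool) : Bool :=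
  ! Search.go addK (okK g) (finK g p e t lo good) ks (e - 1) (1, 1)

theorem add_comm' (s : ℤ × ℤ) (a b : ℤ) : addK (addK s a) b = addK (addK s b) a := by
  simp only [addK, Prod.mk.injEq]
  exact ⟨by ring, by ring⟩

theorem ok_mono (g : ℕ) (s : ℤ × ℤ) (k : ℤ) (h : okK g (addK s k) = true) : okK g s = true := by
  have h1 : s.2 + k * k ≤ (g : ℤ) := of_decide_eq_true h
  exact decide_eq_true (by nlinarith)

theorem foldl_addK : ∀ (l : List ℤ) (s : ℤ × ℤ),
    l.foldl addK s = (s.1 + l.sum, s.2 + (l.map fun k => k * k).sum)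
  | [], s => by simp
  | k :: l, s => by
    rw [List.foldl_cons, foldl_addK l]
    simp only [addK, List.map_cons, List.sum_cons, Prod.mk.injEq]
    exact ⟨by ring, by ring⟩

universe u

variable {G : Type u} [Group G] [Finite G] [IsSimpleGroup G] (hG : ¬ IsMulCommutative G)
  {p : ℕ} [hp : Fact p.Prime] {P : Sylow p G} (hP : Nat.card (P : Subgroup G) = p)
  {e : ℕ} (D : FirstPowerData.Data P e)

include hG hP in
/-- The search finds the family. -/
theorem go_eq_true {g t lo : ℕ} (hg : Nat.card G = g) (ht : D.fam.card = t)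
    (hlo : lo ≤ (deg D.θ).natAbs) {ks : List ℤ} (hmem : ∀ χ ∈ D.K, Family.sk D χ ∈ ks)
    {good : ℤ → Bool} (hgood : good (D.δ * deg D.θ) = true) :
    Search.go addK (okK g) (finK g p e t lo good) ks (e - 1) (1, 1) = true := by
  classical
  have hlist : ∀ F : ℤ → ℤ, ((D.K.toList.map (Family.sk D)).map F).sum =
      ∑ χ ∈ D.K, F (Family.sk D χ) := fun F => by
    rw [List.map_map, Finset.sum_map_toList]; rfl
  have hk : ((D.K.toList.map (Family.sk D)).foldl addK (1, 1)).1 = D.δ * deg D.θ := by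
    rw [foldl_addK, Finset.sum_map_toList, ← D.degree_eq]
    rfl
  have hkk : ((D.K.toList.map (Family.sk D)).foldl addK (1, 1)).2 =
      1 + ∑ χ ∈ D.K, deg χ ^ 2 := by
    rw [foldl_addK]
    simp only [hlist]
    congr 1
    exact Finset.sum_congr rfl fun χ hχ => by
      rw [Family.sk, Family.sq_unit (D.a_unit χ hχ), pow_two]
  have hsq := D.square_sum
  rw [hg] at hsq
  have h0 : 0 ≤ (D.fam.card : ℤ) * deg D.θ ^ 2 := mul_nonneg (Int.natCast_nonneg _) (sq_nonneg _)
  have hcard := D.card_K
  have hs := search_complete (fin := finK g p e t lo good) add_comm' (ok_mono g) ks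
    (D.K.toList.map (Family.sk D)) (1, 1)
    (fun x hx => by
      obtain ⟨χ, hχ, rfl⟩ := List.mem_map.mp hx
      exact hmem χ (Finset.mem_toList.mp hχ))
    (decide_eq_true (by rw [hkk]; linarith))
    (by
      simp only [finK, Bool.and_eq_true, decide_eq_true_eq, hk, hkk, hgood, and_true,
        Family.natAbs_unit D.δ_unit, Family.sq_unit D.δ_unit]
      refine ⟨⟨⟨hlo, Nat.mod_eq_zero_of_dvd ?_⟩, Int.emod_eq_zero_of_dvd (D.θ_cong hP)⟩, ?_⟩
      · rw [← Int.natAbs_natCast g, Int.natAbs_dvd_natAbs]; exact Family.deg_dvd D.θ hg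
      · rw [← ht]; linarith)
  rw [List.length_map, Finset.length_toList, show D.K.card = e - 1 by omega] at hs
  exact Search.go_of_search (ok_mono g) _ _ _ hs

include hG hP in
/-- A dead list contradicts the family. -/
theorem false_of_dead {g t lo : ℕ} (hg : Nat.card G = g) (ht : D.fam.card = t)
    (hlo : lo ≤ (deg D.θ).natAbs) {ks : List ℤ} (hmem : ∀ χ ∈ D.K, Family.sk D χ ∈ ks)
    {good : ℤ → Bool} (hgood : good (D.δ * deg D.θ) = true)
    (h : dead g p e t lo ks good = true) : False := by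
  rw [dead, go_eq_true hG hP D hg ht hlo hmem hgood] at h
  exact Bool.noConfusion h

end Cfsg.Agent.Lib.RecogM23.DegSearch
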