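import Cfsg.Agent.Lib.RecogM23.CertLines
import Cfsg.Agent.Lib.RecogM23.DegSearch

/-!
The searches at the prime `5` with an element of order `7` centralising the Sylow subgroup.
-/

set_option autoImplicit false

namespace Cfsg.Agent.Lib.RecogM23.Five

open Cfsg.Agent.Lib.RecogM22.Search (cands)

/-- Admissible. -/
def good (k : ℤ) : Bool := Lines.okd k && decide (k % 7 ≠ 0)

/-- The signed degrees other than `11`. -/
def ks5 : List ℤ := [-264, 276, 506, 736, -759, 1656, -2024, 3036]

theorem ks5_eq : ((cands 10200960 5 10 1).filter good).filter (fun k => decide (k ≠ 11)) = ks5 := by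
  decide +kernel

theorem dead_two : DegSearch.dead 10200960 5 2 2 10 ks5 good = true := by decide +kernel

theorem dead_four : DegSearch.dead 10200960 5 4 1 10 ks5 good = true := by decide +kernel

end Cfsg.Agent.Lib.RecogM23.Five
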