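import Cfsg.Agent.Lib.RecogM23.CertEleven

/-!
The search at the prime `11` with index five and a centraliser divisible by three.
-/

set_option autoImplicit false

namespace Cfsg.Agent.Lib.RecogM23.Eleven

/-- The signed degrees for a centraliser of order divisible by `3` and `2`. -/
def ks12 : List ℤ := [23, -230, 276, -483, -736, 1288, -2760]

theorem ks12_eq : allKs.filter (fun k => nd 9 k && nd 128 k) = ks12 := by decide +kernel

/-- The centraliser orders. -/
def centsA : List ℕ := (Base.cents 11).filter fun c => decide (c % 23 ≠ 0)

/-- The test. -/
def testA (c : ℕ) : Bool :=
  dead c 5 2 ks12 fun s => decide (RecogM22.Basic.tVal 10200960 s = 0)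

private theorem a0 : (centsA.take 36).all testA = true := by decide +kernel

private theorem a1 : ((centsA.drop 36).take 18).all testA = true := by decide +kernel

private theorem a2 : (centsA.drop 54).all testA = true := by decide +kernel

theorem dead_five_A : centsA.all testA = true := by
  rw [← List.take_append_drop 36 centsA, List.all_append, a0,
    ← List.take_append_drop 18 (centsA.drop 36), List.all_append, a1, List.drop_drop, a2]
  rfl

end Cfsg.Agent.Lib.RecogM23.Eleven
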