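import Cfsg.Agent.Lib.RecogM23.CertEleven

/-!
The search at the prime `11` with index five and a centraliser divisible by five.
-/

set_option autoImplicit false

namespace Cfsg.Agent.Lib.RecogM23.Eleven

/-- The signed degrees for a centraliser of order divisible by `7` and `2`. -/
def ks56 : List ℤ := [23, 45, -230, 276, -736, 1035, -2760]

theorem ks56_eq : allKs.filter (fun k => nd 7 k && nd 128 k) = ks56 := by decide +kernel

/-- The centraliser orders. -/
def centsB : List ℕ := (Base.cents 11).filter fun c => decide (c % 23 ≠ 0) && decide (c % 5 = 0)

theorem dead_five_B : centsB.all (fun c =>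
    dead c 5 2 ks56 fun s => decide (RecogM22.Basic.tVal 10200960 s = 0)) = true := by decide +kernel

end Cfsg.Agent.Lib.RecogM23.Eleven
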