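import Mathlib.Data.Nat.Sqrt
import Mathlib.Tactic

/-!
The values of the characters at an element of order four whose square is the involution.
-/

set_option autoImplicit false

namespace Cfsg.Agent.Lib.RecogM23.Four

/-- The possible orders of the centraliser. -/
def orders : List ℕ := (List.range 673).filterMap fun m =>
  if 2688 % (4 * m) = 0 ∧ 0 < m then some (4 * m) else none

/-- The norm forced by a real part `r`. -/
def nr (r d t : ℤ) : ℤ := r * r + if ((d + t - 2 * r) / 4) % 2 = 0 then 0 else 4

/-- An admissible real part. -/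
def okR (N : ℕ) (r d t : ℤ) : Bool :=
  decide (2 * r ≤ d + t) && decide (-(2 * r) ≤ d + t) && decide ((d + t + 2 * r) % 4 = 0) &&
    decide (2 * ((10200960 / N : ℕ) : ℤ) * r % d = 0)

/-- The admissible real parts. -/
def rs (N : ℕ) (d t : ℤ) : List ℤ :=
  ((List.range (2 * Nat.sqrt N + 1)).map fun i : ℕ => (i : ℤ) - (Nat.sqrt N : ℤ)).filter fun r =>
    okR N r d t && decide (nr r d t ≤ (N : ℤ))

/-- The scaled number of factorisations of an element of order `11`. -/
def x11 (a b c e : ℤ) : ℤ := 10200960 - 680064 * (a + b) - 975744 * c + 266112 * e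

/-- The solution. -/
def sol (N : ℕ) (p a b c e : ℤ) : Bool :=
  decide (N = 32) && decide (p = 2) && decide (x11 a b c e = 77 * 2688 * 32)

/-- The last stage. -/
def last (N : ℕ) (p a b c x e f : ℤ) : Bool :=
  let w := 1 - e + f
  let k := 1 - p - a - b + 2 * w - 2 * x
  let c₁ := 1 + 22 * p + 45 * (a + b) + 230 * c + 1792 * x + 1980 * w + 1035 * e + 2024 * f +
    1540 * k
  let c₂ := 1 + 6 * p - 3 * (a + b) + 22 * c - 36 * w + 27 * e + 8 * f - 28 * k
  let sn := -(13 * c₁) + 253 * c₂
  let dn := -(1771 * c₂) - 21 * c₁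
  let s := sn / 28336
  let d := dn / 28336
  let v := k + s
  let n := 1 + nr p 22 6 + nr a 45 (-3) + nr b 45 (-3) + nr c 230 22 + 2 * nr x 896 0 +
    nr e 1035 27 + nr f 2024 8 + 2 * nr w 990 (-18) + nr d 253 13 + 2 * nr v 770 (-14)
  let x23 := 10200960 - 2782080 * p + 309120 * s + 680064 * (a + b) - 370944 * w + 185472 * v
  let kk := 10200960 + 16692480 * p + 2040192 * (a + b) + 21466368 * c + 2163840 * s +
    6814080 * d + 5193216 * v + 6676992 * w + 7185024 * e + 322560 * f
  ! (decide (sn % 28336 = 0) && decide (dn % 28336 = 0) && okR N d 253 13 && okR N v 770 (-14) &&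
    decide (3 * n + s * s ≤ 3 * (N : ℤ)) && decide (0 ≤ x23) &&
    decide (x23 % (2688 * (N : ℤ)) = 0) && decide (0 ≤ kk) && decide (kk % (2688 * 2688) = 0)) ||
      sol N p a b c e

/-- Only the solution passes. -/
def test (N : ℕ) : Bool :=
  (rs N 45 (-3)).all fun a => (rs N 45 (-3)).all fun b =>
    let n₀ := 1 + nr a 45 (-3) + nr b 45 (-3)
    (rs N 230 22).all fun c => (rs N 896 0).all fun x =>
      let e := x - 1 - a - b + c
      let n₁ := n₀ + nr c 230 22 + 2 * nr x 896 0 + nr e 1035 27
      ! (decide (0 ≤ x11 a b c e) && decide (x11 a b c e % (2688 * (N : ℤ)) = 0) &&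
          okR N e 1035 27 && decide (n₁ ≤ (N : ℤ))) ||
        (rs N 2024 8).all fun f =>
          let w := 1 - e + f
          let n₂ := n₁ + nr f 2024 8 + 2 * nr w 990 (-18)
          ! (okR N w 990 (-18) && decide (n₂ ≤ (N : ℤ))) ||
            (rs N 22 6).all fun p =>
              ! decide (n₂ + nr p 22 6 ≤ (N : ℤ)) || last N p a b c x e f

theorem orders_eq : orders = [4, 8, 12, 16, 24, 28, 32, 48, 56, 64, 84, 96, 112, 128, 168, 192,
    224, 336, 384, 448, 672, 896, 1344, 2688] := by decide +kernel

theorem dead0 : [4, 8, 12, 16, 24, 28, 32, 48, 56, 64, 84, 96, 112, 128, 168, 192, 224, 336, 384,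
    672].all test = true := by decide +kernel

theorem dead1 : [448].all test = true := by decide +kernel

theorem dead2 : [896].all test = true := by decide +kernel

theorem dead3 : [1344, 2688].all test = true := by decide +kernel

theorem dead_all : ∀ N ∈ orders, test N = true := by
  intro N hN
  have key : ∀ n ∈ orders, n ∈ [4, 8, 12, 16, 24, 28, 32, 48, 56, 64, 84, 96, 112, 128, 168, 192,
      224, 336, 384, 672] ∨ n ∈ [448] ∨ n ∈ [896] ∨ n ∈ [1344, 2688] := by decide +kernel
  rcases key N hN with h | h | h | h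
  · exact List.all_eq_true.mp dead0 N h
  · exact List.all_eq_true.mp dead1 N h
  · exact List.all_eq_true.mp dead2 N h
  · exact List.all_eq_true.mp dead3 N h

end Cfsg.Agent.Lib.RecogM23.Four
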