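import Cfsg.Agent.Lib.RecogM23.CertEleven

/-!
The families at the prime `11` at an involution centralising a Sylow subgroup of order `7`, with the
congruences of the central characters modulo `7`.
-/

set_option autoImplicit false

namespace Cfsg.Agent.Lib.RecogM23.Lines

open Cfsg.Agent.Lib.RecogM22.Search (Sums cands add ok init)

/-- Admissible modulo `11`. -/
def okd11 (k : ℤ) : Bool := [0, 1, 10, 5, 6].elem (k.natAbs % 11)

/-- Admissible modulo `23` and `11`. -/
def okd (k : ℤ) : Bool := Mod23.okd k && okd11 k

/-- The signed degrees of the members. -/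
def ks11 : List ℤ := [12, 23, 45, -230, -252, 276, -483, -736, 1035, 1288, -2760]

theorem ks11_eq : (cands 10200960 11 2 1).filter okd = ks11 := by decide +kernel

/-- The congruence of a central character with `m` conjugates commuting, `m` one or three. -/
def om (m : ℕ) (k w : ℤ) : Bool :=
  decide (k % 7 = 0) ||
    if m = 1 then decide ((w * w - k * k) % 7 = 0) else decide ((w - k) * (w - 2 * k) % 7 = 0)

/-- The signed pairs of the members. -/
def items (m c : ℕ) : List (ℤ × ℤ) :=
  (Items.pairs 10200960 c 4 ks11 fun k => k % 4).filter fun kw => om m kw.1 kw.2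

/-- The extra condition on the exceptional pair. -/
def extra (m : ℕ) (s : Sums) : Bool :=
  decide (RecogM22.Basic.tVal 10200960 s = 0) && okd s.k && om m s.k s.w

/-- No family. -/
def dead (m c : ℕ) (l : List (ℤ × ℤ)) (ex : Sums → Bool) : Bool :=
  ! Search.go (add (10200960 : ℕ)) (ok (10200960 : ℕ) c)
    (Family.fin 10200960 c 11 5 2 2 fun s => extra m s && ex s) l 4 (init (10200960 : ℕ))

/-- The sums of the family of `M₂₃`. -/
def other (s : Sums) : Bool :=
  ! (decide (s.k = 896) && decide (s.w = 0) && decide (s.kk = 1 + 1128175) &&
    decide (s.ww = 1 + 1231))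

/-- The centraliser orders with one conjugate commuting. -/
def centsOne : List ℕ := [140, 336, 1120, 2688, 5040, 40320]

/-- The centraliser orders with three conjugates commuting. -/
def centsThree : List ℕ := [112, 504, 896, 1680, 4032, 13440]

theorem cents_eq :
    (((Base.cents 7).filter fun c => decide (c % 11 ≠ 0) && decide (c % 23 ≠ 0)).all fun c =>
      (decide (10200960 / c % 7 = 1) == centsOne.elem c) &&
        (decide (10200960 / c % 7 = 3) == centsThree.elem c)) = true := by decide +kernel

end Cfsg.Agent.Lib.RecogM23.Lines
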