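import Cfsg.Agent.Lib.RecogM23.CertLines

/-!
The searches of the families at `11` with one conjugate commuting.
-/

set_option autoImplicit false

namespace Cfsg.Agent.Lib.RecogM23.Lines

/-- The test. -/
def testOne (c : ℕ) : Bool :=
  dead 1 c (items 1 c) fun s => decide (c ≠ 2688) || other s

theorem a0 : [140, 336, 1120].all testOne = true := by decide +kernel

theorem a1 : [2688].all testOne = true := by decide +kernel

theorem a2 : [5040].all testOne = true := by decide +kernel

theorem a3 : [40320].all testOne = true := by decide +kernel

theorem dead_one : centsOne.all testOne = true := by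
  rw [show centsOne = [140, 336, 1120] ++ ([2688] ++ ([5040] ++ [40320])) from rfl,
    List.all_append, List.all_append, List.all_append, a0, a1, a2, a3]
  rfl

end Cfsg.Agent.Lib.RecogM23.Lines
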