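import Cfsg.Agent.Lib.RecogM23.CertLines

/-!
The searches of the families at `11` with three conjugates commuting.
-/

set_option autoImplicit false

namespace Cfsg.Agent.Lib.RecogM23.Lines

/-- The test. -/
def testThree (c : ℕ) : Bool := dead 3 c (items 3 c) fun _ => true

theorem b0 : [112, 504, 896].all testThree = true := by decide +kernel

theorem b1 : [1680].all testThree = true := by decide +kernel

theorem b2 : [4032].all testThree = true := by decide +kernel

theorem b3 : [13440].all testThree = true := by decide +kernel

theorem dead_three : centsThree.all testThree = true := by
  rw [show centsThree = [112, 504, 896] ++ ([1680] ++ ([4032] ++ [13440])) from rfl,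
    List.all_append, List.all_append, List.all_append, b0, b1, b2, b3]
  rfl

end Cfsg.Agent.Lib.RecogM23.Lines
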