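import Cfsg.Agent.Lib.RecogM23.CertLines

/-!
The members of the family at `11` for the centraliser order `2688`.
-/

set_option autoImplicit false

namespace Cfsg.Agent.Lib.RecogM23.Lines

/-- A pair always occurring. -/
def needs (kw : ℤ × ℤ) : Bool :=
  dead 1 2688 ((items 1 2688).filter fun x => decide (x ≠ kw)) fun _ => true

theorem needs_1035 : needs (1035, 27) = true := by decide +kernel

theorem needs_230 : needs (-230, -22) = true := by decide +kernel

theorem needs_45 : needs (45, -3) = true := by decide +kernel

end Cfsg.Agent.Lib.RecogM23.Lines
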