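import Cfsg.Agent.Lib.RecogM22.Options

/-!
The possible centraliser orders of involutions and of Sylow subgroups of order `7` for the order
`10200960`, when no element but those of order `11` and `23` commutes with such an element.
-/

set_option autoImplicit false

namespace Cfsg.Agent.Lib.RecogM23.Local

/-- The centraliser orders of involutions. -/
def cents : List ℕ :=
  ((RecogM22.Options.divs 128).flatMap fun a => (RecogM22.Options.divs 315).map fun b => a * b).filter
    fun c => decide (c % 4 = 0)

/-- The indices `|N : C|` and the orders of `C` over seven. -/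
def sevens : List (ℕ × ℕ) :=
  [(2, 2880), (3, 1920), (6, 960), (2, 360), (3, 240), (6, 120), (2, 192), (3, 128), (6, 64),
    (2, 80), (2, 45), (3, 30), (6, 15), (2, 24), (3, 16), (6, 8), (2, 10), (2, 3), (3, 2), (6, 1)]

theorem opts_seven : (RecogM22.Options.opts 10200960 7 5760 253).all (fun ne : ℕ × ℕ =>
    let V := 10200960 / (ne.1 * ne.2 * 7)
    decide (V % 11 = 0) || decide (V % 23 = 0) || sevens.elem (ne.2, V)) = true := by decide +kernel

end Cfsg.Agent.Lib.RecogM23.Local
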