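import Cfsg.Agent.Lib.RecogM23.DegSearch

/-!
Searches on the signed degrees of a family together with a weighted count of them.
-/

set_option autoImplicit false
set_option linter.style.haveILetI false
set_option linter.unusedSectionVars false

namespace Cfsg.Agent.Lib.RecogM23.DegCount

open Cfsg.Agent.Lib.Characters Cfsg.Agent.Lib.Classif
open Cfsg.Agent.Lib.Classif.PrimeExceptional (deg natAbs_deg)
open Cfsg.Agent.Lib.RecogM22.Search (search search_complete)

/-- Adding a signed degree and its weight. -/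
def addC (f : ℤ → ℕ) (s : ℤ × ℤ × ℕ) (k : ℤ) : ℤ × ℤ × ℕ :=
  (s.1 + k, s.2.1 + k * k, s.2.2 + f k)

/-- The bound. -/
def okC (g : ℕ) (s : ℤ × ℤ × ℕ) : Bool := decide (s.2.1 ≤ (g : ℤ))

/-- The final test. -/
def finC (g p e t lo : ℕ) (good : ℤ → ℕ → Bool) (s : ℤ × ℤ × ℕ) : Bool :=
  DegSearch.finK g p e t lo (fun k => good k s.2.2) (s.1, s.2.1)

/-- No family on these signed degrees. -/
def dead (g p e t lo : ℕ) (ks : List ℤ) (f : ℤ → ℕ) (good : ℤ → ℕ → Bool) : Bool :=
  ! Search.go (addC f) (okC g) (finC g p e t lo good) ks (e - 1) (1, 1, 0)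

theorem add_comm' (f : ℤ → ℕ) (s : ℤ × ℤ × ℕ) (a b : ℤ) :
    addC f (addC f s a) b = addC f (addC f s b) a := by
  simp only [addC, Prod.mk.injEq]
  exact ⟨by ring, by ring, by ring⟩

theorem ok_mono (f : ℤ → ℕ) (g : ℕ) (s : ℤ × ℤ × ℕ) (k : ℤ) (h : okC g (addC f s k) = true) :
    okC g s = true := by
  have h1 : s.2.1 + k * k ≤ (g : ℤ) := of_decide_eq_true h
  exact decide_eq_true (by nlinarith)

theorem foldl_addC (f : ℤ → ℕ) : ∀ (l : List ℤ) (s : ℤ × ℤ × ℕ),
    l.foldl (addC f) s = (s.1 + l.sum, s.2.1 + (l.map fun k => k * k).sum, s.2.2 + (l.map f).sum)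
  | [], s => by simp
  | k :: l, s => by
    rw [List.foldl_cons, foldl_addC f l]
    simp only [addC, List.map_cons, List.sum_cons, Prod.mk.injEq]
    exact ⟨by ring, by ring, by ring⟩

universe u

variable {G : Type u} [Group G] [Finite G] [IsSimpleGroup G] (hG : ¬ IsMulCommutative G)
  {p : ℕ} [hp : Fact p.Prime] {P : Sylow p G} (hP : Nat.card (P : Subgroup G) = p)
  {e : ℕ} (D : FirstPowerData.Data P e)

include hG hP in
/-- A dead list contradicts the family. -/
theorem false_of_dead {g t lo : ℕ} (hg : Nat.card G = g) (ht : D.fam.card = t)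
    (hlo : lo ≤ (deg D.θ).natAbs) {ks : List ℤ} (hmem : ∀ χ ∈ D.K, Family.sk D χ ∈ ks)
    {f : ℤ → ℕ} {good : ℤ → ℕ → Bool}
    (hgood : good (D.δ * deg D.θ) (∑ χ ∈ D.K, f (Family.sk D χ)) = true)
    (h : dead g p e t lo ks f good = true) : False := by
  classical
  set L := D.K.toList.map (Family.sk D) with hL
  have hk : (L.foldl (addC f) (1, 1, 0)).1 = D.δ * deg D.θ := by
    rw [foldl_addC, hL, Finset.sum_map_toList, ← D.degree_eq]
    rfl
  have hkk : (L.foldl (addC f) (1, 1, 0)).2.1 = 1 + ∑ χ ∈ D.K, deg χ ^ 2 := by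
    rw [foldl_addC]
    simp only [hL, List.map_map, Finset.sum_map_toList, Function.comp_apply]
    congr 1
    exact Finset.sum_congr rfl fun χ hχ => by
      rw [Family.sk, Family.sq_unit (D.a_unit χ hχ), pow_two]
  have hn : (L.foldl (addC f) (1, 1, 0)).2.2 = ∑ χ ∈ D.K, f (Family.sk D χ) := by
    rw [foldl_addC]
    simp only [hL, List.map_map, Finset.sum_map_toList, Function.comp_apply, zero_add]
  have hsq := D.square_sum
  rw [hg] at hsq
  have h0 : 0 ≤ (D.fam.card : ℤ) * deg D.θ ^ 2 := mul_nonneg (Int.natCast_nonneg _) (sq_nonneg _)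
  have hcard := D.card_K
  have hs := search_complete (fin := finC g p e t lo good) (add_comm' f) (ok_mono f g) ks L
    (1, 1, 0)
    (fun x hx => by
      obtain ⟨χ, hχ, rfl⟩ := List.mem_map.mp hx
      exact hmem χ (Finset.mem_toList.mp hχ))
    (decide_eq_true (by rw [hkk]; linarith))
    (by
      simp only [finC, DegSearch.finK, Bool.and_eq_true, decide_eq_true_eq, hk, hkk, hn, hgood,
        and_true, Family.natAbs_unit D.δ_unit, Family.sq_unit D.δ_unit]
      refine ⟨⟨⟨hlo, Nat.mod_eq_zero_of_dvd ?_⟩, Int.emod_eq_zero_of_dvd (D.θ_cong hP)⟩, ?_⟩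
      · rw [← Int.natAbs_natCast g, Int.natAbs_dvd_natAbs]; exact Family.deg_dvd D.θ hg
      · rw [← ht]; linarith)
  rw [hL, List.length_map, Finset.length_toList, show D.K.card = e - 1 by omega] at hs
  rw [dead, Search.go_of_search (ok_mono f g) _ _ _ hs] at h
  exact Bool.noConfusion h

end Cfsg.Agent.Lib.RecogM23.DegCount
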