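import Cfsg.Agent.Lib.RecogM23.CertTwo
import Cfsg.Agent.Lib.RecogM23.DegCount

/-!
The searches at the primes `7` and `11` for a self-centralising Sylow subgroup of order `7` with
index six.
-/

set_option autoImplicit false

namespace Cfsg.Agent.Lib.RecogM23.One

open Cfsg.Agent.Lib.RecogM22.Search (Sums cands add ok init)

/-- Divisible by `7`, or congruent to `±1` modulo it. -/
def ok7 (k : ℤ) : Bool := [0, 1, 6].elem (k.natAbs % 7)

/-- The signed degrees at `11`. -/
def ks11' : List ℤ := [-230, -252, -483, -736, 1035, 1288]

theorem ks11'_eq : Lines.ks11.filter ok7 = ks11' := by decide +kernel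

theorem dead_theta : DegSearch.dead 10200960 11 5 2 2 ks11'
    (fun k => Lines.okd k && ok7 k && decide (k ≠ -160)) = true := by decide +kernel

/-- One count for each of the degrees `160`, `253` and the others but `22`. -/
def wt (k : ℤ) : ℕ :=
  if k.natAbs = 160 then 1 else if k.natAbs = 253 then 16 else if k.natAbs = 22 then 0 else 256

/-- Two of degree `160`, and another degree or two of degree `253`. -/
def bad (k : ℤ) (n : ℕ) : Bool :=
  Lines.okd k && decide (2 ≤ (n + wt k) % 16) &&
    (decide (256 ≤ n + wt k) || decide (2 ≤ n / 16 % 16))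

theorem dead_seven : DegCount.dead 10200960 7 6 1 2 Seven.ks7 wt bad = true := by decide +kernel

/-- A signed degree `-252`. -/
def is252 (k : ℤ) : ℕ := if k = -252 then 1 else 0

theorem dead_252 : DegCount.dead 10200960 11 5 2 2 [-252, -483, 1288] is252
    (fun k n => decide (k = -160) && decide (n ≠ 0)) = true := by decide +kernel

/-- The centraliser orders not divisible by `7`. -/
def cents : List ℕ := Local.cents.filter fun c => decide (c % 7 ≠ 0)

/-- The search of the family at `11`. -/
def testEleven (c : ℕ) : Bool :=
  ! Search.go (add (10200960 : ℕ)) (ok (10200960 : ℕ) c)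
    (Family.fin 10200960 c 11 5 2 2 fun s => decide (RecogM22.Basic.tVal 10200960 s = 0) &&
      decide (s.k = -160) && (decide (c ≠ 1920) || decide (s.w ≠ 0)))
    (Items.pairs 10200960 c 4 [-483, 1288] fun k => k % 4) 4 (init (10200960 : ℕ))

/-- The pairs at `7` without the degree `253`. -/
def items7 : List (ℤ × ℤ) :=
  ((Items.vals 10200960 1920 4 22 2).map fun w => ((22 : ℤ), w)) ++ [(-160, 0)]

/-- The square condition. -/
def extra7 (s : Sums) : Bool :=
  [22, 160, 253].elem s.k.natAbs && (decide (s.k.natAbs ≠ 160) || decide (s.w = 0)) &&
    [0, 1].any fun j : ℕ =>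
      decide (RecogM22.Basic.tVal 10200960 s = 7 * (1920 : ℤ) ^ 2 * (j : ℤ) ^ 2)

/-- No family of the three degrees at the centraliser order `1920`. -/
def testSeven : Bool :=
  ! Search.go (add (10200960 : ℕ)) (ok (10200960 : ℕ) 1920)
    (Family.fin 10200960 1920 7 6 1 2 extra7) items7 5 (init (10200960 : ℕ)) &&
  (Items.vals 10200960 1920 4 253 1).all fun w =>
    ! Search.go (add (10200960 : ℕ)) (ok (10200960 : ℕ) 1920)
      (Family.fin 10200960 1920 7 6 1 2 extra7) items7 4
      (add (10200960 : ℕ) (init (10200960 : ℕ)) (253, w))

theorem dead_1920 : testSeven = true := by decide +kernel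

private theorem c0 : (cents.filter fun c => decide (c < 960)).all testEleven = true := by
  decide +kernel

private theorem c1 : [960, 1152, 1440].all testEleven = true := by decide +kernel

private theorem c2 : [1920].all testEleven = true := by decide +kernel

private theorem c3 : [2880].all testEleven = true := by decide +kernel

private theorem c4 : [5760].all testEleven = true := by decide +kernel

theorem cents_eq : cents.all (fun c => decide (c < 960) ||
    ([960, 1152, 1440] ++ ([1920] ++ ([2880] ++ [5760]))).elem c) = true := by decide +kernel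

theorem dead_one : cents.all testEleven = true := by
  rw [List.all_eq_true]
  intro c hc
  have h := List.all_eq_true.mp cents_eq c hc
  rw [Bool.or_eq_true, decide_eq_true_eq, List.elem_eq_mem, decide_eq_true_eq, List.mem_append,
    List.mem_append, List.mem_append] at h
  rcases h with h | h | h | h | h
  · exact List.all_eq_true.mp c0 c (List.mem_filter.mpr ⟨hc, decide_eq_true h⟩)
  · exact List.all_eq_true.mp c1 c h
  · exact List.all_eq_true.mp c2 c h
  · exact List.all_eq_true.mp c3 c h
  · exact List.all_eq_true.mp c4 c h

end Cfsg.Agent.Lib.RecogM23.One
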