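import Cfsg.Agent.Lib.RecogM23.CertTwo

/-!
The searches at the prime `7` at the involution with centraliser of order `2688`.
-/

set_option autoImplicit false

namespace Cfsg.Agent.Lib.RecogM23.SevenU

open Cfsg.Agent.Lib.RecogM22.Search (Sums add ok init)

/-- The pairs of the members. -/
def items : List (ℤ × ℤ) := Items.pairs 10200960 2688 7 Seven.ks7 fun _ => 1

/-- A degree not divisible by the power of two. -/
def good (s : Sums) : Bool := Lines.okd s.k && decide (s.k % 128 ≠ 0)

/-- The condition on the mixed sum for index six. -/
def square (s : Sums) : Bool :=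
  [8, 64].any fun V : ℕ => (List.range (V + 1)).any fun j =>
    decide (RecogM22.Basic.tVal 10200960 s * (V : ℤ) = 7 * (2688 : ℤ) ^ 2 * (j : ℤ) ^ 2)

/-- No family. -/
def dead (e t : ℕ) (l : List (ℤ × ℤ)) (ex : Sums → Bool) : Bool :=
  ! Search.go (add (10200960 : ℕ)) (ok (10200960 : ℕ) 2688)
    (Family.fin 10200960 2688 7 e t 2 fun s => good s && ex s) l (e - 1) (init (10200960 : ℕ))

/-- The mixed sum vanishes. -/
def zero (s : Sums) : Bool := decide (RecogM22.Basic.tVal 10200960 s = 0)

theorem dead_six : dead 6 1 items square = true := by decide +kernel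

theorem needs_1035 :
    dead 3 2 (items.filter fun x => decide (x ≠ (-1035, -27))) zero = true := by decide +kernel

theorem needs_2024 :
    dead 3 2 (items.filter fun x => decide (x ≠ (2024, 8))) zero = true := by decide +kernel

end Cfsg.Agent.Lib.RecogM23.SevenU
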