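import Cfsg.Agent.Lib.RecogM23.CertLines

/-!
The completion of the family at the prime `23` at the involution with centraliser of order `2688`.
-/

set_option autoImplicit false

namespace Cfsg.Agent.Lib.RecogM23.Table

open Cfsg.Agent.Lib.RecogM22.Search (Sums cands add ok init)

/-- The signed degrees divisible by `11` of the members. -/
def ks : List ℤ := [-22, 231, -528, 990, -1540]

theorem ks_eq : (cands 10200960 23 2 1).filter
    (fun k => Lines.okd k && decide (k % 11 = 0)) = ks := by decide +kernel

/-- The congruence modulo `7`. -/
def sel (k w : ℤ) : Bool := decide ((w * w - k * k) % 7 = 0)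

/-- The pairs of the unknown members. -/
def items : List (ℤ × ℤ) :=
  (Items.pairs 10200960 2688 4 ks fun k => k % 4).filter fun kw => sel kw.1 kw.2

/-- The six known members. -/
def six : List (ℤ × ℤ) := [(-45, 3), (-45, 3), (990, -18), (990, -18), (-896, 0), (-896, 0)]

/-- The sums over the known members. -/
def start : Sums := six.foldl (add (10200960 : ℕ)) (init (10200960 : ℕ))

/-- The condition on the exceptional pair. -/
def extra (s : Sums) : Bool :=
  decide (RecogM22.Basic.tVal 10200960 s = 0) && Lines.okd s.k && sel s.k s.w

/-- The sums of the table. -/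
def expected : Sums := ([(-22, -6), (231, 7), (231, 7), (231, 7)] : List (ℤ × ℤ)).foldl
  (add (10200960 : ℕ)) start

/-- No other completion. -/
def dead (l : List (ℤ × ℤ)) (ex : Sums → Bool) : Bool :=
  ! Search.go (add (10200960 : ℕ)) (ok (10200960 : ℕ) 2688)
    (Family.fin 10200960 2688 23 11 2 2 fun s => extra s && ex s) l 4 start

theorem unique : dead items (fun s => decide (s ≠ expected)) = true := by decide +kernel

theorem needs_22 : dead (items.filter fun x => decide (x ≠ (-22, -6))) (fun _ => true) = true := by
  decide +kernel

theorem expected_eq : expected.k = 770 ∧ expected.w = -14 ∧ expected.kk = start.kk + 160567 ∧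
    expected.ww = start.ww + 183 ∧ start.k = 1 + 2 * (-45 + 990 - 896) ∧
    start.w = 1 + 2 * (3 - 18) := by
  decide +kernel

end Cfsg.Agent.Lib.RecogM23.Table
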