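import Cfsg.Agent.Lib.RecogM23.CertTwo

/-!
The search at the prime `7` with index three, when `15` divides the centraliser.
-/

set_option autoImplicit false

namespace Cfsg.Agent.Lib.RecogM23.Three

open Cfsg.Agent.Lib.RecogM22.Search (Sums cands add ok init)

/-- A degree divisible neither by `5` nor by `9`. -/
def nd (k : ℤ) : Bool := decide (k % 5 ≠ 0) && decide (k % 9 ≠ 0)

/-- The signed degrees of the members. -/
def ks3 : List ℤ := [22, 253, 736, -1518, 2024]

theorem ks3_eq : Seven.ks7.filter nd = ks3 := by decide +kernel

/-- The condition on the exceptional pair. -/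
def extra (s : Sums) : Bool :=
  decide (RecogM22.Basic.tVal 10200960 s = 0) && Lines.okd s.k && nd s.k

/-- No family at the centraliser order `c`. -/
def test (c : ℕ) : Bool :=
  ks3.all fun k₁ => ks3.all fun k₂ =>
    ! DegSearch.finK 10200960 7 3 2 2 (fun k => Lines.okd k && nd k)
        ([k₁, k₂].foldl DegSearch.addK (1, 1)) ||
      (Items.vals 10200960 c 4 k₁ (k₁ % 4)).all fun w₁ =>
        (Items.vals 10200960 c 4 k₂ (k₂ % 4)).all fun w₂ =>
          ! Family.fin 10200960 c 7 3 2 2 extra
            ([(k₁, w₁), (k₂, w₂)].foldl (add (10200960 : ℕ)) (init (10200960 : ℕ)))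

/-- A fourth of the positions of the centraliser orders. -/
def part (r : ℕ) : List ℕ := (List.range 72).filter fun i => decide (i % 4 = r)

theorem d0 : (part 0).all (fun i => test (Local.cents.getD i 4)) = true := by decide +kernel

theorem d1 : (part 1).all (fun i => test (Local.cents.getD i 4)) = true := by decide +kernel

theorem d2 : (part 2).all (fun i => test (Local.cents.getD i 4)) = true := by decide +kernel

theorem d3 : (part 3).all (fun i => test (Local.cents.getD i 4)) = true := by decide +kernel

theorem cents_length : Local.cents.length = 72 := by decide +kernel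

theorem dead : ∀ c ∈ Local.cents, test c = true := by
  intro c hc
  obtain ⟨i, hi, rfl⟩ := List.mem_iff_getElem.mp hc
  have hi' : i < 72 := cents_length ▸ hi
  have hm : i ∈ part (i % 4) :=
    List.mem_filter.mpr ⟨List.mem_range.mpr hi', decide_eq_true rfl⟩
  rw [← List.getD_eq_getElem Local.cents 4 hi]
  have h4 : i % 4 = 0 ∨ i % 4 = 1 ∨ i % 4 = 2 ∨ i % 4 = 3 := by omega
  rcases h4 with e | e | e | e <;> rw [e] at hm
  · exact List.all_eq_true.mp d0 i hm
  · exact List.all_eq_true.mp d1 i hm
  · exact List.all_eq_true.mp d2 i hm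
  · exact List.all_eq_true.mp d3 i hm

end Cfsg.Agent.Lib.RecogM23.Three
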