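import Cfsg.Agent.Lib.RecogM23.Family
import Cfsg.Agent.Lib.RecogM23.Search
import Cfsg.Agent.Lib.RecogM23.Base

/-!
The finite searches at the prime `23` for the order `10200960`.
-/

set_option autoImplicit false

namespace Cfsg.Agent.Lib.RecogM23.Twentythree

open Cfsg.Agent.Lib.RecogM22.Search (Sums cands add ok init)

/-- The signed degrees of absolute value at least `46`. -/
def allKs : List ℤ := [70, -160, 231, -252, -528, 576, -896, 990, -1540, 1680]

theorem cands_eq : cands 10200960 23 46 1 = allKs := by decide +kernel

/-- Those divisible neither by `9` nor by `128`. -/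
def ks : List ℤ := [70, -160, 231, -528, -1540, 1680]

theorem ks_filter : allKs.filter (fun k => decide (k % 9 ≠ 0) && decide (k % 128 ≠ 0)) = ks := by
  decide +kernel

/-- The pairs at an involution centralising the Sylow subgroup. -/
def items (c : ℕ) : List (ℤ × ℤ) := Items.pairs 10200960 c 23 ks fun _ => 1

/-- One search. -/
def dead (c e t : ℕ) (extra : Sums → Bool) : Bool :=
  ! Search.go (add (10200960 : ℕ)) (ok (10200960 : ℕ) c) (Family.fin 10200960 c 23 e t 46 extra) (items c)
    (e - 1) (init (10200960 : ℕ))

theorem dead_eleven : (Base.cents 23).all (fun c =>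
    dead c 11 2 fun s => decide (RecogM22.Basic.tVal 10200960 s = 0)) = true := by decide +kernel

theorem dead_twentytwo : (Base.cents 23).all (fun c =>
    dead c 22 1 fun _ => true) = true := by decide +kernel

theorem opts_twentythree : (RecogM22.Options.opts 10200960 23 1152 385).all (fun ne : ℕ × ℕ =>
    decide (ne = (40320, 11)) ||
      [(70, 11), (70, 22), (1680, 11), (1680, 22), (576, 11), (576, 22)].elem ne) = true := by
  decide +kernel

theorem divs_576 : ∀ k ∈ RecogM22.Options.divs 576, k % 23 = 1 → (576 / k) % 7 = 1 → k = 576 := by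
  decide +kernel

end Cfsg.Agent.Lib.RecogM23.Twentythree
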