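import Cfsg.Agent.Lib.RecogM23.CertLocal
import Cfsg.Agent.Lib.RecogM23.CertLines
import Cfsg.Agent.Lib.RecogM23.DegSearch

/-!
The searches at the prime `7` with index two.
-/

set_option autoImplicit false

namespace Cfsg.Agent.Lib.RecogM23.Seven

open Cfsg.Agent.Lib.RecogM22.Search (Sums cands add ok init)

/-- The signed degrees of the members at `7`. -/
def ks7 : List ℤ := [22, -160, -230, 253, 736, -1035, 1380, -1518, 2024]

theorem ks7_eq : (cands 10200960 7 2 1).filter Lines.okd = ks7 := by decide +kernel

theorem dead_two_deg : DegSearch.dead 10200960 7 2 3 2 (ks7.filter fun k => decide (k ≠ 22))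
    Lines.okd = true := by decide +kernel

/-- The fourth member besides three of degree `23`. -/
def fourthK : List ℤ := [45, -230]

theorem fourth_eq : Lines.ks11.all (fun k => fourthK.elem k ||
    ! DegSearch.finK 10200960 11 5 2 2 Lines.okd
      ([(23 : ℤ), 23, 23, k].foldl DegSearch.addK (1, 1))) = true := by decide +kernel

/-- Three members of degree `23` with the same value, and a fourth. -/
def testTwo (c : ℕ) : Bool :=
  (Items.vals 10200960 c 4 23 (23 % 4)).all fun w =>
    (Items.pairs 10200960 c 4 fourthK fun k => k % 4).all fun kw =>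
      ! Family.fin 10200960 c 11 5 2 2
        (fun s => decide (RecogM22.Basic.tVal 10200960 s = 0) && Lines.okd s.k)
        ([((23 : ℤ), w), (23, w), (23, w), kw].foldl (add (10200960 : ℕ)) (init (10200960 : ℕ)))

theorem dead_two : Local.cents.all testTwo = true := by decide +kernel

end Cfsg.Agent.Lib.RecogM23.Seven
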