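import Cfsg.Agent.Lib.RecogM23.Orbit
import Cfsg.Agent.Lib.H80.ClassMult

/-!
The number of factorisations of an element over two classes.
-/

set_option autoImplicit false
set_option linter.style.haveILetI false
set_option linter.unusedSectionVars false

namespace Cfsg.Agent.Lib.RecogM23.ClassCount

open Cfsg.Agent.Lib.Characters Cfsg.Agent.Lib.Characters.Basic
open Cfsg.Agent.Lib.Classif.PrimeExceptional (deg apply_one_eq)
open scoped ComplexConjugate
open Finset

universe u

variable {G : Type u} [Group G] [Fintype G] [DecidableEq G]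

/-- The factors in the class of `x` with cofactor in the class of `y`. -/
def facs (x y z : G) : Finset G := (Orbit.cls x).filter fun v => v⁻¹ * z ∈ Orbit.cls y

theorem card_fiber (x v : G) :
    (univ.filter fun a => a * x * a⁻¹ = v).card =
      if v ∈ Orbit.cls x then Nat.card (Subgroup.centralizer ({x} : Set G)) else 0 := by
  split_ifs with hv
  · obtain ⟨a₀, ha₀⟩ := isConj_iff.mp (Orbit.mem_cls.mp hv)
    rw [← Fintype.card_subtype, ← Nat.card_eq_fintype_card]
    refine Nat.card_congr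
      { toFun := fun a => ⟨a₀⁻¹ * a.1, ?_⟩
        invFun := fun c => ⟨a₀ * c.1, ?_⟩
        left_inv := fun a => Subtype.ext (by simp)
        right_inv := fun c => Subtype.ext (by simp) }
    · have h : a.1 * x * a.1⁻¹ = a₀ * x * a₀⁻¹ := a.2.trans ha₀.symm
      rw [Subgroup.mem_centralizer_singleton_iff]
      calc a₀⁻¹ * a.1 * x = a₀⁻¹ * (a.1 * x * a.1⁻¹) * a.1 := by group
        _ = x * (a₀⁻¹ * a.1) := by rw [h]; group
    · have h := Subgroup.mem_centralizer_singleton_iff.mp c.2
      show a₀ * c.1 * x * (a₀ * c.1)⁻¹ = v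
      rw [← ha₀, mul_assoc a₀, h]
      group
  · rw [card_eq_zero, filter_eq_empty_iff]
    intro a _ ha
    exact hv (Orbit.mem_cls.mpr (isConj_iff.mpr ⟨a, ha⟩))

theorem sum_deg_mul [Fintype (Cfsg.IrrCharacter G)] (w : G) :
    ∑ χ : Cfsg.IrrCharacter G, (deg χ : ℂ) * (χ : G → ℂ) w =
      if w = 1 then (Nat.card G : ℂ) else 0 := by
  have h := Complete.sum_irr_mul_conj (1 : G) w⁻¹
  rw [Subgroup.centralizer_eq_top_iff_subset.mpr (by simp), Subgroup.card_top] at h
  have h1 : IsConj 1 w⁻¹ ↔ w = 1 := by rw [isConj_one_right, inv_eq_one]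
  simp only [h1] at h
  rw [← h]
  refine sum_congr rfl fun χ _ => ?_
  rw [apply_one_eq, apply_inv (isCharacter_irr χ), Complex.conj_conj]

/-- The factorisation formula. -/
theorem card_facs [Fintype (Cfsg.IrrCharacter G)] (x y z : G) :
    ((facs x y z).card : ℂ) * Nat.card (Subgroup.centralizer ({x} : Set G)) *
        Nat.card (Subgroup.centralizer ({y} : Set G)) =
      (Nat.card G : ℂ) * ∑ χ : Cfsg.IrrCharacter G,
        (χ : G → ℂ) x * (χ : G → ℂ) y * (χ : G → ℂ) z⁻¹ / (deg χ : ℂ) := by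
  have hg : (Nat.card G : ℂ) ≠ 0 := Nat.cast_ne_zero.mpr Nat.card_pos.ne'
  have key : ∑ χ : Cfsg.IrrCharacter G, (deg χ : ℂ) *
      ∑ a : G, ∑ c : G, (χ : G → ℂ) (z⁻¹ * (a * x * a⁻¹) * (c * y * c⁻¹)) =
      (Nat.card G : ℂ) * ((Nat.card G : ℂ) * ∑ χ : Cfsg.IrrCharacter G,
        (χ : G → ℂ) x * (χ : G → ℂ) y * (χ : G → ℂ) z⁻¹ / (deg χ : ℂ)) := by
    rw [mul_sum, mul_sum]
    refine sum_congr rfl fun χ _ => ?_
    have hd : (deg χ : ℂ) ≠ 0 := by rw [← apply_one_eq]; exact apply_one_ne_zero χ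
    rw [sum_congr rfl fun a _ => H80.ClassMult.sum_apply_mul_conj χ _ y, apply_one_eq, ← sum_div,
      ← sum_mul, ← mul_sum, H80.ClassMult.sum_apply_mul_conj, apply_one_eq]
    field_simp
  simp only [mul_sum] at key
  rw [sum_comm, sum_congr rfl fun a _ => sum_comm] at key
  simp only [sum_deg_mul] at key
  rw [← sum_congr rfl fun a _ => (sum_filter (fun c => z⁻¹ * (a * x * a⁻¹) * (c * y * c⁻¹) = 1)
    (fun _ => (Nat.card G : ℂ)))] at key
  simp only [sum_const, nsmul_eq_mul, ← sum_mul] at key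
  rw [← mul_sum (a := (Nat.card G : ℂ)), ← mul_sum (a := (Nat.card G : ℂ)),
    mul_comm (∑ _a : G, _) (Nat.card G : ℂ)] at key
  have key' := mul_left_cancel₀ hg key
  rw [← key']
  have hcount : (facs x y z).card * Nat.card (Subgroup.centralizer ({x} : Set G)) *
      Nat.card (Subgroup.centralizer ({y} : Set G)) =
      ∑ a : G, (univ.filter fun c => z⁻¹ * (a * x * a⁻¹) * (c * y * c⁻¹) = 1).card := by
    have h1 : ∀ a : G, (univ.filter fun c => z⁻¹ * (a * x * a⁻¹) * (c * y * c⁻¹) = 1).card =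
        if a * x * a⁻¹ ∈ facs x y z then Nat.card (Subgroup.centralizer ({y} : Set G)) else 0 := by
      intro a
      have h2 : a * x * a⁻¹ ∈ facs x y z ↔ (a * x * a⁻¹)⁻¹ * z ∈ Orbit.cls y := by
        rw [facs, mem_filter, and_iff_right (Orbit.mem_cls.mpr (isConj_iff.mpr ⟨a, rfl⟩))]
      rw [if_congr h2 rfl rfl, ← card_fiber y]
      congr 1
      ext c
      simp only [mem_filter, mem_univ, true_and]
      rw [mul_eq_one_iff_inv_eq, mul_inv_rev, inv_inv, eq_comm]
    rw [sum_congr rfl fun a _ => h1 a, ← sum_filter, sum_const, smul_eq_mul]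
    congr 1
    rw [card_eq_sum_card_fiberwise (s := univ.filter fun a => a * x * a⁻¹ ∈ facs x y z)
      (f := fun a => a * x * a⁻¹) (t := facs x y z)
      (fun a ha => by simpa using ha), sum_congr rfl fun v hv => ?_, sum_const, smul_eq_mul]
    rw [filter_filter, ← card_fiber x v |>.trans (if_pos (mem_filter.mp hv).1)]
    congr 1
    ext a
    simp only [mem_filter, mem_univ, true_and]
    exact ⟨fun h => h.2, fun h => ⟨h ▸ hv, h⟩⟩
  exact_mod_cast hcount

end Cfsg.Agent.Lib.RecogM23.ClassCount
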