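import Cfsg.Agent.Lib.RecogM23.Rels
import Cfsg.Agent.Lib.RecogM23.CertClasses

/-!
Simple groups of order `10200960`: one class of involutions.
-/

set_option autoImplicit false
set_option linter.style.haveILetI false
set_option linter.unusedSectionVars false

namespace Cfsg.Agent.Lib.RecogM23.Classes

open Cfsg.Agent.Lib.Characters Cfsg.Agent.Lib.Characters.Basic
open Cfsg.Agent.Lib.Classif
open Cfsg.Agent.Lib.Classif.PrimeExceptional (deg apply_one_eq)
open Cfsg.Agent.Lib.RecogM22 (Pairs.T Pairs.T_eq_zero)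
open Cfsg.Agent.Lib.RecogM23.Table

universe u

variable {G : Type u} [Group G] [Finite G] [IsSimpleGroup G] [Fact (Nat.Prime 7)]
  [Fact (Nat.Prime 11)] [Fact (Nat.Prime 23)] (h : Nat.card G = 10200960)

include h

theorem isConj_u (d : Data G) {v : G} (hv : orderOf v = 2) : IsConj d.u v := by
  classical
  haveI := Fintype.ofFinite G
  haveI := Fintype.ofFinite (Cfsg.IrrCharacter G)
  have hG := Base.not_comm h
  set w : Fin 17 → ℤ := fun i => Family.iv v (d.ch i) with hw
  have hall : ∀ (g : G), orderOf g = 2 → ∀ i, d.val i g = (Family.iv g (d.ch i) : ℂ) := by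
    intro g hg i
    rcases eq_or_ne (d.ch i) (oneChar G) with e | e
    · rw [Data.val, e, Family.iv_oneChar, oneChar_apply, Int.cast_one]
    · exact (Family.iv_spec hG e hg h rfl).1
  have hval := hall v hv
  have h7 : ¬ 7 ∣ orderOf v := by rw [hv]; norm_num
  have h11 : ¬ 11 ∣ orderOf v := by rw [hv]; norm_num
  have h23 : ¬ 23 ∣ orderOf v := by rw [hv]; norm_num
  obtain ⟨r11, e12⟩ := d.rel11 h11
  obtain ⟨r7, e14⟩ := d.rel7 h7
  rw [hval, hval, hval, hval, hval] at r11
  rw [hval, hval, hval] at r7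
  rw [hval, hval] at e12 e14
  replace r11 : 1 + w 2 + w 3 - w 4 + w 15 = w 11 := by exact_mod_cast r11
  replace r7 : 1 - w 15 + w 16 = w 13 := by exact_mod_cast r7
  replace e12 : w 12 = w 11 := by exact_mod_cast e12
  replace e14 : w 14 = w 13 := by exact_mod_cast e14
  set c := Nat.card (Subgroup.centralizer ({v} : Set G)) with hc
  have hne : ∀ i : Fin 17, i ≠ 0 → d.ch i ≠ oneChar G := fun i hi => d.one ▸ d.ne hi
  have hmem : ∀ i : Fin 17, i ≠ 0 → w i ∈ V c (dgs i) := by
    intro i hi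
    obtain ⟨-, h4, hlt, hd⟩ := Family.iv_spec hG (hne i hi) hv h rfl
    rw [d.deg_eq] at h4 hlt hd
    have hpos : 0 < dgs i := lt_of_le_of_lt (abs_nonneg _) hlt
    have := abs_lt.mp hlt
    exact Items.mem_vals (by norm_num) (by omega) (by simp only [hw]; omega) h4
      (by simp only [hw]; omega) hd
      (Family.sq_le_centralizer (hval i))
  -- orthogonality
  have hsq : ∑ i, w i * w i = (c : ℤ) := by
    have h' := Complete.sum_irr_mul_conj v v
    rw [if_pos (IsConj.refl v), d.sum_eq, Finset.sum_congr rfl fun i _ => by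
      rw [show (d.ch i : G → ℂ) v = (w i : ℂ) from hval i, map_intCast, ← Int.cast_mul],
      ← Int.cast_sum] at h'
    exact_mod_cast h'
  simp only [Fin.sum_univ_succ, Fin.sum_univ_zero, add_zero] at hsq
  change w 0 * w 0 + (w 1 * w 1 + (w 2 * w 2 + (w 3 * w 3 + (w 4 * w 4 + (w 5 * w 5 + (w 6 * w 6 +
    (w 7 * w 7 + (w 8 * w 8 + (w 9 * w 9 + (w 10 * w 10 + (w 11 * w 11 + (w 12 * w 12 +
    (w 13 * w 13 + (w 14 * w 14 + (w 15 * w 15 + w 16 * w 16))))))))))))))) = (c : ℤ) at hsq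
  have h0 : w 0 = 1 := by simp only [hw]; rw [d.one, Family.iv_oneChar]
  rw [h0, e12, e14] at hsq
  have hn := fun i => mul_self_nonneg (w i)
  -- the mixed sums
  have hT11 := Pairs.T_eq_zero d.F.hP d.F.D d.F.E (by norm_num) d.F.hrel (by decide) hv hv
  rw [d.T11 v v h11 h11, hval, hval, hval, hval, hval] at hT11
  have hT7 := Pairs.T_eq_zero d.S.hR d.S.D d.S.E (by norm_num) d.S.hrel (by decide) hv hv
  rw [d.T7 v v h7 h7, hval, hval, hval] at hT7
  have hT11' : 10200960 + (w 2 * w 2 + w 3 * w 3) * 226688 - w 4 * w 4 * 44352 +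
      w 15 * w 15 * 9856 - w 11 * w 11 * 11385 = 0 := by
    have : ((10200960 + (w 2 * w 2 + w 3 * w 3) * 226688 - w 4 * w 4 * 44352 +
        w 15 * w 15 * 9856 - w 11 * w 11 * 11385 : ℤ) : ℂ) = 0 := by
      push_cast
      linear_combination (10200960 : ℂ) * hT11
    exact_mod_cast this
  have hT7' : 10200960 - w 15 * w 15 * 9856 + w 16 * w 16 * 5040 - w 13 * w 13 * 10304 = 0 := by
    have : ((10200960 - w 15 * w 15 * 9856 + w 16 * w 16 * 5040 - w 13 * w 13 * 10304 : ℤ) : ℂ)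
        = 0 := by
      push_cast
      linear_combination (10200960 : ℂ) * hT7
    exact_mod_cast this
  have hd := List.all_eq_true.mp dead_all c (Local.cent_mem h hv)
  have hd1 := List.all_eq_true.mp (List.all_eq_true.mp hd _ (hmem 15 (by decide))) _
    (hmem 16 (by decide))
  have hgood7 : good7 c (w 15) (w 16) = true := by
    simp only [good7, Bool.and_eq_true, decide_eq_true_eq, r7]
    refine ⟨⟨by linarith [hn 1, hn 2, hn 3, hn 4, hn 5, hn 6, hn 7, hn 8, hn 9, hn 10, hn 11],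
      by norm_num; linarith⟩, ?_⟩
    exact List.elem_iff.mpr (hmem 13 (by decide))
  rw [hgood7, Bool.not_true, Bool.false_or] at hd1
  have hd2 := List.all_eq_true.mp (List.all_eq_true.mp (List.all_eq_true.mp hd1 _
    (hmem 2 (by decide))) _ (hmem 3 (by decide))) _ (hmem 4 (by decide))
  have hx : (decide (1 + w 2 * w 2 + w 3 * w 3 + w 4 * w 4 + w 15 * w 15 + w 16 * w 16 +
      2 * (w 13 * w 13) + 2 * (w 11 * w 11) ≤ (c : ℤ)) &&
      decide (10200960 + (w 2 * w 2 + w 3 * w 3) * (10200960 / 45) -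
        w 4 * w 4 * (10200960 / 230) + w 15 * w 15 * (10200960 / 1035) -
        w 11 * w 11 * (10200960 / 896) = 0) && (V c 896).elem (w 11)) = true := by
    simp only [Bool.and_eq_true, decide_eq_true_eq]
    refine ⟨⟨by linarith [hn 1, hn 5, hn 6, hn 7, hn 8, hn 9, hn 10], by norm_num; linarith⟩, ?_⟩
    exact List.elem_iff.mpr (hmem 11 (by decide))
  simp only [good11, r11, r7, hx, Bool.not_true, Bool.false_or, Bool.and_eq_true,
    decide_eq_true_eq] at hd2
  obtain ⟨⟨⟨⟨⟨hc', w2⟩, w3⟩, w4⟩, w15⟩, w16⟩ := hd2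
  have w11 : w 11 = 0 := by omega
  have w13 : w 13 = -18 := by omega
  rw [hc', w2, w3, w4, w15, w16, w11, w13] at hsq
  -- Cauchy
  have hcross : (0 : ℤ) < ∑ i, ts i * w i := by
    simp only [Fin.sum_univ_succ, Fin.sum_univ_zero, add_zero]
    change (0 : ℤ) < 1 * w 0 + (6 * w 1 + (-3 * w 2 + (-3 * w 3 + (22 * w 4 + (7 * w 5 + (7 * w 6 +
      (7 * w 7 + (13 * w 8 + (-14 * w 9 + (-14 * w 10 + (0 * w 11 + (0 * w 12 + (-18 * w 13 +
      (-18 * w 14 + (27 * w 15 + 8 * w 16)))))))))))))))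
    rw [h0, w2, w3, w4, w15, w16, w11, w13, e12, e14, w11, w13]
    norm_num at hsq
    nlinarith [sq_nonneg (w 1 + 6), sq_nonneg (w 5 + 7), sq_nonneg (w 6 + 7), sq_nonneg (w 7 + 7),
      sq_nonneg (w 8 + 13), sq_nonneg (w 9 - 14), sq_nonneg (w 10 - 14)]
  by_contra hcon
  have h' := Complete.sum_irr_mul_conj d.u v
  rw [if_neg hcon, d.sum_eq, Finset.sum_congr rfl fun i _ => by
    rw [show (d.ch i : G → ℂ) d.u = (ts i : ℂ) from d.iv_eq i ▸ hall d.u d.hu i,
      show (d.ch i : G → ℂ) v = (w i : ℂ) from hval i, map_intCast, ← Int.cast_mul],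
    ← Int.cast_sum] at h'
  have h'' : ∑ i, ts i * w i = 0 := by exact_mod_cast h'
  omega

end Cfsg.Agent.Lib.RecogM23.Classes
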