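import Cfsg.Agent.Lib.RecogM23.Orbit
import Cfsg.Agent.Lib.Classif.PrimeExceptional

/-!
With the whole automorphism group induced, the nontrivial elements of a Sylow subgroup of prime
order are conjugate.
-/

set_option autoImplicit false
set_option linter.style.haveILetI false
set_option linter.unusedSectionVars false

namespace Cfsg.Agent.Lib.RecogM23.Conj

open Cfsg.Agent.Lib.Classif
open Finset

universe u

variable {G : Type u} [Group G] [Finite G] {p : ℕ} [Fact p.Prime] {P : Sylow p G}
  (hP : Nat.card (P : Subgroup G) = p)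

include hP in
theorem isConj_of_full {y z : G} (hy : y ∈ (P : Subgroup G)) (hy1 : y ≠ 1)
    (hz : z ∈ (P : Subgroup G)) (hz1 : z ≠ 1)
    (hrel : (Subgroup.centralizer ((P : Subgroup G) : Set G)).relIndex
      (Subgroup.normalizer ((P : Subgroup G) : Set G)) = p - 1) : IsConj y z := by
  classical
  haveI := Fintype.ofFinite G
  set C := Subgroup.centralizer ((P : Subgroup G) : Set G)
  set N := Subgroup.normalizer ((P : Subgroup G) : Set G)
  haveI := Fintype.ofFinite N
  set y' : N := ⟨y, Subgroup.le_normalizer hy⟩ with hy'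
  have hCy : ∀ g : G, g * y = y * g ↔ g ∈ C := by
    intro g
    refine ⟨fun hg => ?_, fun hg => (Subgroup.mem_centralizer_iff.mp hg y hy).symm⟩
    rw [Subgroup.mem_centralizer_iff]
    intro w hw
    rw [SetLike.mem_coe, ← PrimeExceptional.zpowers_eq P hP hy hy1] at hw
    obtain ⟨i, rfl⟩ := Subgroup.mem_zpowers_iff.mp hw
    exact (Commute.zpow_left (Commute.symm hg) i).eq
  have hcy : Nat.card (Subgroup.centralizer ({y'} : Set N)) = Nat.card (C.subgroupOf N) := by
    refine Nat.card_congr (Equiv.subtypeEquivRight fun g => ?_)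
    rw [Subgroup.mem_centralizer_singleton_iff, Subgroup.mem_subgroupOf, ← hCy, Subtype.ext_iff]
    rfl
  have hidx : (C.subgroupOf N).index = p - 1 := hrel
  have hcard := Orbit.card_cls y'
  rw [hcy, ← Subgroup.card_mul_index (C.subgroupOf N), hidx, mul_comm] at hcard
  have hK : (Orbit.cls y').card = p - 1 := Nat.eq_of_mul_eq_mul_left Nat.card_pos hcard
  set S : Finset G := (Finset.univ.filter fun a => a ∈ (P : Subgroup G)).erase 1
  have hS : S.card = p - 1 := by
    rw [card_erase_of_mem (by simp [one_mem]), ← Fintype.card_subtype, ← Nat.card_eq_fintype_card,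
      hP]
  have hsub : (Orbit.cls y').image Subtype.val ⊆ S := by
    intro a ha
    obtain ⟨b, hb, rfl⟩ := mem_image.mp ha
    obtain ⟨g, -, rfl⟩ := mem_image.mp hb
    refine mem_erase.mpr ⟨fun e => hy1 ?_, mem_filter.mpr ⟨mem_univ _, ?_⟩⟩
    · simpa [hy'] using conj_eq_one_iff.mp (show (g : G) * y * (g : G)⁻¹ = 1 from e)
    · exact (Subgroup.mem_normalizer_iff.mp g.2 y).mp hy
  have heq := eq_of_subset_of_card_le hsub (by
    rw [hS, card_image_of_injective _ Subtype.val_injective, hK])
  have hzS : z ∈ S := mem_erase.mpr ⟨hz1, mem_filter.mpr ⟨mem_univ _, hz⟩⟩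
  rw [← heq] at hzS
  obtain ⟨b, hb, rfl⟩ := mem_image.mp hzS
  obtain ⟨g, -, rfl⟩ := mem_image.mp hb
  exact isConj_iff.mpr ⟨g, rfl⟩

end Cfsg.Agent.Lib.RecogM23.Conj
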