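import Cfsg.Agent.Lib.RecogThree.M12.Fix

/-!
The value at an element with fourth power one.
-/

set_option autoImplicit false
set_option linter.style.haveILetI false
set_option linter.unusedSectionVars false

namespace Cfsg.Agent.Lib.RecogM23.Eigen

open Cfsg.Agent.Lib.Characters Cfsg.Agent.Lib.Characters.Basic
open Cfsg.Agent.Lib.Classif
open Cfsg.Agent.Lib.Classif.PrimeExceptional (deg apply_one_eq)
open Cfsg.Agent.Lib.RecogThree.M12 (Fix.four_case)
open scoped ComplexConjugate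
open Finset

universe u

variable {G : Type u} [Group G] [Finite G]

/-- The value and the multiplicity of `-1`. -/
theorem four (hperf : commutator G = ⊤) (χ : Cfsg.IrrCharacter G) {u : G} (hu : u ^ 4 = 1) {t : ℤ}
    (ht : (χ : G → ℂ) (u ^ 2) = t) :
    ∃ r I : ℤ, (χ : G → ℂ) u = (r : ℂ) + (I : ℂ) * Complex.I ∧ (4 : ℤ) ∣ deg χ + t + 2 * r ∧
      2 * r ≤ deg χ + t ∧ -(2 * r) ≤ deg χ + t ∧
      (((deg χ + t - 2 * r) / 4) % 2 ≠ 0 → 4 ≤ I * I) := by
  classical
  obtain ⟨n, ρ, -, hχ⟩ := exists_rep χ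
  obtain ⟨ι, hι, b, ζ, hζ, hcard, htr⟩ := Diag.exists_eigenbasis ρ u (N := 4) (by norm_num) hu
  choose k hk using fun i => Fix.four_case (hζ i).2
  have hdeg : deg χ = (Fintype.card ι : ℤ) := by
    have h1 := apply_one_eq χ
    rw [← hχ, Representation.char_one, ← hcard] at h1
    exact_mod_cast h1.symm
  have hdet : LinearMap.det (ρ u) = 1 := by
    let D : G →* ℂˣ := ((LinearMap.det).comp ρ).toHomUnits
    have hker : commutator G ≤ D.ker := Abelianization.commutator_subset_ker D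
    exact congrArg Units.val (hker (hperf ▸ Subgroup.mem_top u))
  have hdiag : LinearMap.toMatrix b b (ρ u) = Matrix.diagonal ζ := by
    ext i j
    rw [LinearMap.toMatrix_apply, (hζ j).1, map_smul, Module.Basis.repr_self, Matrix.diagonal]
    by_cases h : i = j
    · subst h; simp
    · simp [h, Finsupp.single_apply, Ne.symm h]
  rw [← LinearMap.det_toMatrix b, hdiag, Matrix.det_diagonal,
    prod_congr rfl fun i _ => hk i, prod_pow_eq_pow_sum] at hdet
  have h4 : 4 ∣ ∑ i, (k i : ℕ) := by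
    rw [Complex.I_pow_eq_pow_mod] at hdet
    have hlt := Nat.mod_lt (∑ i, (k i : ℕ)) (show 4 > 0 by norm_num)
    generalize hr : (∑ i, (k i : ℕ)) % 4 = r at hdet hlt
    interval_cases r
    · exact Nat.dvd_of_mod_eq_zero hr
    all_goals exfalso; norm_num [pow_succ, Complex.ext_iff] at hdet
  let f : Fin 4 → ℤ := ![1, 0, -1, 0]
  let g : Fin 4 → ℤ := ![0, 1, 0, -1]
  let e' : Fin 4 → ℤ := ![1, -1, 1, -1]
  let m : Fin 4 → ℤ := ![0, 0, 1, 0]
  have hval : ∀ j : Fin 4, Complex.I ^ (j : ℕ) = (f j : ℂ) + (g j : ℂ) * Complex.I ∧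
      (Complex.I ^ (j : ℕ)) ^ 2 = (e' j : ℂ) := by
    intro j
    fin_cases j <;> simp [f, g, e', pow_succ, Complex.ext_iff]
  have hu1 : (χ : G → ℂ) u = (∑ i, f (k i) : ℤ) + ((∑ i, g (k i) : ℤ) : ℂ) * Complex.I := by
    rw [← hχ, htr]
    push_cast
    rw [sum_mul, ← sum_add_distrib]
    exact sum_congr rfl fun i _ => by rw [hk i, (hval (k i)).1]
  have hu2 : (χ : G → ℂ) (u ^ 2) = ((∑ i, e' (k i) : ℤ) : ℂ) := by
    rw [← hχ, Representation.character, map_pow,
      Diag.trace_eq_sum_eigenvalues b _ (fun i => ζ i ^ 2) fun i => by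
        rw [pow_two, Module.End.mul_apply, (hζ i).1, map_smul, (hζ i).1, smul_smul, pow_two]]
    push_cast
    exact sum_congr rfl fun i _ => by rw [hk i, (hval (k i)).2]
  rw [ht] at hu2
  have he' : t = ∑ i, e' (k i) := by exact_mod_cast hu2
  have key : ∀ j : Fin 4, 1 + e' j - 2 * f j = 4 * m j ∧ 0 ≤ 1 + e' j + 2 * f j ∧
      (4 : ℤ) ∣ 1 + e' j + 2 * f j ∧ 0 ≤ m j ∧ (4 : ℤ) ∣ ((j : ℕ) : ℤ) - (2 * m j + g j) := by
    decide
  have h1 : deg χ + t - 2 * ∑ i, f (k i) = 4 * ∑ i, m (k i) := by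
    have := sum_congr (s₁ := (univ : Finset ι)) rfl fun i _ => (key (k i)).1
    simp only [sum_sub_distrib, sum_add_distrib, ← mul_sum, sum_const, card_univ, nsmul_eq_mul,
      mul_one] at this
    rw [hdeg, he']
    exact this
  have h2 : (4 : ℤ) ∣ deg χ + t + 2 * ∑ i, f (k i) := by
    have := dvd_sum (s := (univ : Finset ι)) fun i _ => (key (k i)).2.2.1
    simp only [sum_add_distrib, ← mul_sum, sum_const, card_univ, nsmul_eq_mul, mul_one] at this
    rwa [hdeg, he']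
  have h3 : 0 ≤ deg χ + t + 2 * ∑ i, f (k i) := by
    have := sum_nonneg (s := (univ : Finset ι)) fun i _ => (key (k i)).2.1
    simp only [sum_add_distrib, ← mul_sum, sum_const, card_univ, nsmul_eq_mul, mul_one] at this
    rwa [hdeg, he']
  have h4' : 0 ≤ ∑ i, m (k i) := sum_nonneg fun i _ => (key (k i)).2.2.2.1
  have h5 : (4 : ℤ) ∣ 2 * (∑ i, m (k i)) + ∑ i, g (k i) := by
    have := dvd_sum (s := (univ : Finset ι)) fun i _ => (key (k i)).2.2.2.2
    simp only [sum_sub_distrib, sum_add_distrib, ← mul_sum] at this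
    obtain ⟨q, hq⟩ := h4
    rw [show (∑ i, ((k i : ℕ) : ℤ)) = 4 * (q : ℤ) by rw [← Nat.cast_sum, hq]; push_cast; ring]
      at this
    omega
  refine ⟨_, _, hu1, h2, by omega, by omega, fun hodd => ?_⟩
  rw [h1, Int.mul_ediv_cancel_left _ (by norm_num : (4 : ℤ) ≠ 0)] at hodd
  obtain ⟨q, hq⟩ := h5
  generalize ∑ i, g (k i) = I at hq ⊢
  generalize ∑ i, m (k i) = M at hq hodd
  have hI : I % 4 = 2 := by omega
  have h2' : 2 ≤ I ∨ I ≤ -2 := by omega
  rcases h2' with h' | h' <;> nlinarith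

end Cfsg.Agent.Lib.RecogM23.Eigen
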