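import Cfsg.Agent.Lib.RecogM23.Classes

/-!
Simple groups of order `10200960`: an element of order four squaring to the involution.
-/

set_option autoImplicit false
set_option linter.style.haveILetI false
set_option linter.unusedSectionVars false

namespace Cfsg.Agent.Lib.RecogM23.Elem

open Cfsg.Agent.Lib.SmallGroups
open Cfsg.Agent.Lib.RecogM23.Table

universe u

variable {G : Type u} [Group G] [Finite G] [IsSimpleGroup G] [Fact (Nat.Prime 7)]
  [Fact (Nat.Prime 11)] [Fact (Nat.Prime 23)] (h : Nat.card G = 10200960)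

include h

/-- A Sylow subgroup of order `128` has an element of square different from `1`. -/
theorem exists_sq_ne (d : Data G) (T : Sylow 2 G) : ∃ x ∈ (T : Subgroup G), x * x ≠ 1 := by
  classical
  haveI := Fintype.ofFinite G
  haveI : Fact (Nat.Prime 2) := ⟨Nat.prime_two⟩
  by_contra hne
  push Not at hne
  haveI : IsMulCommutative (T : Subgroup G) := ⟨⟨fun a b => Subtype.ext (by
    have ha : (a : G) * a = 1 := hne a a.2
    have hb : (b : G) * b = 1 := hne b b.2
    have hab : (a : G) * b * (a * b) = 1 := hne _ (mul_mem a.2 b.2)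
    calc (a : G) * b = a * (a * b * (a * b)) * b := by rw [hab, mul_one]
      _ = (a * a) * (b * a) * (b * b) := by group
      _ = b * a := by rw [ha, hb, one_mul, mul_one])⟩⟩
  have hT : Nat.card (T : Subgroup G) = 128 := by
    rw [Sylow.card_sylow_eq T (a := 7) (m := 79695) (by rw [h]; norm_num) (by norm_num)]
    norm_num
  set N := Subgroup.normalizer ((T : Subgroup G) : Set G)
  haveI : Nontrivial (T : Subgroup G) := Finite.one_lt_card_iff_nontrivial.mp (by rw [hT]; norm_num)
  obtain ⟨⟨t, htT⟩, ht⟩ := exists_ne (1 : (T : Subgroup G))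
  have ht1 : t ≠ 1 := fun e => ht (Subtype.ext e)
  have hord : ∀ x ∈ (T : Subgroup G), x ≠ 1 → orderOf x = 2 := fun x hx h1 =>
    orderOf_eq_prime (by rw [pow_two]; exact hne x hx) h1
  have htN : t ∈ N := Subgroup.le_normalizer htT
  have hcls : (Orbit.cls (⟨t, htN⟩ : N)).map (Function.Embedding.subtype (fun x => x ∈ N)) =
      (Finset.univ.filter fun x : G => x ∈ (T : Subgroup G) ∧ x ≠ 1) := by
    ext x
    simp only [Finset.mem_map, Finset.mem_filter, Finset.mem_univ, true_and]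
    constructor
    · rintro ⟨z, hz, rfl⟩
      obtain ⟨n, -, rfl⟩ := Finset.mem_image.mp hz
      refine ⟨(Subgroup.mem_normalizer_iff.mp n.2 t).mp htT, fun e => ht1 ?_⟩
      exact conj_eq_one_iff.mp (e : (n : G) * t * (n : G)⁻¹ = 1)
    · rintro ⟨hx, h1⟩
      obtain ⟨g, rfl⟩ := isConj_iff.mp
        ((Classes.isConj_u h d (hord t htT ht1)).symm.trans (Classes.isConj_u h d (hord x hx h1)))
      obtain ⟨n, hn, he⟩ := T.conj_eq_normalizer_conj_of_mem t g⁻¹ htT (by rwa [inv_inv])
      rw [inv_inv] at he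
      refine ⟨(⟨n, hn⟩ : N)⁻¹ * ⟨t, htN⟩ * ((⟨n, hn⟩ : N)⁻¹)⁻¹,
        Finset.mem_image.mpr ⟨_, Finset.mem_univ _, rfl⟩, ?_⟩
      show n⁻¹ * t * n⁻¹⁻¹ = g * t * g⁻¹
      rw [inv_inv, he]
  have hcount : (Orbit.cls (⟨t, htN⟩ : N)).card = 127 := by
    rw [← Finset.card_map (Function.Embedding.subtype (fun x => x ∈ N)), hcls]
    have h1 : (Finset.univ.filter fun x : G => x ∈ (T : Subgroup G)).card = 128 := by
      rw [← hT, Nat.card_eq_fintype_card, ← Fintype.card_subtype]
    have h2 : (Finset.univ.filter fun x : G => x ∈ (T : Subgroup G) ∧ x ≠ 1) =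
        (Finset.univ.filter fun x : G => x ∈ (T : Subgroup G)).erase 1 := by
      ext x; simp [and_comm]
    rw [h2, Finset.card_erase_of_mem (by simp [one_mem]), h1]
  have h127 : 127 ∣ Nat.card N := ⟨_, by rw [← Orbit.card_cls (⟨t, htN⟩ : N), hcount]⟩
  have := h127.trans N.card_subgroup_dvd_card
  rw [h] at this
  norm_num at this

/-- An element of order four squaring to the involution. -/
theorem exists_four (d : Data G) : ∃ b : G, orderOf b = 4 ∧ b * b = d.u := by
  classical
  haveI : Fact (Nat.Prime 2) := ⟨Nat.prime_two⟩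
  obtain ⟨T⟩ : Nonempty (Sylow 2 G) := inferInstance
  obtain ⟨x, hx, hx2⟩ := exists_sq_ne h d T
  obtain ⟨k, hk⟩ := IsPGroup.iff_orderOf.mp T.2 ⟨x, hx⟩
  rw [Subgroup.orderOf_mk] at hk
  have hk2 : 2 ≤ k := by
    by_contra hlt
    refine hx2 ?_
    rw [← pow_two, ← orderOf_dvd_iff_pow_eq_one, hk]
    calc 2 ^ k ∣ 2 ^ 1 := pow_dvd_pow 2 (by omega)
      _ = 2 := by norm_num
  obtain ⟨j, rfl⟩ : ∃ j, k = j + 2 := ⟨k - 2, by omega⟩
  set y := x ^ 2 ^ j
  have hy : orderOf y = 4 := by
    rw [orderOf_pow' _ (pow_ne_zero _ two_ne_zero), hk, pow_add,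
      Nat.gcd_eq_right (dvd_mul_right _ _), Nat.mul_div_cancel_left _ (pow_pos two_pos _)]
    norm_num
  have hy2 : orderOf (y * y) = 2 := by
    rw [← pow_two, orderOf_pow' _ two_ne_zero, hy]
    norm_num
  obtain ⟨g, hg⟩ := isConj_iff.mp (Classes.isConj_u h d hy2)
  refine ⟨g⁻¹ * y * g, ?_, ?_⟩
  · rw [← hy]
    have e := orderOf_injective (MulAut.conj g⁻¹).toMonoidHom (MulAut.conj g⁻¹).injective y
    simpa [MulAut.conj_apply] using e
  · calc g⁻¹ * y * g * (g⁻¹ * y * g) = g⁻¹ * (y * y) * g := by group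
      _ = d.u := by rw [← hg]; group

end Cfsg.Agent.Lib.RecogM23.Elem
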