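import Cfsg.Agent.Lib.RecogThree.M12.Basic
import Cfsg.Agent.Lib.BC77.SmallDegree
import Cfsg.Agent.Lib.PSolvable.Basic
import Cfsg.Agent.Lib.Induced.Burnside

/-!
The fixed space of a cyclic subgroup as a representation of a subgroup centralising it, and a
normal Sylow subgroup from a small faithful degree.
-/

set_option autoImplicit false
set_option linter.style.haveILetI false
set_option linter.unusedSectionVars false

namespace Cfsg.Agent.Lib.RecogM23.FixedSpace

open Cfsg.Agent.Lib.Characters Cfsg.Agent.Lib.Characters.Basic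
open Cfsg.Agent.Lib.Classif.PrimeExceptional (deg apply_one_eq)
open Cfsg.Agent.Lib.RecogThree.M11 (Rep.avg Rep.avg_idem Rep.trace_mul_avg Rep.trace_avg
  Rep.trace_idem Rep.norm_trace_mul_le)

universe u

variable {G : Type u} [Group G] [Finite G] {p : ℕ} {y : G} (hp : p ≠ 0) (hy : y ^ p = 1)
  (χ : Cfsg.IrrCharacter G) {a : ℂ}

include hp hy in
/-- The character of `H` on the fixed space of `y`. -/
theorem exists_character (H : Subgroup G) (hH : ∀ g ∈ H, Commute g y)
    (ha : ∀ g ∈ H, ∀ i : ℕ, 0 < i → i < p → (χ : G → ℂ) (g * y ^ i) = a) :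
    ∃ ψ : H → ℂ, Cfsg.IsCharacter H ψ ∧
      ∀ g : H, (p : ℂ) * ψ g = (χ : G → ℂ) g + ((p : ℂ) - 1) * a := by
  classical
  obtain ⟨n, ρ, -, hρ⟩ := exists_rep χ
  set E := Rep.avg ρ y p with hE
  have hEE : E * E = E := Rep.avg_idem ρ hp hy
  set W := LinearMap.range E with hW'
  have hcomm : ∀ g ∈ H, ρ g * E = E * ρ g := fun g hg => by
    rw [hE, Rep.avg, mul_smul_comm, smul_mul_assoc, Finset.mul_sum, Finset.sum_mul]
    congr 1
    refine Finset.sum_congr rfl fun i _ => ?_
    rw [← map_mul, ← map_mul, ((hH g hg).pow_right i).eq]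
  have hWmem : ∀ g ∈ H, ∀ w ∈ W, ρ g w ∈ W := by
    rintro g hg _ ⟨w, rfl⟩
    exact ⟨ρ g w, by rw [← Module.End.mul_apply, ← hcomm g hg, Module.End.mul_apply]⟩
  let σ : Representation ℂ H W :=
    { toFun := fun g => (ρ (g : G)).restrict (hWmem g g.2)
      map_one' := LinearMap.ext fun w => Subtype.ext (by simp [LinearMap.coe_restrict_apply])
      map_mul' := fun g g' => LinearMap.ext fun w => Subtype.ext (by
        simp [LinearMap.coe_restrict_apply, Module.End.mul_apply]) }
  refine ⟨σ.character, isCharacter_character σ, fun g => ?_⟩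
  have hmem : ∀ w, (ρ (g : G) * E) w ∈ W := fun w =>
    hWmem g g.2 _ (LinearMap.mem_range_self E w)
  have hres : (ρ (g : G) * E).restrict (p := W) (q := W) (fun w _ => hmem w) =
      (ρ (g : G)).restrict (hWmem g g.2) := by
    refine LinearMap.ext ?_
    rintro ⟨_, w, rfl⟩
    apply Subtype.ext
    rw [LinearMap.coe_restrict_apply, LinearMap.coe_restrict_apply, Module.End.mul_apply,
      ← Module.End.mul_apply E E, hEE]
  rw [show σ.character g = LinearMap.trace ℂ W ((ρ (g : G)).restrict (hWmem g g.2)) from rfl,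
    ← hres, LinearMap.trace_restrict_eq_of_forall_mem W (ρ (g : G) * E) hmem, hE,
    Rep.trace_mul_avg, hρ, ← mul_assoc, mul_inv_cancel₀ (Nat.cast_ne_zero.mpr hp), one_mul]
  obtain ⟨q, rfl⟩ : ∃ q, p = q + 1 := ⟨p - 1, by omega⟩
  rw [Finset.sum_range_succ', pow_zero, mul_one, add_comm,
    Finset.sum_congr rfl fun i hi => ha g g.2 (i + 1) (Nat.succ_pos i) (by
      have := Finset.mem_range.mp hi; omega),
    Finset.sum_const, Finset.card_range, nsmul_eq_mul]
  push_cast
  ring

include hp hy in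
/-- A solvable subgroup centralising `y` with a small faithful fixed space has a normal Sylow
subgroup. -/
theorem sylow_normal [IsSimpleGroup G] (hG : ¬ IsMulCommutative G) (hχ : χ ≠ oneChar G)
    (H : Subgroup G) (hH : ∀ g ∈ H, Commute g y) [Group.IsSolvable H]
    (ha : ∀ g ∈ H, ∀ i : ℕ, 0 < i → i < p → (χ : G → ℂ) (g * y ^ i) = a) {m q : ℕ}
    [Fact q.Prime] (hm : (p : ℂ) * m = (deg χ : ℂ) + ((p : ℂ) - 1) * a) (hmq : m + 1 < q)
    (R : Sylow q H) : (R : Subgroup H).Normal := by
  obtain ⟨ψ, hψ, hval⟩ := exists_character hp hy χ H hH ha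
  have hp' : (p : ℂ) ≠ 0 := Nat.cast_ne_zero.mpr hp
  have hψ1 : ψ 1 = (m : ℂ) := by
    have h1 := hval 1
    rw [show ((1 : H) : G) = 1 from rfl, apply_one_eq, ← hm] at h1
    exact mul_left_cancel₀ hp' h1
  refine BC77.SmallDegree.normal_of_lt q PSolvable.isPSolvable_of_isSolvable hψ
    (fun g hg => Subtype.ext ?_) hψ1 hmq R
  by_contra hne
  refine Classif.FirstPowerKills.apply_ne_deg hG χ hχ hne ?_
  have h1 := hval g
  rw [hg, hψ1, hm] at h1
  exact (add_right_cancel h1).symm

include hp in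
/-- An element inverting `y` whose translates all have the value `b`, with a fixed space of `y` of
dimension below `|b|`, does not exist. -/
theorem false_of_inverting {v : G} (hy' : y ^ p = 1) (hv2 : v * v = 1)
    (hinv : v * y * v⁻¹ = y⁻¹) {b m : ℕ} {c : ℂ} (hb : ‖c‖ = b)
    (hval : ∀ i : ℕ, (χ : G → ℂ) (v * y ^ i) = c)
    (ha : ∀ i : ℕ, 0 < i → i < p → (χ : G → ℂ) (y ^ i) = a)
    (hm : (p : ℂ) * m = (deg χ : ℂ) + ((p : ℂ) - 1) * a) (hmb : m < b) : False := by
  classical
  obtain ⟨n, ρ, -, hρ⟩ := exists_rep χ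
  set E := Rep.avg ρ y p with hE
  have hEE : E * E = E := Rep.avg_idem ρ hp hy'
  obtain ⟨q, rfl⟩ : ∃ q, p = q + 1 := ⟨p - 1, by omega⟩
  have hq : ((q + 1 : ℕ) : ℂ) ≠ 0 := Nat.cast_ne_zero.mpr hp
  have htr : LinearMap.trace ℂ (Fin n → ℂ) (ρ v * E) = c := by
    rw [hE, Rep.trace_mul_avg, hρ, Finset.sum_congr rfl fun i _ => hval i, Finset.sum_const,
      Finset.card_range, nsmul_eq_mul, ← mul_assoc, inv_mul_cancel₀ hq, one_mul]
  have hrank : (Module.finrank ℂ (LinearMap.range E) : ℂ) = m := by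
    rw [← Rep.trace_idem E hEE, hE, Rep.trace_avg, hρ]
    refine mul_left_cancel₀ hq ?_
    rw [← mul_assoc, mul_inv_cancel₀ hq, one_mul, hm, Finset.sum_range_succ', pow_zero,
      apply_one_eq, add_comm, Finset.sum_congr rfl fun i hi => ha (i + 1) (Nat.succ_pos i) (by
        have := Finset.mem_range.mp hi; omega),
      Finset.sum_const, Finset.card_range, nsmul_eq_mul]
    push_cast
    ring
  have hy1 : y ^ q = y⁻¹ := eq_inv_of_mul_eq_one_left (by rw [← pow_succ, hy'])
  have hc : ρ v * E = E * ρ v := by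
    refine RecogThree.M11.Rep.comm_avg ρ hy' (r := q) ?_ (hinv.trans hy1.symm)
    exact Nat.coprime_self_add_right.mpr (Nat.coprime_one_right q)
  have hle := Rep.norm_trace_mul_le hEE hc (n := 2) (by norm_num)
    (by rw [← map_pow, pow_two, hv2, map_one])
  rw [htr, hb, show (Module.finrank ℂ (LinearMap.range E)) = m by exact_mod_cast hrank] at hle
  exact absurd (Nat.cast_le.mp hle) (not_le.mpr hmb)

end Cfsg.Agent.Lib.RecogM23.FixedSpace
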