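import Cfsg.Agent.Lib.RecogM23.Tools
import Cfsg.Agent.Lib.RecogM22.Options

/-!
Local tools, second part: the exceptional degree, normal Sylow subgroups of `C(P)`, and an
involution of `C(P)` centralised by an element of prime order.
-/

set_option autoImplicit false
set_option linter.style.haveILetI false
set_option linter.unusedSectionVars false

namespace Cfsg.Agent.Lib.RecogM23.Tools2

open Cfsg.Agent.Lib.Characters Cfsg.Agent.Lib.Characters.Basic
open Cfsg.Agent.Lib.Classif Cfsg.Agent.Lib.SmallGroups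
open Cfsg.Agent.Lib.Classif.PrimeExceptional (deg apply_one_eq natAbs_deg)
open Cfsg.Agent.Lib.RecogThree.M12 (Full.Extra)

universe u

variable {G : Type u} [Group G] [Finite G] {p : ℕ} [hp : Fact p.Prime] {P : Sylow p G}
  (hP : Nat.card (P : Subgroup G) = p) {e : ℕ} (D : FirstPowerData.Data P e)

include hP in
/-- A prime dividing `|C(P)|` does not occur to its full power in the exceptional degree. -/
theorem not_dvd_deg_theta (E : Full.Extra P D) {q a r : ℕ} (hq : q.Prime) (hqp : q ≠ p)
    (hG : Nat.card G = q ^ a * r) (hr : ¬ q ∣ r)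
    (hC : q ∣ Nat.card (Subgroup.centralizer ((P : Subgroup G) : Set G))) :
    ¬ ((q ^ a : ℕ) : ℤ) ∣ deg D.θ := by
  intro hd
  haveI : Fact q.Prime := ⟨hq⟩
  obtain ⟨⟨v, hv⟩, hvo⟩ := exists_prime_orderOf_dvd_card'
    (G := Subgroup.centralizer ((P : Subgroup G) : Set G)) q hC
  rw [Subgroup.orderOf_mk] at hvo
  obtain ⟨⟨y, hy⟩, hyo⟩ := exists_prime_orderOf_dvd_card' (G := (P : Subgroup G)) p (by rw [hP])
  rw [Subgroup.orderOf_mk] at hyo
  have hy1 : y ≠ 1 := fun h => by rw [h, orderOf_one] at hyo; exact hp.out.ne_one hyo.symm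
  have hpv : ¬ p ∣ orderOf v := by
    rw [hvo]; exact fun h => hqp ((Nat.prime_dvd_prime_iff_eq hp.out hq).mp h).symm
  have hcomm : Commute y v := Subgroup.mem_centralizer_iff.mp hv y hy
  have hord : q ∣ orderOf (y * v) := by
    rw [hcomm.orderOf_mul_eq_mul_orderOf_of_coprime
      (by rw [hyo, hvo]; exact (Nat.coprime_primes hp.out hq).mpr (Ne.symm hqp)), hvo, hyo]
    exact dvd_mul_left q p
  have h := E.fam_sum y hy hy1
  rw [Finset.sum_eq_zero fun θ' hθ' => by
    rw [← E.fam_const θ' hθ' y hy hy1 v ((E.mem_V v).2 ⟨hv, hpv⟩)]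
    exact Tools.apply_eq_zero_of_dvd hq hG hr θ' (D.fam_deg θ' hθ' ▸ hd) hord] at h
  rcases D.δ_unit with h' | h' <;> rw [h'] at h <;> norm_num at h

include hP in
/-- A Sylow `q`-subgroup of `G` lying in `C(P)` leaves few Sylow `q`-subgroups in `C(P)`. -/
theorem card_sylow_centralizer_dvd {q m : ℕ} [hq : Fact q.Prime] (hqp : q ≠ p) (R : Sylow q G)
    (hRq : Nat.card (R : Subgroup G) = q)
    (hR : (R : Subgroup G) ≤ Subgroup.centralizer ((P : Subgroup G) : Set G))
    (hC : Nat.card (Subgroup.centralizer ((P : Subgroup G) : Set G)) = p * q * m) :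
    Nat.card (Sylow q (Subgroup.centralizer ((P : Subgroup G) : Set G))) ∣ m := by
  set C := Subgroup.centralizer ((P : Subgroup G) : Set G)
  have hPC : (P : Subgroup G) ≤ C := by
    intro x hx
    haveI := isCyclic_of_prime_card hP
    haveI : IsMulCommutative (P : Subgroup G) := IsCyclic.isMulCommutative
    rw [Subgroup.mem_centralizer_iff]
    intro y hy
    exact congrArg Subtype.val (mul_comm' (⟨y, hy⟩ : (P : Subgroup G)) ⟨x, hx⟩)
  set Nr := Subgroup.normalizer (((R : Subgroup G).subgroupOf C : Subgroup C) : Set C)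
  have hk : Nat.card (Sylow q C) = Nr.index := Sylow.card_eq_index_normalizer (R.subtype hR)
  have h1 : q ∣ Nat.card Nr := by
    refine dvd_trans ?_ (Subgroup.card_dvd_of_le (Subgroup.le_normalizer (H := (R : Subgroup G).subgroupOf C)))
    rw [Nat.card_congr (Subgroup.subgroupOfEquivOfLe hR).toEquiv, hRq]
  have h2 : p ∣ Nat.card Nr := by
    refine dvd_trans ?_ (Subgroup.card_dvd_of_le (show (P : Subgroup G).subgroupOf C ≤ Nr from ?_))
    · rw [Nat.card_congr (Subgroup.subgroupOfEquivOfLe hPC).toEquiv, hP]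
    · intro x hx
      rw [Subgroup.mem_normalizer_iff]
      intro a
      have hxy : ∀ b : C, (b : G) ∈ (R : Subgroup G) → x * b = b * x := fun b hb => Subtype.ext
        (Subgroup.mem_centralizer_iff.mp (hR hb) (x : G) hx)
      constructor
      · intro ha
        rwa [hxy a ha, mul_inv_cancel_right]
      · intro ha
        have := hxy (x * a * x⁻¹) ha
        have h' : x * a * x⁻¹ = a := by
          calc x * a * x⁻¹ = x⁻¹ * (x * (x * a * x⁻¹)) := by group
            _ = x⁻¹ * ((x * a * x⁻¹) * x) := by rw [this]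
            _ = a := by group
        rwa [h'] at ha
  have h3 := (Nat.coprime_primes hp.out hq.out).mpr (Ne.symm hqp) |>.mul_dvd_of_dvd_of_dvd h2 h1
  obtain ⟨f, hf⟩ := h3
  have hprod := Subgroup.card_mul_index Nr
  rw [hC, hf, mul_assoc (p * q)] at hprod
  rw [hk]
  exact ⟨f, by
    rw [mul_comm]
    exact (Nat.eq_of_mul_eq_mul_left (Nat.mul_pos hp.out.pos hq.out.pos) hprod).symm⟩

include hP in
/-- A unique Sylow subgroup of `C(P)` splits the Sylow number. -/
theorem exists_factor {q : ℕ} [hq : Fact q.Prime] (R : Sylow q G)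
    (hR : (R : Subgroup G) ≤ Subgroup.centralizer ((P : Subgroup G) : Set G))
    (h1 : Nat.card (Sylow q (Subgroup.centralizer ((P : Subgroup G) : Set G))) = 1) :
    ∃ k : ℕ, k * Nat.card (Sylow q G) = Nat.card (Sylow p G) ∧ k % p = 1 := by
  set C := Subgroup.centralizer ((P : Subgroup G) : Set G) with hC
  have hle : Subgroup.normalizer ((P : Subgroup G) : Set G) ≤
      Subgroup.normalizer ((R : Subgroup G) : Set G) := by
    refine le_trans (fun g hg => ?_) (Tools.exists_normalizer_le C R hR h1)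
    rw [Subgroup.mem_normalizer_iff]
    intro a
    simp only [hC, Subgroup.mem_centralizer_iff, SetLike.mem_coe] at *
    constructor
    · intro ha y hy
      have h1 := ha (g⁻¹ * y * g) ((Subgroup.mem_normalizer_iff''.mp hg y).mp hy)
      calc y * (g * a * g⁻¹) = g * ((g⁻¹ * y * g) * a) * g⁻¹ := by group
        _ = g * a * g⁻¹ * y := by rw [h1]; group
    · intro ha y hy
      have h1 := ha (g * y * g⁻¹) ((Subgroup.mem_normalizer_iff.mp hg y).mp hy)
      calc y * a = g⁻¹ * ((g * y * g⁻¹) * (g * a * g⁻¹)) * g := by group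
        _ = a * y := by rw [h1]; group
  set N := Subgroup.normalizer ((R : Subgroup G) : Set G) with hN
  have hPN : (P : Subgroup G) ≤ N := Subgroup.le_normalizer.trans hle
  refine ⟨(Subgroup.normalizer ((P : Subgroup G) : Set G)).relIndex N, ?_, ?_⟩
  · rw [R.card_eq_index_normalizer, P.card_eq_index_normalizer]
    exact Subgroup.relIndex_mul_index hle
  · have hmod : Nat.card (Sylow p N) % p = 1 := Sylow.card_sylow_mod
    have hk : Nat.card (Sylow p N) =
        (Subgroup.normalizer (((P : Subgroup G).subgroupOf N : Subgroup N) : Set N)).index :=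
      Sylow.card_eq_index_normalizer (P.subtype hPN)
    rw [← Subgroup.subgroupOf_normalizer_eq hPN] at hk
    rwa [hk] at hmod

/-- An element of prime order `r` normalising a subgroup with Sylow `2`-subgroups of order `2 ^ a`
centralises one of its involutions, unless `r` divides `|C|` or `2 ^ a - 1`. -/
theorem exists_commuting_involution {r : ℕ} [hr : Fact r.Prime] (C : Subgroup G) {a m : ℕ}
    (hC : Nat.card C = 2 ^ a * m) (hm : ¬ 2 ∣ m) (hrC : ¬ r ∣ Nat.card C)
    (hra : ¬ r ∣ 2 ^ a - 1)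
    (hrN : r ∣ Nat.card (Subgroup.normalizer (C : Set G))) :
    ∃ u ∈ C, orderOf u = 2 ∧ r ∣ Nat.card (Subgroup.centralizer ({u} : Set G)) := by
  classical
  haveI : Fact (Nat.Prime 2) := ⟨Nat.prime_two⟩
  set N := Subgroup.normalizer (C : Set G) with hN
  have hCN : C ≤ N := Subgroup.le_normalizer
  set C' := C.subgroupOf N
  haveI : C'.Normal := Subgroup.normal_in_normalizer
  set S : Sylow 2 C' := default
  have hsup := Sylow.normalizer_sup_eq_top S
  set M := Subgroup.normalizer (((S : Subgroup C').map C'.subtype : Subgroup N) : Set N)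
  have hC' : Nat.card C' = Nat.card C := Nat.card_congr (Subgroup.subgroupOfEquivOfLe hCN).toEquiv
  have hrM : r ∣ Nat.card M := by
    have h1 : Nat.card (M ⊔ C' : Subgroup N) ∣ Nat.card M * Nat.card C' := by
      rw [← Subgroup.card_mul_index (C'.subgroupOf (M ⊔ C')),
        Nat.card_congr (Subgroup.subgroupOfEquivOfLe (le_sup_right : C' ≤ M ⊔ C')).toEquiv,
        mul_comm (Nat.card M)]
      refine Nat.mul_dvd_mul_left _ ?_
      rw [← Subgroup.relIndex, Subgroup.relIndex_sup_right]
      exact Subgroup.relIndex_dvd_card C' M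
    rw [hsup, Subgroup.card_top] at h1
    exact ((hr.out.dvd_mul).mp (hrN.trans h1)).resolve_right (hC' ▸ hrC)
  obtain ⟨⟨b, hbM⟩, hb⟩ := exists_prime_orderOf_dvd_card' (G := M) r hrM
  rw [Subgroup.orderOf_mk] at hb
  set T : Subgroup G := ((S : Subgroup C').map C'.subtype).map N.subtype with hT
  have hTC : T ≤ C := by
    rintro _ ⟨_, ⟨x, -, rfl⟩, rfl⟩
    exact x.2
  have hTcard : Nat.card T = 2 ^ a := by
    rw [hT, ← Nat.card_congr (Subgroup.equivMapOfInjective _ _ N.subtype_injective).toEquiv,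
      ← Nat.card_congr (Subgroup.equivMapOfInjective _ _ C'.subtype_injective).toEquiv]
    exact Sylow.card_sylow_eq S (hC'.trans hC) hm
  have hbT : (b : G) ∈ Subgroup.normalizer (T : Set G) :=
    Subgroup.le_normalizer_map N.subtype ⟨b, hbM, rfl⟩
  have hbo : orderOf (b : G) = r := (Subgroup.orderOf_coe b).trans hb
  set B := Subgroup.zpowers (b : G)
  have hBT : B ≤ Subgroup.normalizer (T : Set G) := Subgroup.zpowers_le.mpr hbT
  letI : MulAction B T :=
    { smul := fun y x => ⟨(y : G) * x * (y : G)⁻¹,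
        (Subgroup.mem_normalizer_iff.mp (hBT y.2) x).mp x.2⟩
      one_smul := fun x => Subtype.ext (by
        show (1 : G) * x * (1 : G)⁻¹ = x
        group)
      mul_smul := fun y z x => Subtype.ext (by
        show ((y : G) * z) * x * ((y : G) * z)⁻¹ = y * ((z : G) * x * (z : G)⁻¹) * (y : G)⁻¹
        group) }
  have hB : IsPGroup r B := IsPGroup.of_card (n := 1) (by rw [Nat.card_zpowers, hbo, pow_one])
  have hmod := hB.card_modEq_card_fixedPoints T
  have hne : Nat.card (MulAction.fixedPoints B T) ≠ 1 := by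
    intro he
    rw [he, hTcard] at hmod
    exact hra ((Nat.modEq_iff_dvd' Nat.one_le_two_pow).mp hmod.symm)
  obtain ⟨⟨x, hx⟩, hx1⟩ : ∃ x : MulAction.fixedPoints B T, (x : T) ≠ 1 := by
    by_contra hcon
    push Not at hcon
    refine hne (Nat.card_eq_one_iff_unique.mpr ⟨⟨fun y z => Subtype.ext ((hcon y).trans (hcon z).symm)⟩,
      ⟨⟨1, fun y => Subtype.ext ?_⟩⟩⟩)
    show (y : G) * ((1 : T) : G) * (y : G)⁻¹ = (1 : T)
    simp
  have hcomm : (b : G) * x = x * b := by
    have := congrArg Subtype.val (hx ⟨b, Subgroup.mem_zpowers _⟩)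
    exact mul_inv_eq_iff_eq_mul.mp this
  have hxo : orderOf (x : G) ∣ 2 ^ a := hTcard ▸ Subgroup.orderOf_dvd_natCard T x.2
  have hxne : orderOf (x : G) ≠ 1 := fun e => hx1 (Subtype.ext (orderOf_eq_one_iff.mp e))
  obtain ⟨i, -, hi⟩ := (Nat.dvd_prime_pow Nat.prime_two).mp hxo
  have h2 : 2 ∣ orderOf (x : G) := by
    rw [hi]; exact dvd_pow_self 2 fun h0 => hxne (by rw [hi, h0, pow_zero])
  obtain ⟨d, hd⟩ := h2
  refine ⟨(x : G) ^ d, pow_mem (hTC x.2) d, ?_, ?_⟩
  · have hd0 : d ≠ 0 := fun h0 => (orderOf_pos (x : G)).ne' (by rw [hd, h0, mul_zero])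
    rw [orderOf_pow, hd, Nat.gcd_mul_left_left, Nat.mul_div_cancel _ (Nat.pos_of_ne_zero hd0)]
  · rw [← hbo]
    exact Subgroup.orderOf_dvd_natCard _ (Subgroup.mem_centralizer_singleton_iff.mpr
      ((Commute.pow_right hcomm d).eq))

end Cfsg.Agent.Lib.RecogM23.Tools2
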