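import Cfsg.Agent.Lib.RecogM23.CertFiveA
import Cfsg.Agent.Lib.RecogM23.CertFiveB
import Cfsg.Agent.Lib.RecogM23.Tools2
import Cfsg.Agent.Lib.RecogM23.FixedSpace

/-!
Simple groups of order `10200960`: the Sylow subgroups of order `11` are self-centralising, with
normalisers of order `55`.
-/

set_option autoImplicit false
set_option linter.style.haveILetI false
set_option linter.unusedSectionVars false

namespace Cfsg.Agent.Lib.RecogM23.Eleven

open Cfsg.Agent.Lib.Characters Cfsg.Agent.Lib.Characters.Basic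
open Cfsg.Agent.Lib.Classif Cfsg.Agent.Lib.SmallGroups
open Cfsg.Agent.Lib.Classif.PrimeExceptional (deg natAbs_deg)
open Cfsg.Agent.Lib.RecogM22 (Pairs.T Pairs.T_eq_zero Pairs.exists_square Pairs.card_invCls_le
  Pairs.invCls Pairs.cls Pairs.mul_self_of_mem_cls Pairs.mul_mem_invCls Options.exists_opt
  Options.mem_divs)
open Cfsg.Agent.Lib.RecogThree.M12 (Full.Extra Full.exists_full)

universe u

variable {G : Type u} [Group G] [Finite G] [IsSimpleGroup G] (h : Nat.card G = 10200960)

theorem okd_unit {a x : ℤ} (ha : a = 1 ∨ a = -1) : Mod23.okd (a * x) = Mod23.okd x := by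
  rw [Mod23.okd, Mod23.okd, Family.natAbs_unit ha]

theorem nd_of_not_dvd {Q : ℕ} {a x : ℤ} (ha : a = 1 ∨ a = -1) (hd : ¬ (Q : ℤ) ∣ x) :
    nd Q (a * x) = true := by
  refine decide_eq_true fun hz => hd ?_
  have hd' := Int.dvd_of_emod_eq_zero hz
  rcases ha with e | e <;> rw [e] at hd' <;> simpa using hd'

include h

theorem not_twentythree_dvd [Fact (Nat.Prime 11)] (P : Sylow 11 G)
    (hP : Nat.card (P : Subgroup G) = 11) :
    ¬ 23 ∣ Nat.card (Subgroup.centralizer ((P : Subgroup G) : Set G)) := by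
  intro h23
  haveI : Fact (Nat.Prime 23) := ⟨by norm_num⟩
  obtain ⟨⟨z, hzC⟩, hz⟩ := exists_prime_orderOf_dvd_card'
    (G := Subgroup.centralizer ((P : Subgroup G) : Set G)) 23 h23
  rw [Subgroup.orderOf_mk] at hz
  obtain ⟨S, hS⟩ := (IsPGroup.of_card (n := 1)
    (show Nat.card (Subgroup.zpowers z) = 23 ^ 1 by rw [Nat.card_zpowers, hz, pow_one])
    ).exists_le_sylow
  obtain ⟨hS23, -, hSC, -⟩ := Twentythree.data h S
  have hSz : Subgroup.zpowers z = (S : Subgroup G) :=
    Subgroup.eq_of_le_of_card_ge hS (by rw [hS23, Nat.card_zpowers, hz])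
  have hle : (P : Subgroup G) ≤ Subgroup.centralizer ((S : Subgroup G) : Set G) := by
    intro y hy
    rw [Subgroup.mem_centralizer_iff]
    intro w hw
    rw [SetLike.mem_coe, ← hSz] at hw
    obtain ⟨i, rfl⟩ := Subgroup.mem_zpowers_iff.mp hw
    exact (Commute.zpow_left (Subgroup.mem_centralizer_iff.mp hzC y hy).symm i).eq
  have := Subgroup.card_dvd_of_le hle
  rw [hP, hSC] at this
  norm_num at this

/-- The centraliser of an involution has order prime to `23`. -/
theorem cent_mod {u : G} (hu : orderOf u = 2) :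
    Nat.card (Subgroup.centralizer ({u} : Set G)) % 23 ≠ 0 := by
  intro h0
  haveI : Fact (Nat.Prime 23) := ⟨by norm_num⟩
  obtain ⟨⟨z, hzC⟩, hz⟩ := exists_prime_orderOf_dvd_card'
    (G := Subgroup.centralizer ({u} : Set G)) 23 (Nat.dvd_of_mod_eq_zero h0)
  rw [Subgroup.orderOf_mk] at hz
  obtain ⟨S, hS⟩ := (IsPGroup.of_card (n := 1)
    (show Nat.card (Subgroup.zpowers z) = 23 ^ 1 by rw [Nat.card_zpowers, hz, pow_one])
    ).exists_le_sylow
  obtain ⟨hS23, -, hSC, -⟩ := Twentythree.data h S
  have hSz : Subgroup.zpowers z = (S : Subgroup G) :=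
    Subgroup.eq_of_le_of_card_ge hS (by rw [hS23, Nat.card_zpowers, hz])
  have hmem : u ∈ Subgroup.centralizer ((S : Subgroup G) : Set G) := by
    rw [Subgroup.mem_centralizer_iff]
    intro w hw
    rw [SetLike.mem_coe, ← hSz] at hw
    obtain ⟨i, rfl⟩ := Subgroup.mem_zpowers_iff.mp hw
    exact (Commute.zpow_left (Subgroup.mem_centralizer_singleton_iff.mp hzC) i).eq
  have := Subgroup.orderOf_dvd_natCard _ hmem
  rw [hu, hSC] at this
  norm_num at this

variable [Fact (Nat.Prime 11)] {P : Sylow 11 G} (hP : Nat.card (P : Subgroup G) = 11)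
  {e : ℕ} (D : FirstPowerData.Data P e) (E : Full.Extra P D) {c : ℕ}
  (hC : Nat.card (Subgroup.centralizer ((P : Subgroup G) : Set G)) = c)
  (hc : c ≠ 11 ∧ 11 ∣ c ∧ ¬ 11 ^ 2 ∣ c)

include hP hC hc

theorem hlo : (∀ χ ∈ D.K, 22 ≤ (deg χ).natAbs) ∧ 22 ≤ (deg D.θ).natAbs :=
  PrimeDegrees.two_mul_le_of_centralizer (Base.not_comm h) hP hC hc.1 hc.2.1 hc.2.2 D

theorem mem_allKs {χ : Cfsg.IrrCharacter G} (hχ : χ ∈ D.K) : Family.sk D χ ∈ allKs := by
  rw [← cands_eq, List.mem_filter]
  refine ⟨Family.sk_mem (Base.not_comm h) hP D h hχ ((hlo h hP D hC hc).1 χ hχ), ?_⟩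
  rw [Family.sk, okd_unit (D.a_unit χ hχ)]
  exact Mod23.okd_deg h χ

theorem nd_member {χ : Cfsg.IrrCharacter G} (hχ : χ ∈ D.K) {q a r : ℕ} (hq : q.Prime)
    (hq11 : q ≠ 11) (hg : 10200960 = q ^ a * r) (hr : ¬ q ∣ r) (hqc : q ∣ c) :
    nd (q ^ a) (Family.sk D χ) = true :=
  nd_of_not_dvd (D.a_unit χ hχ) (Tools.not_dvd_deg hP D hq hq11 (h.trans hg) hr (hC ▸ hqc) hχ)

include E in
theorem nd_theta {q a r : ℕ} (hq : q.Prime) (hq11 : q ≠ 11) (hg : 10200960 = q ^ a * r)
    (hr : ¬ q ∣ r) (hqc : q ∣ c) : nd (q ^ a) (D.δ * deg D.θ) = true :=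
  nd_of_not_dvd D.δ_unit (Tools2.not_dvd_deg_theta hP D E hq hq11 (h.trans hg) hr (hC ▸ hqc))

include E in
theorem false_336 (he : e = 10) (h7 : 7 ∣ c) (h3 : 3 ∣ c) (h2 : 2 ∣ c) : False := by
  subst he
  have ht : D.fam.card = 1 := by have := D.fam_card; omega
  refine DegSearch.false_of_dead (Base.not_comm h) hP D h ht (hlo h hP D hC hc).2
    (ks := allKs.filter good336) (good := good336) (fun χ hχ => List.mem_filter.mpr
      ⟨mem_allKs h hP D hC hc hχ, ?_⟩) ?_ dead_336
  all_goals simp only [good336, Bool.and_eq_true]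
  · exact ⟨⟨⟨by rw [Family.sk, okd_unit (D.a_unit χ hχ)]; exact Mod23.okd_deg h χ,
      nd_member h hP D hC hc hχ (q := 3) (a := 2) (r := 1133440) (by norm_num) (by norm_num)
        (by norm_num) (by norm_num) h3⟩,
      nd_member h hP D hC hc hχ (q := 7) (a := 1) (r := 1457280) (by norm_num) (by norm_num)
        (by norm_num) (by norm_num) h7⟩,
      nd_member h hP D hC hc hχ (q := 2) (a := 7) (r := 79695) Nat.prime_two (by norm_num)
        (by norm_num) (by norm_num) h2⟩
  · exact ⟨⟨⟨by rw [okd_unit D.δ_unit]; exact Mod23.okd_deg h _,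
      nd_theta h hP D E hC hc (q := 3) (a := 2) (r := 1133440) (by norm_num) (by norm_num)
        (by norm_num) (by norm_num) h3⟩,
      nd_theta h hP D E hC hc (q := 7) (a := 1) (r := 1457280) (by norm_num) (by norm_num)
        (by norm_num) (by norm_num) h7⟩,
      nd_theta h hP D E hC hc (q := 2) (a := 7) (r := 79695) Nat.prime_two (by norm_num)
        (by norm_num) (by norm_num) h2⟩

include E in
theorem false_72 (he : e = 10) (h3 : 3 ∣ c) (h2 : 2 ∣ c) : False := by
  subst he
  have ht : D.fam.card = 1 := by have := D.fam_card; omega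
  refine DegSearch.false_of_dead (Base.not_comm h) hP D h ht (hlo h hP D hC hc).2
    (ks := allKs.filter good72) (good := good72) (fun χ hχ => List.mem_filter.mpr
      ⟨mem_allKs h hP D hC hc hχ, ?_⟩) ?_ dead_72
  all_goals simp only [good72, Bool.and_eq_true]
  · exact ⟨⟨by rw [Family.sk, okd_unit (D.a_unit χ hχ)]; exact Mod23.okd_deg h χ,
      nd_member h hP D hC hc hχ (q := 3) (a := 2) (r := 1133440) (by norm_num) (by norm_num)
        (by norm_num) (by norm_num) h3⟩,
      nd_member h hP D hC hc hχ (q := 2) (a := 7) (r := 79695) Nat.prime_two (by norm_num)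
        (by norm_num) (by norm_num) h2⟩
  · exact ⟨⟨by rw [okd_unit D.δ_unit]; exact Mod23.okd_deg h _,
      nd_theta h hP D E hC hc (q := 3) (a := 2) (r := 1133440) (by norm_num) (by norm_num)
        (by norm_num) (by norm_num) h3⟩,
      nd_theta h hP D E hC hc (q := 2) (a := 7) (r := 79695) Nat.prime_two (by norm_num)
        (by norm_num) (by norm_num) h2⟩

/-- An involution of `C(P)` with an admissible centraliser order. -/
theorem exists_u (h2 : 2 ∣ c) :
    ∃ u : G, u ∈ Subgroup.centralizer ((P : Subgroup G) : Set G) ∧ orderOf u = 2 ∧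
      Nat.card (Subgroup.centralizer ({u} : Set G)) ∈
        (Base.cents 11).filter fun c => decide (c % 23 ≠ 0) := by
  obtain ⟨u, huC, hu, hcu⟩ := Base.exists_involution h (by norm_num) hP (hC ▸ h2)
  exact ⟨u, huC, hu, List.mem_filter.mpr ⟨hcu, decide_eq_true (cent_mod h hu)⟩⟩

/-- The pairs of a member lie in the items. -/
theorem mem_items {u : G} (huC : u ∈ Subgroup.centralizer ((P : Subgroup G) : Set G))
    (hu : orderOf u = 2) {ks : List ℤ} {χ : Cfsg.IrrCharacter G} (hχ : χ ∈ D.K)
    (hk : Family.sk D χ ∈ ks) :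
    (Family.sk D χ, Family.sw D u χ) ∈
      Items.pairs 10200960 (Nat.card (Subgroup.centralizer ({u} : Set G))) 11 ks fun _ => 1 := by
  obtain ⟨m1, m2, m4, m5, -⟩ := Family.member_spec (Base.not_comm h) hP D h hu rfl hχ
  exact Items.mem_pairs hk (Items.mem_vals (by norm_num) (by norm_num) m1 m2
    (Family.sw_cong (Base.not_comm h) hP D (by norm_num) h hu rfl huC hχ) m4 m5)

include E in
theorem false_square (he : e = 2) {V : ℕ} (hV : V ∈ [96, 360, 140, 8, 30]) (hcV : c = 11 * V)
    (hrel : (Subgroup.centralizer ((P : Subgroup G) : Set G)).relIndex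
      (Subgroup.normalizer ((P : Subgroup G) : Set G)) = e) : False := by
  classical
  haveI := Fintype.ofFinite G
  subst he
  have h2 : 2 ∣ c := by
    simp only [List.mem_cons, List.not_mem_nil, or_false] at hV
    omega
  have ht : D.fam.card = 5 := by have := D.fam_card; omega
  obtain ⟨u, huC, hu, hcu⟩ := exists_u h hP hC hc h2
  obtain ⟨-, -, -, -, -, hT⟩ := Family.sums_spec (Base.not_comm h) hP D h (by norm_num) hu rfl
  obtain ⟨j, hj, hsq⟩ := Pairs.exists_square hP D E (by norm_num) hrel hu
  rw [h, hC, hT] at hsq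
  have hle := Pairs.card_invCls_le (P := P) u
  rw [hj, hC] at hle
  set cu := Nat.card (Subgroup.centralizer ({u} : Set G)) with hcu'
  set s := Family.sums D 10200960 u
  have hz : RecogM22.Basic.tVal 10200960 s * (V : ℤ) = 11 * (cu : ℤ) ^ 2 * (j : ℤ) ^ 2 := by
    rw [hcV] at hsq
    have h' : RecogM22.Basic.tVal 10200960 s * ((11 * V : ℕ) : ℤ) =
        ((11 ^ 2 * cu ^ 2 * j ^ 2 : ℕ) : ℤ) := by exact_mod_cast hsq
    push_cast at h' ⊢
    linarith
  have hextra : sq cu s = true := by
    simp only [sq, List.any_eq_true, List.mem_range, decide_eq_true_eq]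
    exact ⟨V, hV, j, by omega, hz⟩
  have hs := Search.go_of_search (RecogM22.Search.ok_mono _ _) _ _ _
    (Family.search_eq_true (Base.not_comm h) hP D h (by norm_num) hu rfl ht
      (lo := 22) (hlo h hP D hC hc).2 (items := Items.pairs 10200960 cu 11 allKs fun _ => 1)
      (fun χ hχ => mem_items h hP D hC hc huC hu hχ (mem_allKs h hP D hC hc hχ))
      (extra := fun s => sq cu s) hextra)
  have hd := List.all_eq_true.mp dead_two _ hcu
  rw [dead, hs] at hd
  exact Bool.noConfusion hd

include E in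
theorem false_1680 (he : e = 2) (hcV : c = 11 * 1680)
    (hrel : (Subgroup.centralizer ((P : Subgroup G) : Set G)).relIndex
      (Subgroup.normalizer ((P : Subgroup G) : Set G)) = e) : False := by
  classical
  haveI := Fintype.ofFinite G
  subst he
  have ht : D.fam.card = 5 := by have := D.fam_card; omega
  have hgood : ∀ χ ∈ D.K, good1680 (Family.sk D χ) = true := fun χ hχ => by
    simp only [good1680, Bool.and_eq_true]
    exact ⟨⟨⟨⟨by rw [Family.sk, okd_unit (D.a_unit χ hχ)]; exact Mod23.okd_deg h χ,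
      nd_member h hP D hC hc hχ (q := 3) (a := 2) (r := 1133440) (by norm_num) (by norm_num)
        (by norm_num) (by norm_num) (by omega)⟩,
      nd_member h hP D hC hc hχ (q := 5) (a := 1) (r := 2040192) (by norm_num) (by norm_num)
        (by norm_num) (by norm_num) (by omega)⟩,
      nd_member h hP D hC hc hχ (q := 7) (a := 1) (r := 1457280) (by norm_num) (by norm_num)
        (by norm_num) (by norm_num) (by omega)⟩,
      nd_member h hP D hC hc hχ (q := 2) (a := 7) (r := 79695) Nat.prime_two (by norm_num)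
        (by norm_num) (by norm_num) (by omega)⟩
  have hgθ : good1680 (D.δ * deg D.θ) = true := by
    simp only [good1680, Bool.and_eq_true]
    exact ⟨⟨⟨⟨by rw [okd_unit D.δ_unit]; exact Mod23.okd_deg h _,
      nd_theta h hP D E hC hc (q := 3) (a := 2) (r := 1133440) (by norm_num) (by norm_num)
        (by norm_num) (by norm_num) (by omega)⟩,
      nd_theta h hP D E hC hc (q := 5) (a := 1) (r := 2040192) (by norm_num) (by norm_num)
        (by norm_num) (by norm_num) (by omega)⟩,
      nd_theta h hP D E hC hc (q := 7) (a := 1) (r := 1457280) (by norm_num) (by norm_num)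
        (by norm_num) (by norm_num) (by omega)⟩,
      nd_theta h hP D E hC hc (q := 2) (a := 7) (r := 79695) Nat.prime_two (by norm_num)
        (by norm_num) (by norm_num) (by omega)⟩
  obtain ⟨χ, hK⟩ := Finset.card_eq_one.mp (show D.K.card = 1 by have := D.card_K; omega)
  have hχ : χ ∈ D.K := by rw [hK]; exact Finset.mem_singleton_self χ
  have h23 : Family.sk D χ = 23 := by
    by_contra hne
    refine DegSearch.false_of_dead (Base.not_comm h) hP D h ht (hlo h hP D hC hc).2
      (fun χ' hχ' => ?_) hgθ ks_1680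
    rw [hK, Finset.mem_singleton] at hχ'
    subst hχ'
    exact List.mem_filter.mpr ⟨List.mem_filter.mpr ⟨mem_allKs h hP D hC hc hχ, hgood χ' hχ⟩,
      decide_eq_true hne⟩
  have ha : D.a χ = 1 ∧ deg χ = 23 := by
    have := RecogThree.M12.Basic.deg_nonneg χ
    rw [Family.sk] at h23
    rcases D.a_unit χ hχ with e' | e' <;> rw [e'] at h23 ⊢ <;> omega
  obtain ⟨u, huC, hu, hcu⟩ := exists_u h hP hC hc (by omega)
  obtain ⟨m1, m2, -, -, -⟩ := Family.member_spec (Base.not_comm h) hP D h hu rfl hχ
  have hcg := Family.sw_cong (Base.not_comm h) hP D (by norm_num) h hu rfl huC hχ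
  rw [Family.sw, ha.1, one_mul] at m1 m2 hcg
  rw [h23] at m1 m2
  have hw : Family.iv u χ = -21 := by omega
  have hχu : (χ : G → ℂ) u = -21 := by
    rw [(Family.iv_spec (Base.not_comm h) (Family.ne_one_of_mem D hχ) hu h rfl).1, hw]
    norm_num
  obtain ⟨j, hj, hsq⟩ := Pairs.exists_square hP D E (by norm_num) hrel hu
  have hempty : Pairs.invCls P u = ∅ := by
    refine Finset.eq_empty_of_forall_notMem fun v hv => ?_
    obtain ⟨⟨x, hx⟩, hxo⟩ := exists_prime_orderOf_dvd_card' (G := (P : Subgroup G)) 11 (by rw [hP])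
    rw [Subgroup.orderOf_mk] at hxo
    have hv' := (Finset.mem_filter.mp hv).2
    have hy' : x ^ 11 = 1 := by rw [← hxo, pow_orderOf_eq_one]
    have hcl : ∀ i : ℕ, (χ : G → ℂ) (v * x ^ i) = -21 := fun i => by
      have hxi : x ^ i ∈ (P : Subgroup G) := pow_mem hx i
      have e1 : v * x ^ i = (x ^ i)⁻¹ * v := by
        rw [← hv' _ hxi]; group
      have hm : v * x ^ i ∈ Pairs.invCls P u := e1 ▸
        Pairs.mul_mem_invCls hP (by norm_num) hv (inv_mem hxi)
      rw [← hχu]
      exact (classFunction_apply_of_isConj (isClassFunction_irr χ)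
        (Finset.mem_filter.mp (Finset.mem_filter.mp hm).1).2).symm
    refine FixedSpace.false_of_inverting (p := 11) (by norm_num) χ (v := v) hy'
      (Pairs.mul_self_of_mem_cls hP hu (Finset.mem_filter.mp hv).1) (hv' x hx) (b := 21) (m := 3)
      (a := 1) (by norm_num) hcl (fun i hi hi' => ?_) ?_ (by norm_num)
    · have h1 := D.value χ hχ (x ^ i) (pow_mem hx i)
        (pow_ne_one_of_lt_orderOf (by omega) (hxo ▸ hi')) 1 (one_mem _)
        (by rw [orderOf_one]; norm_num)
      rw [mul_one, ha.1] at h1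
      rw [h1]; norm_num
    · rw [ha.2]; norm_num
  rw [hempty, Finset.card_empty] at hj
  obtain rfl : j = 0 := by omega
  obtain ⟨-, -, -, -, -, hT⟩ := Family.sums_spec (Base.not_comm h) hP D h (by norm_num) hu rfl
  rw [h, hC, hT] at hsq
  have h0 : RecogM22.Basic.tVal 10200960 (Family.sums D 10200960 u) = 0 := by
    have h' : RecogM22.Basic.tVal 10200960 (Family.sums D 10200960 u) * (c : ℤ) = 0 := by
      simpa using hsq
    rcases mul_eq_zero.mp h' with h'' | h''
    · exact h''
    · omega
  have hs := Search.go_of_search (RecogM22.Search.ok_mono _ _) _ _ _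
    (Family.search_eq_true (Base.not_comm h) hP D h (by norm_num) hu rfl ht
      (lo := 22) (hlo h hP D hC hc).2
      (items := Items.pairs 10200960 (Nat.card (Subgroup.centralizer ({u} : Set G))) 11 [23]
        fun _ => 1)
      (fun χ' hχ' => mem_items h hP D hC hc huC hu hχ' (by
        rw [hK, Finset.mem_singleton] at hχ'
        rw [hχ', h23]; exact List.mem_singleton_self _))
      (extra := fun s => decide (RecogM22.Basic.tVal 10200960 s = 0)) (decide_eq_true h0))
  have hd := List.all_eq_true.mp dead_1680 _ hcu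
  rw [dead, hs] at hd
  exact Bool.noConfusion hd

include E in
theorem false_five (he : e = 5) (h2 : 2 ∣ c)
    (hrel : (Subgroup.centralizer ((P : Subgroup G) : Set G)).relIndex
      (Subgroup.normalizer ((P : Subgroup G) : Set G)) = e)
    (hor : 3 ∣ c ∧ ¬ 7 ∣ c ∨ 7 ∣ c ∧ ∃ a m : ℕ, c = 2 ^ a * m ∧ ¬ 2 ∣ m ∧ ¬ 5 ∣ c ∧
      ¬ 5 ∣ 2 ^ a - 1) : False := by
  classical
  haveI := Fintype.ofFinite G
  subst he
  have ht : D.fam.card = 2 := by have := D.fam_card; omega
  have hT0 : ∀ u : G, orderOf u = 2 →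
      RecogM22.Basic.tVal 10200960 (Family.sums D 10200960 u) = 0 := fun u hu => by
    obtain ⟨-, -, -, -, -, hT⟩ := Family.sums_spec (Base.not_comm h) hP D h (by norm_num) hu rfl
    rw [Pairs.T_eq_zero hP D E (by norm_num) hrel (by decide) hu hu, zero_mul] at hT
    exact_mod_cast hT.symm
  rcases hor with ⟨h3, -⟩ | ⟨h7, a, m, hcm, hm, h5, ha⟩
  · obtain ⟨u, huC, hu, hcu⟩ := exists_u h hP hC hc h2
    have hs := Search.go_of_search (RecogM22.Search.ok_mono _ _) _ _ _
      (Family.search_eq_true (Base.not_comm h) hP D h (by norm_num) hu rfl ht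
        (lo := 22) (hlo h hP D hC hc).2
        (items := Items.pairs 10200960 (Nat.card (Subgroup.centralizer ({u} : Set G))) 11 ks12
          fun _ => 1)
        (fun χ hχ => mem_items h hP D hC hc huC hu hχ (by
          rw [← ks12_eq]
          refine List.mem_filter.mpr ⟨mem_allKs h hP D hC hc hχ, Bool.and_eq_true_iff.mpr ⟨?_, ?_⟩⟩
          · exact nd_member h hP D hC hc hχ (q := 3) (a := 2) (r := 1133440) (by norm_num)
              (by norm_num) (by norm_num) (by norm_num) h3
          · exact nd_member h hP D hC hc hχ (q := 2) (a := 7) (r := 79695) Nat.prime_two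
              (by norm_num) (by norm_num) (by norm_num) h2))
        (extra := fun s => decide (RecogM22.Basic.tVal 10200960 s = 0))
        (decide_eq_true (hT0 u hu)))
    have hd := List.all_eq_true.mp dead_five_A _ hcu
    rw [testA, dead, hs] at hd
    exact Bool.noConfusion hd
  · haveI : Fact (Nat.Prime 5) := ⟨by norm_num⟩
    have hN : 5 ∣ Nat.card (Subgroup.normalizer
        ((Subgroup.centralizer ((P : Subgroup G) : Set G) : Subgroup G) : Set G)) := by
      have hle : Subgroup.normalizer ((P : Subgroup G) : Set G) ≤ Subgroup.normalizer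
          ((Subgroup.centralizer ((P : Subgroup G) : Set G) : Subgroup G) : Set G) := by
        intro g hg
        rw [Subgroup.mem_normalizer_iff]
        intro b
        simp only [Subgroup.mem_centralizer_iff, SetLike.mem_coe] at *
        constructor
        · intro hb y hy
          have h1 := hb (g⁻¹ * y * g) ((Subgroup.mem_normalizer_iff''.mp hg y).mp hy)
          calc y * (g * b * g⁻¹) = g * ((g⁻¹ * y * g) * b) * g⁻¹ := by group
            _ = g * b * g⁻¹ * y := by rw [h1]; group
        · intro hb y hy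
          have h1 := hb (g * y * g⁻¹) ((Subgroup.mem_normalizer_iff.mp hg y).mp hy)
          calc y * b = g⁻¹ * ((g * y * g⁻¹) * (g * b * g⁻¹)) * g := by group
            _ = b * y := by rw [h1]; group
      refine dvd_trans ?_ (Subgroup.card_dvd_of_le hle)
      rw [← Sylow.card_centralizer_mul_relIndex (P : Subgroup G), hrel]
      exact dvd_mul_left 5 _
    obtain ⟨u, huC, hu, h5u⟩ := Tools2.exists_commuting_involution (r := 5)
      (Subgroup.centralizer ((P : Subgroup G) : Set G)) (hC.trans hcm) hm (hC ▸ h5) ha hN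
    have hcu : Nat.card (Subgroup.centralizer ({u} : Set G)) ∈ centsB := by
      refine List.mem_filter.mpr ⟨Base.cent_mem h (by norm_num) hu ?_, ?_⟩
      · exact hP ▸ Subgroup.card_dvd_of_le fun y hy =>
          Subgroup.mem_centralizer_singleton_iff.mpr (Subgroup.mem_centralizer_iff.mp huC y hy)
      · rw [Bool.and_eq_true, decide_eq_true_eq, decide_eq_true_eq]
        exact ⟨cent_mod h hu, Nat.mod_eq_zero_of_dvd h5u⟩
    have hs := Search.go_of_search (RecogM22.Search.ok_mono _ _) _ _ _
      (Family.search_eq_true (Base.not_comm h) hP D h (by norm_num) hu rfl ht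
        (lo := 22) (hlo h hP D hC hc).2
        (items := Items.pairs 10200960 (Nat.card (Subgroup.centralizer ({u} : Set G))) 11 ks56
          fun _ => 1)
        (fun χ hχ => mem_items h hP D hC hc huC hu hχ (by
          rw [← ks56_eq]
          refine List.mem_filter.mpr ⟨mem_allKs h hP D hC hc hχ, Bool.and_eq_true_iff.mpr ⟨?_, ?_⟩⟩
          · exact nd_member h hP D hC hc hχ (q := 7) (a := 1) (r := 1457280) (by norm_num)
              (by norm_num) (by norm_num) (by norm_num) h7
          · exact nd_member h hP D hC hc hχ (q := 2) (a := 7) (r := 79695) Nat.prime_two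
              (by norm_num) (by norm_num) (by norm_num) h2))
        (extra := fun s => decide (RecogM22.Basic.tVal 10200960 s = 0))
        (decide_eq_true (hT0 u hu)))
    have hd := List.all_eq_true.mp dead_five_B _ hcu
    rw [dead, hs] at hd
    exact Bool.noConfusion hd

omit hP hC hc in
/-- A Sylow `7`-subgroup through an element of `C(P)`. -/
theorem exists_seven [Fact (Nat.Prime 7)]
    (h7 : 7 ∣ Nat.card (Subgroup.centralizer ((P : Subgroup G) : Set G))) :
    ∃ R : Sylow 7 G, Nat.card (R : Subgroup G) = 7 ∧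
      (R : Subgroup G) ≤ Subgroup.centralizer ((P : Subgroup G) : Set G) := by
  obtain ⟨⟨z, hzC⟩, hz⟩ := exists_prime_orderOf_dvd_card'
    (G := Subgroup.centralizer ((P : Subgroup G) : Set G)) 7 h7
  rw [Subgroup.orderOf_mk] at hz
  obtain ⟨R, hR⟩ := (IsPGroup.of_card (n := 1)
    (show Nat.card (Subgroup.zpowers z) = 7 ^ 1 by rw [Nat.card_zpowers, hz, pow_one])
    ).exists_le_sylow
  have hR7 : Nat.card (R : Subgroup G) = 7 := by
    rw [Sylow.card_sylow_eq R (a := 1) (m := 1457280) (by rw [h]; norm_num) (by norm_num), pow_one]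
  refine ⟨R, hR7, ?_⟩
  rw [← Subgroup.eq_of_le_of_card_ge hR (by rw [hR7, Nat.card_zpowers, hz])]
  exact Subgroup.zpowers_le.mpr hzC

/-- The number of Sylow `7`-subgroups, when `C(P)` has one alone. -/
theorem seven_factor [Fact (Nat.Prime 7)] {n : ℕ} (hn : Nat.card (Sylow 11 G) = n)
    (R : Sylow 7 G) (hR : (R : Subgroup G) ≤ Subgroup.centralizer ((P : Subgroup G) : Set G))
    (h1 : Nat.card (Sylow 7 (Subgroup.centralizer ((P : Subgroup G) : Set G))) = 1) :
    ∃ k : ℕ, k ∈ RecogM22.Options.divs n ∧ k % 11 = 1 ∧ (n / k) % 7 = 1 ∧ n / k ≠ 1 ∧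
      Nat.card (Sylow 7 G) = n / k := by
  obtain ⟨k, hk, hk11⟩ := Tools2.exists_factor hP R hR h1
  have hne := Sylow.card_sylow_ne_one (p := 7) (a := 1) (m := 1457280)
    (show Nat.card G = 7 ^ 1 * 1457280 by rw [h]; norm_num) (by norm_num) one_ne_zero (by norm_num)
  have hmod : Nat.card (Sylow 7 G) % 7 = 1 := Sylow.card_sylow_mod
  rw [hn] at hk
  have hk0 : 0 < k := by omega
  have hdiv : n / k = Nat.card (Sylow 7 G) := by rw [← hk, Nat.mul_div_cancel_left _ hk0]
  refine ⟨k, RecogM22.Options.mem_divs (by rw [← hn]; exact Nat.card_pos.ne') ⟨_, hk.symm⟩, hk11,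
    by rw [hdiv]; exact hmod, by rw [hdiv]; exact hne, hdiv.symm⟩

theorem false_63 (hn : Nat.card (Sylow 11 G) = 7360) (hcV : c = 693) : False := by
  haveI : Fact (Nat.Prime 7) := ⟨by norm_num⟩
  obtain ⟨R, hR7, hR⟩ := exists_seven h (P := P) (by rw [hC, hcV]; norm_num)
  have hm := Tools2.card_sylow_centralizer_dvd hP (q := 7) (m := 9) (by norm_num) R hR7 hR
    (by rw [hC, hcV])
  have hmod : Nat.card (Sylow 7 (Subgroup.centralizer ((P : Subgroup G) : Set G))) % 7 = 1 :=
    Sylow.card_sylow_mod
  have h1 : Nat.card (Sylow 7 (Subgroup.centralizer ((P : Subgroup G) : Set G))) = 1 := by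
    have := Nat.le_of_dvd (by norm_num) hm
    interval_cases (Nat.card (Sylow 7 (Subgroup.centralizer ((P : Subgroup G) : Set G)))) <;>
      omega
  obtain ⟨k, hk, hk11, hk7, hne, -⟩ := seven_factor h hP hC hc hn R hR h1
  rw [factors.1 k hk hk11 hk7] at hne
  exact hne (by norm_num)

theorem false_28 (hn : Nat.card (Sylow 11 G) = 3312) (hcV : c = 308) : False := by
  classical
  haveI := Fintype.ofFinite G
  haveI : Fact (Nat.Prime 7) := ⟨by norm_num⟩
  obtain ⟨R, hR7, hR⟩ := exists_seven h (P := P) (by rw [hC, hcV]; norm_num)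
  have hm := Tools2.card_sylow_centralizer_dvd hP (q := 7) (m := 4) (by norm_num) R hR7 hR
    (by rw [hC, hcV])
  have hmod : Nat.card (Sylow 7 (Subgroup.centralizer ((P : Subgroup G) : Set G))) % 7 = 1 :=
    Sylow.card_sylow_mod
  have h1 : Nat.card (Sylow 7 (Subgroup.centralizer ((P : Subgroup G) : Set G))) = 1 := by
    have := Nat.le_of_dvd (by norm_num) hm
    interval_cases (Nat.card (Sylow 7 (Subgroup.centralizer ((P : Subgroup G) : Set G)))) <;>
      omega
  obtain ⟨k, hk, hk11, hk7, hne, hk'⟩ := seven_factor h hP hC hc hn R hR h1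
  rcases factors.2.2 k hk hk11 hk7 with rfl | rfl
  · exact hne (by norm_num)
  obtain ⟨n', e', c', hmem, -, hn', hce, -, hC', -, hrel⟩ := Options.exists_opt (Base.not_comm h)
    (m₁ := 5760) (m₂ := 253) h (by norm_num) (by norm_num) (by norm_num) (by norm_num) R
  have hl : n' = 3312 → e' = 2 := of_decide_eq_true (List.all_eq_true.mp opts_seven_3312 _ hmem)
  obtain rfl : n' = 3312 := by rw [← hn', hk']
  obtain rfl := hl rfl
  obtain ⟨D', ⟨E'⟩⟩ := Full.exists_full R hR7 hrel
  have hc' : c' = 1540 := by omega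
  subst hc'
  have hlo' := PrimeDegrees.two_mul_le_of_centralizer (Base.not_comm h) hR7 hC' (by norm_num)
    (by norm_num) (by norm_num) D'
  have ht : D'.fam.card = 3 := by have := D'.fam_card; omega
  have hg5 : ∀ {a x : ℤ}, (a = 1 ∨ a = -1) → Mod23.okd x = true → ¬ ((5 ^ 1 : ℕ) : ℤ) ∣ x →
      ¬ ((11 ^ 1 : ℕ) : ℤ) ∣ x → good220 (a * x) = true := fun ha h0 h5 h11 => by
    simp only [good220, Bool.and_eq_true]
    exact ⟨⟨by rw [okd_unit ha]; exact h0, nd_of_not_dvd ha (by simpa using h5)⟩,
      nd_of_not_dvd ha (by simpa using h11)⟩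
  refine DegSearch.false_of_dead (Base.not_comm h) hR7 D' h ht (lo := 14) hlo'.2 (ks := ks220)
    (good := good220) (fun χ hχ => ?_) ?_ dead_220
  · rw [← ks220_eq]
    refine List.mem_filter.mpr ⟨Family.sk_mem (Base.not_comm h) hR7 D' h hχ (hlo'.1 χ hχ),
      hg5 (D'.a_unit χ hχ) (Mod23.okd_deg h χ) ?_ ?_⟩
    · exact Tools.not_dvd_deg hR7 D' (q := 5) (r := 2040192) (by norm_num) (by norm_num)
        (by rw [h]; norm_num) (by norm_num) (by rw [hC']; norm_num) hχ
    · exact Tools.not_dvd_deg hR7 D' (q := 11) (r := 927360) (by norm_num) (by norm_num)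
        (by rw [h]; norm_num) (by norm_num) (by rw [hC']; norm_num) hχ
  · exact hg5 D'.δ_unit (Mod23.okd_deg h _)
      (Tools2.not_dvd_deg_theta hR7 D' E' (q := 5) (r := 2040192) (by norm_num) (by norm_num)
        (by rw [h]; norm_num) (by norm_num) (by rw [hC']; norm_num))
      (Tools2.not_dvd_deg_theta hR7 D' E' (q := 11) (r := 927360) (by norm_num) (by norm_num)
        (by rw [h]; norm_num) (by norm_num) (by rw [hC']; norm_num))

include E in
theorem false_448 (he : e = 2) (hn : Nat.card (Sylow 11 G) = 1035) (hcV : c = 4928) : False := by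
  classical
  subst he
  haveI : Fact (Nat.Prime 7) := ⟨by norm_num⟩
  have ht : D.fam.card = 5 := by have := D.fam_card; omega
  have h7c : 7 ∣ c := by omega
  have h2c : 2 ∣ c := by omega
  have hgood : ∀ χ ∈ D.K, good448 (Family.sk D χ) = true := fun χ hχ => by
    simp only [good448, Bool.and_eq_true]
    exact ⟨⟨by rw [Family.sk, okd_unit (D.a_unit χ hχ)]; exact Mod23.okd_deg h χ,
      nd_member h hP D hC hc hχ (q := 7) (a := 1) (r := 1457280) (by norm_num) (by norm_num)
        (by norm_num) (by norm_num) h7c⟩,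
      nd_member h hP D hC hc hχ (q := 2) (a := 7) (r := 79695) Nat.prime_two (by norm_num)
        (by norm_num) (by norm_num) h2c⟩
  have hgθ : good448 (D.δ * deg D.θ) = true := by
    simp only [good448, Bool.and_eq_true]
    exact ⟨⟨by rw [okd_unit D.δ_unit]; exact Mod23.okd_deg h _,
      nd_theta h hP D E hC hc (q := 7) (a := 1) (r := 1457280) (by norm_num) (by norm_num)
        (by norm_num) (by norm_num) h7c⟩,
      nd_theta h hP D E hC hc (q := 2) (a := 7) (r := 79695) Nat.prime_two (by norm_num)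
        (by norm_num) (by norm_num) h2c⟩
  obtain ⟨χ, hK⟩ := Finset.card_eq_one.mp (show D.K.card = 1 by have := D.card_K; omega)
  have hχ : χ ∈ D.K := by rw [hK]; exact Finset.mem_singleton_self χ
  have h23 : Family.sk D χ = 23 ∨ Family.sk D χ = 45 := by
    by_contra hne
    obtain ⟨hne, hne'⟩ := not_or.mp hne
    refine DegSearch.false_of_dead (Base.not_comm h) hP D h ht (hlo h hP D hC hc).2
      (fun χ' hχ' => ?_) hgθ ks_448
    rw [hK, Finset.mem_singleton] at hχ'
    subst hχ'
    exact List.mem_filter.mpr ⟨List.mem_filter.mpr ⟨mem_allKs h hP D hC hc hχ, hgood χ' hχ⟩,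
      Bool.and_eq_true_iff.mpr ⟨decide_eq_true hne, decide_eq_true hne'⟩⟩
  obtain ⟨ha, m, hm, hm5⟩ : D.a χ = 1 ∧ ∃ m : ℕ, (11 : ℤ) * m = deg χ + 10 ∧ m ≤ 5 := by
    have := RecogThree.M12.Basic.deg_nonneg χ
    rw [Family.sk] at h23
    rcases D.a_unit χ hχ with e' | e' <;> rw [e'] at h23 ⊢
    · refine ⟨rfl, ?_⟩
      rcases h23 with h' | h'
      · exact ⟨3, by omega, by norm_num⟩
      · exact ⟨5, by omega, le_rfl⟩
    · omega
  set C := Subgroup.centralizer ((P : Subgroup G) : Set G) with hCdef
  haveI := isCyclic_of_prime_card hP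
  haveI : IsMulCommutative (P : Subgroup G) := IsCyclic.isMulCommutative
  have hPC : (P : Subgroup G) ≤ C := by
    intro x hx
    rw [hCdef, Subgroup.mem_centralizer_iff]
    intro y hy
    exact congrArg Subtype.val (mul_comm' (⟨y, hy⟩ : (P : Subgroup G)) ⟨x, hx⟩)
  set P' := (P : Subgroup G).subgroupOf C
  haveI : P'.Normal := ⟨fun x hx g => by
    have : g * x * g⁻¹ = x := Subtype.ext (by
      have h1 := Subgroup.mem_centralizer_iff.mp g.2 (x : G) hx
      show (g : G) * x * (g : G)⁻¹ = x
      rw [← h1, mul_inv_cancel_right])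
    rwa [this]⟩
  have hP' : Nat.card P' = 11 := by
    rw [Nat.card_congr (Subgroup.subgroupOfEquivOfLe hPC).toEquiv, hP]
  have hidx : P'.index = 448 := by
    have := Subgroup.card_mul_index P'
    rw [hP', hC, hcV] at this
    omega
  obtain ⟨H', hH'⟩ := Subgroup.exists_right_complement'_of_coprime (N := P')
    (by rw [hP', hidx]; norm_num)
  have hH'card : Nat.card H' = 448 := by
    have := hH'.card_mul_card
    rw [hP', hC, hcV] at this
    omega
  set H := H'.map C.subtype
  have hHcard : Nat.card H = 448 := by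
    rw [← Nat.card_congr (Subgroup.equivMapOfInjective _ _ C.subtype_injective).toEquiv, hH'card]
  obtain ⟨⟨y, hy⟩, hy'⟩ := exists_prime_orderOf_dvd_card' (G := (P : Subgroup G)) 11 (by rw [hP])
  rw [Subgroup.orderOf_mk] at hy'
  have hHC : H ≤ C := by rintro _ ⟨x, -, rfl⟩; exact x.2
  haveI : Group.IsSolvable H :=
    Induced.Burnside.isSolvable_of_card_eq 2 7 6 1 (by norm_num) (by norm_num)
      (by rw [hHcard]; norm_num)
  obtain ⟨R'⟩ := (inferInstance : Nonempty (Sylow 7 H))
  have hnorm : (R' : Subgroup H).Normal := by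
    refine FixedSpace.sylow_normal (p := 11) (y := y) (by norm_num)
      (by rw [← hy', pow_orderOf_eq_one]) χ (a := 1) (Base.not_comm h) (Family.ne_one_of_mem D hχ) H
      (fun g hg => (Subgroup.mem_centralizer_iff.mp (hHC hg) y hy).symm) (fun g hg i hi hi' => ?_)
      (m := m) ?_ (by omega) R'
    · have hv := D.value χ hχ (y ^ i) (pow_mem hy i)
        (pow_ne_one_of_lt_orderOf (by omega) (hy' ▸ hi')) g (hHC hg) (fun hd => by
          have := hd.trans (Subgroup.orderOf_dvd_natCard _ hg)
          rw [hHcard] at this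
          norm_num at this)
      rw [show g * y ^ i = y ^ i * g from
        ((Commute.pow_left (Subgroup.mem_centralizer_iff.mp (hHC hg) y hy) i).eq).symm, hv, ha]
      norm_num
    · have h' : ((11 * m : ℤ) : ℂ) = ((deg χ + 10 : ℤ) : ℂ) := by rw [hm]
      push_cast at h' ⊢
      rw [h']; norm_num
  have hR'7 : Nat.card (R' : Subgroup H) = 7 := by
    rw [Sylow.card_sylow_eq R' (a := 1) (m := 64) (by rw [hHcard]; norm_num) (by norm_num), pow_one]
  set R₀ : Subgroup G := (R' : Subgroup H).map H.subtype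
  have hR₀C : R₀ ≤ C := by rintro _ ⟨x, -, rfl⟩; exact hHC x.2
  have hR₀ : Nat.card R₀ = 7 := by
    rw [← Nat.card_congr (Subgroup.equivMapOfInjective _ _ H.subtype_injective).toEquiv, hR'7]
  obtain ⟨R, hR⟩ := (IsPGroup.of_card (n := 1) (hR₀.trans (pow_one 7).symm)).exists_le_sylow
  have hR7 : Nat.card (R : Subgroup G) = 7 := by
    rw [Sylow.card_sylow_eq R (a := 1) (m := 1457280) (by rw [h]; norm_num) (by norm_num), pow_one]
  have hRR₀ : R₀ = (R : Subgroup G) := Subgroup.eq_of_le_of_card_ge hR (by rw [hR7, hR₀])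
  have hRC : (R : Subgroup G) ≤ C := hRR₀ ▸ hR₀C
  have h1 : Nat.card (Sylow 7 C) = 1 := by
    have htop : Subgroup.normalizer (((R : Subgroup G).subgroupOf C : Subgroup C) : Set C) = ⊤ := by
      rw [eq_top_iff, ← hH'.sup_eq_top, sup_le_iff]
      constructor
      · intro x hx
        rw [Subgroup.mem_normalizer_iff]
        intro b
        have hb : x * b * x⁻¹ = b := Subtype.ext (by
          have h1 := Subgroup.mem_centralizer_iff.mp b.2 (x : G) hx
          show (x : G) * b * (x : G)⁻¹ = b
          rw [h1, mul_inv_cancel_right])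
        rw [hb]
      · intro x hx
        have hxH : (x : G) ∈ H := ⟨x, hx, rfl⟩
        rw [← hRR₀, ← Subgroup.subgroupOf_normalizer_eq hR₀C, Subgroup.mem_subgroupOf]
        refine (Subgroup.le_normalizer_map H.subtype) ⟨⟨(x : G), hxH⟩, ?_, rfl⟩
        rw [Subgroup.normalizer_eq_top_iff.mpr hnorm]
        exact Subgroup.mem_top _
    rw [Sylow.card_eq_index_normalizer (R.subtype hRC)]
    exact Subgroup.index_eq_one.mpr htop
  obtain ⟨k, hk, hk11, hk7, hne, -⟩ := seven_factor h hP hC hc hn R hRC h1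
  rw [factors.2.1 k hk hk11 hk7] at hne
  exact hne (by norm_num)

omit hP hC hc in
/-- The Sylow subgroups of order `11`. -/
theorem data : ∀ P : Sylow 11 G,
    Nat.card (P : Subgroup G) = 11 ∧ Nat.card (Sylow 11 G) = 185472 ∧
      Nat.card (Subgroup.centralizer ((P : Subgroup G) : Set G)) = 11 ∧
      Nat.card (Subgroup.normalizer ((P : Subgroup G) : Set G)) = 55 := by
  classical
  have hn : Nat.card (Sylow 11 G) = 185472 := by
    obtain ⟨n, e, c, hmem, hP, hn, hce, hcd, hC, hN, hrel⟩ := Options.exists_opt (Base.not_comm h)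
      (m₁ := 8064) (m₂ := 115) h (by norm_num) (by norm_num) (by norm_num) (by norm_num)
      (default : Sylow 11 G)
    set P : Sylow 11 G := default
    have h23 := not_twentythree_dvd h P hP
    rw [hC] at h23
    have hl := List.all_eq_true.mp opts_eleven _ hmem
    simp only [Bool.or_eq_true, decide_eq_true_eq, List.elem_eq_mem, List.mem_cons,
      List.not_mem_nil, or_false, Prod.mk.injEq] at hl
    obtain ⟨D, ⟨E⟩⟩ := Full.exists_full P hP hrel
    have hc : 1 < c / 11 → ¬ 11 ∣ c / 11 → c ≠ 11 ∧ 11 ∣ c ∧ ¬ 11 ^ 2 ∣ c := fun h1 h2 =>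
      ⟨by omega, hcd, fun hd => h2 (Nat.dvd_div_of_mul_dvd (by rwa [← pow_two]))⟩
    rcases hl with ((((((hl | hl) | hl) | hl) | hl) | hl) | hl)
    · rw [hn]; exact hl.1
    all_goals exfalso
    · refine h23 ?_
      obtain ⟨q, hq⟩ := hcd
      have hpos : 0 < n * e * 11 := by
        rcases Nat.eq_zero_or_pos (n * e * 11) with h0 | h0
        · exfalso
          have : c * e * n = 0 := by
            rw [mul_assoc, mul_comm e n, show n * e = 0 by omega, mul_zero]
          omega
        · exact h0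
      rw [show (10200960 : ℕ) = n * e * 11 * q by rw [← hce, hq]; ring,
        Nat.mul_div_cancel_left _ hpos] at hl
      rw [hq]
      exact Dvd.dvd.mul_left (Nat.dvd_of_mod_eq_zero hl) 11
    · rcases hl with hl | hl | hl <;> obtain ⟨rfl, rfl⟩ := hl
      · exact false_336 h hP D E hC (hc (by omega) (by omega)) rfl (by omega) (by omega) (by omega)
      · exact false_72 h hP D E hC (hc (by omega) (by omega)) rfl (by omega) (by omega)
      · exact false_72 h hP D E hC (hc (by omega) (by omega)) rfl (by omega) (by omega)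
    · rcases hl with hl | hl | hl | hl | hl <;> obtain ⟨rfl, rfl⟩ := hl
      · exact false_square h hP D E hC (hc (by omega) (by omega)) rfl (V := 96) (by simp) (by omega) hrel
      · exact false_square h hP D E hC (hc (by omega) (by omega)) rfl (V := 360) (by simp) (by omega) hrel
      · exact false_square h hP D E hC (hc (by omega) (by omega)) rfl (V := 140) (by simp) (by omega) hrel
      · exact false_square h hP D E hC (hc (by omega) (by omega)) rfl (V := 8) (by simp) (by omega) hrel
      · exact false_square h hP D E hC (hc (by omega) (by omega)) rfl (V := 30) (by simp) (by omega) hrel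
    · rcases hl with hl | hl <;> obtain ⟨rfl, rfl⟩ := hl <;>
        exact false_five h hP D E hC (hc (by omega) (by omega)) rfl (by omega) hrel
          (Or.inl ⟨by omega, by omega⟩)
    · rcases hl with hl | hl <;> obtain ⟨rfl, rfl⟩ := hl
      · exact false_five h hP D E hC (hc (by omega) (by omega)) rfl (by omega) hrel
          (Or.inr ⟨by omega, 5, 231, by omega, by norm_num, by omega, by norm_num⟩)
      · exact false_five h hP D E hC (hc (by omega) (by omega)) rfl (by omega) hrel
          (Or.inr ⟨by omega, 3, 77, by omega, by norm_num, by omega, by norm_num⟩)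
    · rcases hl with hl | hl | hl | hl <;> obtain ⟨rfl, rfl⟩ := hl
      · exact false_28 h hP hC (hc (by omega) (by omega)) hn (by omega)
      · exact false_1680 h hP D E hC (hc (by omega) (by omega)) rfl (by omega) hrel
      · exact false_448 h hP D E hC (hc (by omega) (by omega)) rfl hn (by omega)
      · exact false_63 h hP hC (hc (by omega) (by omega)) hn (by omega)
  intro P
  have hP : Nat.card (P : Subgroup G) = 11 := by
    rw [Sylow.card_sylow_eq P (a := 1) (m := 927360) (by rw [h]; norm_num) (by norm_num), pow_one]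
  have hN := Sylow.card_normalizer_mul P
  rw [hn, h] at hN
  have hN' : Nat.card (Subgroup.normalizer ((P : Subgroup G) : Set G)) = 55 := by omega
  refine ⟨hP, hn, ?_, hN'⟩
  obtain ⟨e, c, he, he1, hc, hC, hce⟩ := Sylow.exists_normalizer_factor (Base.not_comm h) P hP
  rw [hN'] at hce
  obtain ⟨d, rfl⟩ := hc
  have he5 : e = 5 := by
    have h55 : e ∣ 55 := ⟨11 * d, by linarith⟩
    have := Nat.le_of_dvd (by norm_num) he
    interval_cases e <;> simp_all
  subst he5
  rw [hC]; omega

end Cfsg.Agent.Lib.RecogM23.Eleven
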