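import Cfsg.Agent.Lib.RecogM23.CertEleven11A
import Cfsg.Agent.Lib.RecogThree.M11.Unique
import Cfsg.Agent.Lib.MathieuFusion.M11

/-!
In a simple group of order `7920` an element of order eleven is a product of an involution and an
element of order four in at most eleven ways.
-/

set_option autoImplicit false
set_option linter.style.haveILetI false

namespace Cfsg.Agent.Lib.RecogM23.ElevenCount

open Cfsg.Agent.Lib.Computation
open Cfsg.Agent.Lib.MathieuFusion.Cert (m11G_chain m11G_check m11G_order)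
open Cfsg.Agent.Lib.RecogM23.CertEleven11

universe u

/-- The representation. -/
noncomputable abbrev R : Rep (Equiv.Perm (Fin 24)) (Fin 24) := permRep 24 5 (by decide)

theorem isId_iff {c : ℕ} (hc : okPerm 24 5 c = true) : isId c = true ↔ decodeP 24 5 c = 1 := by
  simp only [isId, List.all_eq_true, List.mem_range, Nat.beq_eq]
  constructor
  · intro h
    exact Equiv.ext fun i => Fin.ext (by rw [decodeP_apply hc, h i i.2]; rfl)
  · intro h i hi
    have := decodeP_apply hc ⟨i, hi⟩
    rw [h] at this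
    exact this.symm

theorem mem_els : ∀ {ch : List (Level ℕ)}, R.checkChain ch = true → ∀ g ∈ R.grp ch,
    ∃ c ∈ els ch, okPerm 24 5 c = true ∧ decodeP 24 5 c = g := by
  intro ch
  induction ch with
  | nil =>
    intro _ g hg
    rw [R.grp_nil, Subgroup.mem_bot] at hg
    exact ⟨_, List.mem_singleton_self _, R.ok_one, hg ▸ R.val_one⟩
  | cons L r ih =>
    intro hc g hg
    obtain ⟨e, he, k, hk, rfl⟩ := R.decomp hc hg
    obtain ⟨c, hcm, hok, rfl⟩ := ih (R.checkChain_tail hc) k hk
    have hf : okPerm 24 5 e.fwd = true := (R.levelFacts hc).fwd_ok e he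
    refine ⟨mulP 24 5 e.fwd c, ?_, okPerm_mulP hf hok, decodeP_mulP hf hok⟩
    simp only [els, List.mem_flatMap, List.mem_map]
    exact ⟨e, he, c, hcm, rfl⟩

theorem chain_ok : R.checkChain m11G_chain = true :=
  R.checkChain_of_checkClosure m11G_check

theorem exists_code {g : Equiv.Perm (Fin 24)} (hg : g ∈ R.grp m11G_chain) (h2 : orderOf g = 2) :
    ∃ c ∈ invs, okPerm 24 5 c = true ∧ decodeP 24 5 c = g := by
  have hc := chain_ok
  have hlen := chain_length
  rcases hch : m11G_chain with _ | ⟨L, r⟩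
  · rw [hch] at hlen; simp at hlen
  rw [hch] at hc hg hlen
  simp only [List.head?_cons, Option.map_some, Option.some.injEq] at hlen
  obtain ⟨e, he, k, hk, rfl⟩ := R.decomp hc hg
  obtain ⟨c, hcm, hok, rfl⟩ := mem_els (R.checkChain_tail hc) k hk
  have hf : okPerm 24 5 e.fwd = true := (R.levelFacts hc).fwd_ok e he
  obtain ⟨j, hj, hje⟩ := List.getElem_of_mem he
  have hcov := covered_all j (hlen ▸ hj)
  simp only [covered, hch, List.all_eq_true, forceNat_eq, Bool.or_eq_true, Bool.not_eq_true',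
    List.any_eq_true, Nat.beq_eq] at hcov
  have hmem : e ∈ (L.orb.toList.drop j).take 1 := by
    rw [List.drop_eq_getElem_cons hj, List.take_succ_cons, hje]
    exact List.mem_cons_self
  have hok' := okPerm_mulP hf hok
  have hval : decodeP 24 5 (mulP 24 5 e.fwd c) = R.val e.fwd * decodeP 24 5 c :=
    decodeP_mulP hf hok
  rcases hcov e hmem c hcm with (h | h) | ⟨a, ha, h⟩
  · exfalso
    rw [← Bool.not_eq_true, isId_iff (okPerm_mulP hok' hok'), decodeP_mulP hok' hok', hval] at h
    exact h (by rw [← pow_two, ← h2, pow_orderOf_eq_one])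
  · exfalso
    rw [isId_iff hok', hval] at h
    rw [h, orderOf_one] at h2
    omega
  · exact ⟨mulP 24 5 e.fwd c, h ▸ ha, hok', hval⟩

theorem q₀_mem_grp : decodeP 24 5 q₀ ∈ R.grp m11G_chain :=
  R.mem_grp_of_sift (h := q₀) chain_ok q₀_ok q₀_mem

theorem card_grp : Nat.card (R.grp m11G_chain) = 7920 := (R.card_grp chain_ok).trans m11G_order

theorem pows_spec (n : ℕ) :
    okPerm 24 5 (pows n) = true ∧ decodeP 24 5 (pows n) = decodeP 24 5 q₀ ^ n := by
  induction n with
  | zero => exact ⟨R.ok_one, by rw [pow_zero]; exact R.val_one⟩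
  | succ n ih =>
    exact ⟨okPerm_mulP q₀_ok ih.1, by rw [pows, decodeP_mulP q₀_ok ih.1, ih.2, ← pow_succ']⟩

/-- The bound in the certified group. -/
theorem card_le_perm {K : Subgroup (Equiv.Perm (Fin 24))} (hK : K = R.grp m11G_chain) {i : ℕ}
    (hi : i ≠ 0) (hi11 : i < 11) :
    Nat.card {a : K // orderOf a = 2 ∧
      orderOf ((a : Equiv.Perm (Fin 24))⁻¹ * decodeP 24 5 q₀ ^ i) = 4} ≤ 11 := by
  classical
  obtain ⟨hokq, hq⟩ := pows_spec i
  set l := invs.filter (test (pows i)) with hl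
  have hlen : l.length ≤ 11 := by
    have h := List.all_eq_true.mp counts (i - 1) (List.mem_range.mpr (by omega))
    rw [Nat.sub_add_cancel (Nat.one_le_iff_ne_zero.mpr hi), atMost, Nat.ble_eq,
      List.countP_eq_length_filter] at h
    exact h
  have hex : ∀ a : {a : K // orderOf a = 2 ∧
      orderOf ((a : Equiv.Perm (Fin 24))⁻¹ * decodeP 24 5 q₀ ^ i) = 4},
      ∃ c : {c : ℕ // c ∈ l}, decodeP 24 5 c.1 = ((a.1 : K) : Equiv.Perm (Fin 24)) := by
    rintro ⟨⟨g, hg⟩, ha, h4⟩
    rw [Subgroup.orderOf_mk] at ha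
    obtain ⟨c, hcm, hok, rfl⟩ := exists_code (hK ▸ hg) ha
    refine ⟨⟨c, List.mem_filter.mpr ⟨hcm, ?_⟩⟩, rfl⟩
    have hinv : (decodeP 24 5 c)⁻¹ = decodeP 24 5 c :=
      inv_eq_of_mul_eq_one_left (by rw [← pow_two, ← ha, pow_orderOf_eq_one])
    simp only at h4
    rw [hinv, ← hq, ← decodeP_mulP hok hokq] at h4
    have hd := okPerm_mulP hok hokq
    have he := okPerm_mulP hd hd
    simp only [test, forceNat_eq, Bool.and_eq_true, Bool.not_eq_true']
    refine ⟨?_, ?_⟩
    · rw [← Bool.not_eq_true, isId_iff he, decodeP_mulP hd hd, ← pow_two]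
      intro h1
      have := orderOf_dvd_of_pow_eq_one h1
      rw [h4] at this
      norm_num at this
    · rw [isId_iff (okPerm_mulP he he), decodeP_mulP he he, decodeP_mulP hd hd, ← pow_two,
        ← pow_two, ← pow_mul, show 2 * 2 = 4 from rfl, ← h4, pow_orderOf_eq_one]
  choose f hf using hex
  haveI : Fintype {c : ℕ // c ∈ l} := Fintype.subtype l.toFinset fun c => List.mem_toFinset
  refine le_trans (Nat.card_le_card_of_injective f fun a b e => ?_) ?_
  · exact Subtype.ext (Subtype.ext (by rw [← hf a, ← hf b, e]))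
  · rw [Nat.card_eq_fintype_card, Fintype.card_of_subtype l.toFinset fun c => List.mem_toFinset]
    exact (List.toFinset_card_le l).trans hlen

/-- The bound in any simple group of order `7920`. -/
theorem card_le {K : Type u} [Group K] [Finite K] [IsSimpleGroup K] (h : Nat.card K = 7920)
    {q : K} (hq : orderOf q = 11) :
    Nat.card {a : K // orderOf a = 2 ∧ orderOf (a⁻¹ * q) = 4} ≤ 11 := by
  haveI : Fact (Nat.Prime 11) := ⟨by norm_num⟩
  obtain ⟨e₁⟩ := RecogThree.M11.Unique.equiv_M11 h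
  obtain ⟨e₂⟩ := MathieuFusion.model_M11
  obtain ⟨M, hM, ⟨e⟩⟩ : ∃ M, R.grp m11G_chain = M ∧ Nonempty (K ≃* M) :=
    ⟨_, rfl, ⟨e₁.trans e₂⟩⟩
  haveI : Finite M := Finite.of_equiv K e.toEquiv
  have hq₀ : decodeP 24 5 q₀ ∈ M := hM ▸ q₀_mem_grp
  set x : M := ⟨decodeP 24 5 q₀, hq₀⟩ with hx
  have hxo : orderOf x = 11 := by
    refine orderOf_eq_prime (Subtype.ext ?_) fun he => ?_
    · rw [SubmonoidClass.coe_pow, hx, OneMemClass.coe_one, ← (pows_spec 11).2,
        ← isId_iff (pows_spec 11).1]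
      exact q₀_order.2
    · have := (isId_iff q₀_ok).mpr (congrArg Subtype.val he)
      rw [q₀_order.1] at this
      exact Bool.noConfusion this
  have hy : orderOf (e q) = 11 := by rw [MulEquiv.orderOf_eq, hq]
  obtain ⟨S, hS⟩ := (IsPGroup.of_card (n := 1)
    (show Nat.card (Subgroup.zpowers x) = 11 ^ 1 by rw [Nat.card_zpowers, hxo, pow_one])
    ).exists_le_sylow
  obtain ⟨T, hT⟩ := (IsPGroup.of_card (n := 1)
    (show Nat.card (Subgroup.zpowers (e q)) = 11 ^ 1 by rw [Nat.card_zpowers, hy, pow_one])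
    ).exists_le_sylow
  have hSc : Nat.card (S : Subgroup M) = 11 := by
    rw [SmallGroups.Sylow.card_sylow_eq S (a := 1) (m := 720) (by
      rw [← Nat.card_congr e.toEquiv, h]; norm_num) (by norm_num), pow_one]
  have hSx : Subgroup.zpowers x = (S : Subgroup M) :=
    Subgroup.eq_of_le_of_card_ge hS (by rw [hSc, Nat.card_zpowers, hxo])
  obtain ⟨g, hg⟩ := MulAction.exists_smul_eq M T S
  have hmem : g * e q * g⁻¹ ∈ Subgroup.zpowers x := by
    rw [hSx, ← hg, Sylow.coe_subgroup_smul, Subgroup.mem_pointwise_smul_iff_inv_smul_mem,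
      MulAut.smul_def, ← map_inv, MulAut.conj_apply]
    simpa [mul_assoc] using hT (Subgroup.mem_zpowers (e q))
  classical
  obtain ⟨i, hi11, hi⟩ := Finset.mem_image.mp (mem_zpowers_iff_mem_range_orderOf.mp hmem)
  rw [Finset.mem_range, hxo] at hi11
  have hi0 : i ≠ 0 := by
    rintro rfl
    rw [pow_zero, eq_comm, conj_eq_one_iff] at hi
    rw [hi, orderOf_one] at hy
    omega
  let φ : K ≃* M := e.trans (MulAut.conj g)
  have hφ : φ q = x ^ i := hi.symm
  refine le_trans (Nat.card_le_card_of_injective (fun a => (⟨φ a.1, ?_, ?_⟩ :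
    {a : M // orderOf a = 2 ∧
      orderOf ((a : Equiv.Perm (Fin 24))⁻¹ * decodeP 24 5 q₀ ^ i) = 4})) ?_)
    (card_le_perm hM.symm hi0 hi11)
  · rw [MulEquiv.orderOf_eq, a.2.1]
  · have h' := a.2.2
    rw [← MulEquiv.orderOf_eq φ, map_mul, map_inv, hφ, ← Subgroup.orderOf_coe] at h'
    exact h'
  · intro a b hab
    exact Subtype.ext (φ.injective (congrArg Subtype.val hab))

end Cfsg.Agent.Lib.RecogM23.ElevenCount
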