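import Cfsg.Agent.Lib.RecogM23.Family

/-!
The final test holds for the sums of a family.
-/

set_option autoImplicit false
set_option linter.style.haveILetI false
set_option linter.unusedSectionVars false

namespace Cfsg.Agent.Lib.RecogM23.Family2

open Cfsg.Agent.Lib.Classif
open Cfsg.Agent.Lib.Classif.PrimeExceptional (deg natAbs_deg)
open Cfsg.Agent.Lib.RecogM22.Search (Sums add init)

universe u

variable {G : Type u} [Group G] [Finite G] [IsSimpleGroup G] (hG : ¬ IsMulCommutative G)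
  {p : ℕ} [hp : Fact p.Prime] {P : Sylow p G} (hP : Nat.card (P : Subgroup G) = p)
  {e : ℕ} (D : FirstPowerData.Data P e)

include hG hP in
theorem fin_sums {g c t lo : ℕ} (hg : Nat.card G = g) (hp2 : p ≠ 2) {u : G}
    (hu : orderOf u = 2) (hc : Nat.card (Subgroup.centralizer ({u} : Set G)) = c)
    (ht : D.fam.card = t) (hlo : lo ≤ (deg D.θ).natAbs) {extra : Sums → Bool}
    (hextra : extra (Family.sums D g u) = true) :
    Family.fin g c p e t lo extra (Family.sums D g u) = true := by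
  classical
  obtain ⟨hk, hw, hkk, hww, -, -⟩ := Family.sums_spec hG hP D hg hp2 hu hc
  obtain ⟨-, hθ4, hθlt, hθd⟩ := Family.iv_spec hG D.θ_ne_one hu hg hc
  simp only [Family.fin, Bool.and_eq_true, decide_eq_true_eq, hk, hw, hextra, and_true,
    Family.natAbs_unit D.δ_unit, Family.sq_unit D.δ_unit]
  refine ⟨⟨⟨⟨⟨⟨⟨hlo, Nat.mod_eq_zero_of_dvd ?_⟩,
    Int.emod_eq_zero_of_dvd (D.θ_cong hP)⟩, ?_⟩, Int.emod_eq_zero_of_dvd ?_⟩,
    Int.emod_eq_zero_of_dvd ?_⟩, ?_⟩, ?_⟩
  · rw [← Int.natAbs_natCast g, Int.natAbs_dvd_natAbs]; exact Family.deg_dvd D.θ hg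
  · have := abs_lt.mp hθlt
    omega
  · rw [← mul_sub]; exact Dvd.dvd.mul_left hθ4 _
  · rcases D.δ_unit with e' | e' <;> rw [e'] <;> simpa using hθd
  · rwa [← ht]
  · rwa [← ht]

/-- The sums from a listing of the family. -/
theorem sums_eq (g : ℕ) (u : G) {l : List (Cfsg.IrrCharacter G)}
    (hl : D.K.toList.Perm l) :
    Family.sums D g u =
      (l.map fun χ => (Family.sk D χ, Family.sw D u χ)).foldl (add (g : ℤ)) (init g) := by
  haveI : RightCommutative (add (g : ℤ)) := ⟨RecogM22.Search.add_comm' (g : ℤ)⟩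
  exact (hl.map _).foldl_eq _

end Cfsg.Agent.Lib.RecogM23.Family2
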