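import Cfsg.Agent.Lib.RecogM23.Local7
import Cfsg.Agent.Lib.RecogM23.Family2

/-!
Simple groups of order `10200960`: the family of a Sylow subgroup of order `11`.
-/

set_option autoImplicit false
set_option linter.style.haveILetI false
set_option linter.unusedSectionVars false

namespace Cfsg.Agent.Lib.RecogM23.Fam11

open Cfsg.Agent.Lib.Characters Cfsg.Agent.Lib.Characters.Basic
open Cfsg.Agent.Lib.Classif Cfsg.Agent.Lib.SmallGroups
open Cfsg.Agent.Lib.Classif.PrimeExceptional (deg)
open Cfsg.Agent.Lib.RecogM22 (Pairs.T Pairs.T_eq_zero)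
open Cfsg.Agent.Lib.RecogThree.M12 (Full.Extra Full.exists_full)

universe u

variable {G : Type u} [Group G] [Finite G] [IsSimpleGroup G] [Fact (Nat.Prime 11)]

/-- The family, with the data of the Sylow subgroup. -/
structure Fam (G : Type u) [Group G] [Finite G] [Fact (Nat.Prime 11)] where
  P : Sylow 11 G
  hP : Nat.card (P : Subgroup G) = 11
  hC : Subgroup.centralizer ((P : Subgroup G) : Set G) = P
  D : FirstPowerData.Data P 5
  E : Full.Extra P D
  hrel : (Subgroup.centralizer ((P : Subgroup G) : Set G)).relIndex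
    (Subgroup.normalizer ((P : Subgroup G) : Set G)) = 5

variable (h : Nat.card G = 10200960)

include h

theorem exists_fam : Nonempty (Fam G) := by
  set P : Sylow 11 G := default
  obtain ⟨hP, -, hC, hN⟩ := Eleven.data h P
  have hrel : (Subgroup.centralizer ((P : Subgroup G) : Set G)).relIndex
      (Subgroup.normalizer ((P : Subgroup G) : Set G)) = 5 := by
    have h' := Sylow.card_centralizer_mul_relIndex (P : Subgroup G)
    rw [hN, hC] at h'
    omega
  obtain ⟨D, ⟨E⟩⟩ := Full.exists_full P hP hrel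
  exact ⟨⟨P, hP, (Local.self_centralizing h (p := 11) (Or.inl rfl) P).2, D, E, hrel⟩⟩

variable (F : Fam G)

theorem card_fam : F.D.fam.card = 2 := by have := F.D.fam_card; omega

theorem card_K : F.D.K.card = 4 := by have := F.D.card_K; omega

/-- The scaled class sum vanishes. -/
theorem tVal_eq {u : G} (hu : orderOf u = 2) :
    RecogM22.Basic.tVal 10200960 (Family.sums F.D 10200960 u) = 0 := by
  classical
  haveI := Fintype.ofFinite G
  obtain ⟨-, -, -, -, -, hT⟩ := Family.sums_spec (Base.not_comm h) F.hP F.D h (by norm_num) hu rfl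
  rw [Pairs.T_eq_zero F.hP F.D F.E (by norm_num) F.hrel (by decide) hu hu, zero_mul] at hT
  exact_mod_cast hT.symm

theorem dvd_deg {χ : Cfsg.IrrCharacter G} (h1 : χ ≠ oneChar G) (hK : χ ∉ F.D.K)
    (hf : χ ∉ F.D.fam) : (11 : ℤ) ∣ deg χ :=
  PrimeDegrees.dvd_deg_of_other F.hP F.hC F.D χ h1 hK hf

theorem fam_cong {χ : Cfsg.IrrCharacter G} (hf : χ ∈ F.D.fam) :
    deg χ % 11 = 5 ∨ deg χ % 11 = 6 := by
  have hd := F.D.θ_cong F.hP
  rw [← F.D.fam_deg χ hf] at hd
  rcases F.D.δ_unit with e | e <;> rw [e] at hd <;> omega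

theorem K_cong {χ : Cfsg.IrrCharacter G} (hK : χ ∈ F.D.K) :
    (11 : ℤ) ∣ F.D.a χ * deg χ - 1 :=
  (FirstPowerKills.signed_facts (Sylow.commutator_eq_top (Base.not_comm h)) F.hP F.D hK).1

/-- A nontrivial degree congruent to `±1` belongs to a member. -/
theorem mem_K {χ : Cfsg.IrrCharacter G} (h1 : χ ≠ oneChar G)
    (hd : deg χ % 11 = 1 ∨ deg χ % 11 = 10) : χ ∈ F.D.K := by
  by_contra hK
  by_cases hf : χ ∈ F.D.fam
  · have := fam_cong h F hf; omega
  · have := dvd_deg h F h1 hK hf; omega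

theorem sk_mem {χ : Cfsg.IrrCharacter G} (hK : χ ∈ F.D.K) : Family.sk F.D χ ∈ Lines.ks11 := by
  rw [← Lines.ks11_eq, List.mem_filter]
  refine ⟨Family.sk_mem (Base.not_comm h) F.hP F.D h hK ?_, ?_⟩
  · have := (FirstPowerKills.signed_facts (Sylow.commutator_eq_top (Base.not_comm h)) F.hP F.D
      hK).2.1
    rwa [Family.natAbs_unit (F.D.a_unit χ hK)] at this
  · rw [Family.sk]
    exact Local.okd_signed h χ (F.D.a_unit χ hK)

theorem two_le_theta : 2 ≤ (deg F.D.θ).natAbs := by
  classical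
  haveI := Fintype.ofFinite G
  have := PrimeExceptional.two_le_deg (Sylow.commutator_eq_top (Base.not_comm h)) F.D.θ
    F.D.θ_ne_one
  omega

theorem okd_theta : Lines.okd (F.D.δ * deg F.D.θ) = true :=
  Local.okd_signed h _ F.D.δ_unit

end Cfsg.Agent.Lib.RecogM23.Fam11
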