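import Cfsg.Agent.Lib.RecogM22.Basic
import Cfsg.Agent.Lib.RecogM23.Items

/-!
The family of a Sylow subgroup of prime order at an involution, as input of bounded searches: the
integral values, the signed pairs, their sums, and completeness of the search.
-/

set_option autoImplicit false
set_option linter.style.haveILetI false
set_option linter.unusedSectionVars false

namespace Cfsg.Agent.Lib.RecogM23.Family

open Cfsg.Agent.Lib.Characters Cfsg.Agent.Lib.Characters.Basic
open Cfsg.Agent.Lib.Classif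
open Cfsg.Agent.Lib.Classif.PrimeExceptional (deg apply_one_eq natAbs_deg)
open Cfsg.Agent.Lib.RecogM22.Search (Sums add ok init foldl_add search search_complete add_comm'
  ok_mono cands mem_cands)
open Cfsg.Agent.Lib.RecogM22.Basic (tVal)
open Cfsg.Agent.Lib.RecogM22 (Pairs.T)
open Cfsg.Agent.Lib.RecogThree.M12 (Full.Extra)

universe u

variable {G : Type u} [Group G] [Finite G]

open scoped Classical in
/-- The value at `u` when it is an integer. -/
noncomputable def iv (u : G) (χ : Cfsg.IrrCharacter G) : ℤ :=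
  if h : ∃ v : ℤ, (χ : G → ℂ) u = v then h.choose else 0

theorem iv_eq {u : G} {χ : Cfsg.IrrCharacter G} {v : ℤ} (h : (χ : G → ℂ) u = v) : iv u χ = v := by
  classical
  have hex : ∃ v : ℤ, (χ : G → ℂ) u = v := ⟨v, h⟩
  rw [iv, dif_pos hex]
  exact_mod_cast (hex.choose_spec).symm.trans h

theorem iv_oneChar (u : G) : iv u (oneChar G) = 1 := iv_eq (by simp [oneChar_apply])

theorem deg_dvd (χ : Cfsg.IrrCharacter G) {g : ℕ} (hg : Nat.card G = g) : deg χ ∣ (g : ℤ) := by
  rw [← Int.natAbs_dvd_natAbs, natAbs_deg, Int.natAbs_natCast, ← hg]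
  exact H80.ClassMult.charDegree_dvd_card χ

/-- An integral value squared is at most the order of the centraliser. -/
theorem sq_le_centralizer {χ : Cfsg.IrrCharacter G} {x : G} {v : ℤ} (h1 : (χ : G → ℂ) x = v) :
    v * v ≤ (Nat.card (Subgroup.centralizer ({x} : Set G)) : ℤ) := by
  classical
  haveI := Fintype.ofFinite (Cfsg.IrrCharacter G)
  have h := Complete.sum_irr_mul_conj x x
  rw [if_pos (IsConj.refl x)] at h
  have hre : ∑ ψ : Cfsg.IrrCharacter G, Complex.normSq ((ψ : G → ℂ) x) =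
      (Nat.card (Subgroup.centralizer ({x} : Set G)) : ℝ) := by
    apply Complex.ofReal_injective
    push_cast
    rw [← h]
    exact Finset.sum_congr rfl fun χ _ => (Complex.mul_conj _).symm
  have hle := Finset.single_le_sum (f := fun ψ : Cfsg.IrrCharacter G =>
    Complex.normSq ((ψ : G → ℂ) x)) (fun _ _ => Complex.normSq_nonneg _) (Finset.mem_univ χ)
  rw [hre, h1, show ((v : ℤ) : ℂ) = ((v : ℝ) : ℂ) by simp, Complex.normSq_ofReal] at hle
  exact_mod_cast hle

variable [IsSimpleGroup G] (hG : ¬ IsMulCommutative G)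

include hG in
/-- The value at an involution. -/
theorem iv_spec {χ : Cfsg.IrrCharacter G} (hχ : χ ≠ oneChar G) {u : G} (hu : orderOf u = 2)
    {g c : ℕ} (hg : Nat.card G = g) (hc : Nat.card (Subgroup.centralizer ({u} : Set G)) = c) :
    (χ : G → ℂ) u = iv u χ ∧ (4 : ℤ) ∣ deg χ - iv u χ ∧ |iv u χ| < deg χ ∧
      deg χ ∣ ((g / c : ℕ) : ℤ) * iv u χ := by
  obtain ⟨v, h1, h2, h3, h4⟩ := RecogThree.M12.Basic.involution hG χ hχ hu
  rw [iv_eq h1]
  refine ⟨h1, h2, h3, ?_⟩
  rwa [show g / c = (Subgroup.centralizer ({u} : Set G)).index by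
    rw [← hc, ← hg, ← Subgroup.index_mul_card (Subgroup.centralizer ({u} : Set G)),
      Nat.mul_div_cancel _ Nat.card_pos]]

variable {p : ℕ} [hp : Fact p.Prime] {P : Sylow p G} (hP : Nat.card (P : Subgroup G) = p)
  {e : ℕ} (D : FirstPowerData.Data P e)

/-- The signed degree of a member. -/
noncomputable def sk (χ : Cfsg.IrrCharacter G) : ℤ := D.a χ * deg χ

/-- The signed value of a member. -/
noncomputable def sw (u : G) (χ : Cfsg.IrrCharacter G) : ℤ := D.a χ * iv u χ

/-- The sums over the family. -/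
noncomputable def sums (g : ℕ) (u : G) : Sums :=
  (D.K.toList.map fun χ => (sk D χ, sw D u χ)).foldl (add (g : ℤ)) (init g)

theorem sq_unit {a x : ℤ} (h : a = 1 ∨ a = -1) : a * x * (a * x) = x * x := by
  rcases h with rfl | rfl <;> ring

theorem natAbs_unit {a x : ℤ} (h : a = 1 ∨ a = -1) : (a * x).natAbs = x.natAbs := by
  rcases h with rfl | rfl <;> simp

theorem ne_one_of_mem {χ : Cfsg.IrrCharacter G} (hχ : χ ∈ D.K) : χ ≠ oneChar G :=
  fun h => D.one_not_mem (h ▸ hχ)

include hG hP in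
/-- All accumulated sums of the family, and the bounds. -/
theorem sums_spec {g c : ℕ} (hg : Nat.card G = g) (hp2 : p ≠ 2) {u : G} (hu : orderOf u = 2)
    (hc : Nat.card (Subgroup.centralizer ({u} : Set G)) = c) :
    (sums D g u).k = D.δ * deg D.θ ∧ (sums D g u).w = D.δ * iv u D.θ ∧
      (sums D g u).kk + D.fam.card * (deg D.θ * deg D.θ) ≤ g ∧
      (sums D g u).ww + D.fam.card * (iv u D.θ * iv u D.θ) ≤ c ∧
      ok g c (sums D g u) = true ∧
      Pairs.T D u u * (g : ℂ) = ((tVal g (sums D g u) : ℤ) : ℂ) := by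
  classical
  haveI := Fintype.ofFinite G
  have hperf := Cfsg.Agent.Lib.SmallGroups.Sylow.commutator_eq_top hG
  have hu' : ¬ p ∣ orderOf u := by
    rw [hu]; exact fun h => hp2 ((Nat.prime_dvd_prime_iff_eq hp.out Nat.prime_two).mp h)
  have hsum : ∀ F : ℤ × ℤ → ℤ,
      ((D.K.toList.map fun χ => (D.a χ * deg χ, D.a χ * iv u χ)).map F).sum =
      ∑ χ ∈ D.K, F (D.a χ * deg χ, D.a χ * iv u χ) := fun F => by
    rw [List.map_map, Finset.sum_map_toList]; rfl
  have hval : ∀ χ ∈ D.K, (χ : G → ℂ) u = iv u χ := fun χ h =>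
    (iv_spec hG (ne_one_of_mem D h) hu hg hc).1
  obtain ⟨hθv, -, -, -⟩ := iv_spec hG D.θ_ne_one hu hg hc
  set s := sums D g u with hs
  have hk : s.k = D.δ * deg D.θ := by
    rw [hs, sums, foldl_add, ← D.degree_eq]
    simp only [init, sk, sw, hsum]
  have hw : s.w = D.δ * iv u D.θ := by
    have : (s.w : ℂ) = ((D.δ * iv u D.θ : ℤ) : ℂ) := by
      rw [Int.cast_mul, ← hθv, ← D.rel u hu', hs, sums, foldl_add]
      simp only [init, sk, sw, hsum]
      push_cast
      congr 1
      exact Finset.sum_congr rfl fun χ hχ => by rw [hval χ hχ]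
    exact_mod_cast this
  have hkk : s.kk = 1 + ∑ χ ∈ D.K, deg χ ^ 2 := by
    rw [hs, sums, foldl_add]
    simp only [init, sk, sw, hsum]
    congr 1
    exact Finset.sum_congr rfl fun χ hχ => by rw [sq_unit (D.a_unit χ hχ), pow_two]
  have hww : s.ww = 1 + ∑ χ ∈ D.K, iv u χ ^ 2 := by
    rw [hs, sums, foldl_add]
    simp only [init, sk, sw, hsum]
    congr 1
    exact Finset.sum_congr rfl fun χ hχ => by rw [sq_unit (D.a_unit χ hχ), pow_two]
  have hsq := D.square_sum
  have hcen := D.centralizer_le hu' (iv u) (iv u D.θ) hval hθv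
  rw [hg] at hsq
  rw [hc] at hcen
  have hterm : ∀ (a : ℤ) (χ : Cfsg.IrrCharacter G), χ ≠ oneChar G → a = 1 ∨ a = -1 →
      ((a * iv u χ * (a * iv u χ) * ((g : ℤ) / (a * deg χ)) : ℤ) : ℂ) =
        (g : ℂ) * ((a : ℂ) * ((χ : G → ℂ) u * (χ : G → ℂ) u / (deg χ : ℂ))) := by
    intro a χ hχ ha
    have hd0 : deg χ ≠ 0 := by have := PrimeExceptional.two_le_deg hperf χ hχ; omega
    rw [sq_unit ha, Int.cast_mul, Int.cast_div (show a * deg χ ∣ (g : ℤ) by
        rcases ha with rfl | rfl <;> simpa using deg_dvd χ hg)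
      (by rcases ha with rfl | rfl <;> simpa using hd0), (iv_spec hG hχ hu hg hc).1]
    have : (deg χ : ℂ) ≠ 0 := Int.cast_ne_zero.mpr hd0
    rcases ha with rfl | rfl <;> push_cast <;> field_simp
  refine ⟨hk, hw, by rw [hkk]; linarith, by rw [hww]; linarith, ?_, ?_⟩
  · rw [ok, Bool.and_eq_true, decide_eq_true_iff, decide_eq_true_iff, hkk, hww]
    have h1 : 0 ≤ (D.fam.card : ℤ) * deg D.θ ^ 2 := mul_nonneg (Int.natCast_nonneg _) (sq_nonneg _)
    have h2 : 0 ≤ (D.fam.card : ℤ) * iv u D.θ ^ 2 :=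
      mul_nonneg (Int.natCast_nonneg _) (sq_nonneg _)
    constructor <;> nlinarith
  · rw [tVal, hk, hw, Int.cast_sub, hterm D.δ D.θ D.θ_ne_one D.δ_unit, hs, sums, foldl_add]
    simp only [init, sk, sw, hsum]
    rw [Int.cast_add, Int.cast_sum, Finset.sum_congr rfl fun χ hχ =>
      hterm (D.a χ) χ (ne_one_of_mem D hχ) (D.a_unit χ hχ), ← Finset.mul_sum, Pairs.T]
    push_cast
    ring

include hG hP in
/-- The data of a member at an involution. -/
theorem member_spec {g c : ℕ} (hg : Nat.card G = g) {u : G} (hu : orderOf u = 2)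
    (hc : Nat.card (Subgroup.centralizer ({u} : Set G)) = c) {χ : Cfsg.IrrCharacter G}
    (hχ : χ ∈ D.K) :
    (sw D u χ).natAbs < (sk D χ).natAbs ∧ (4 : ℤ) ∣ sk D χ - sw D u χ ∧
      sk D χ ∣ ((g / c : ℕ) : ℤ) * sw D u χ ∧ sw D u χ * sw D u χ ≤ (c : ℤ) ∧
      (p : ℤ) ∣ sk D χ - 1 := by
  obtain ⟨h1, h4, hlt, hd⟩ := iv_spec hG (ne_one_of_mem D hχ) hu hg hc
  have ha := D.a_unit χ hχ
  refine ⟨?_, ?_, ?_, ?_, (FirstPowerKills.signed_facts
    (Cfsg.Agent.Lib.SmallGroups.Sylow.commutator_eq_top hG) hP D hχ).1⟩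
  · rw [sk, sw, natAbs_unit ha, natAbs_unit ha]
    have := abs_lt.mp hlt
    omega
  · rw [sk, sw, ← mul_sub]; exact Dvd.dvd.mul_left h4 _
  · rw [sk, sw]; rcases ha with e' | e' <;> rw [e'] <;> simpa using hd
  · rw [sw, sq_unit ha]
    rw [← hc]
    exact sq_le_centralizer h1

include hG hP in
/-- For an involution centralising `P` the signed values are one modulo `p`. -/
theorem sw_cong (hp2 : p ≠ 2) {g c : ℕ} (hg : Nat.card G = g) {u : G} (hu : orderOf u = 2)
    (hc : Nat.card (Subgroup.centralizer ({u} : Set G)) = c)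
    (huC : u ∈ Subgroup.centralizer ((P : Subgroup G) : Set G)) {χ : Cfsg.IrrCharacter G}
    (hχ : χ ∈ D.K) : (p : ℤ) ∣ sw D u χ - 1 := by
  have hu' : ¬ p ∣ orderOf u := by
    rw [hu]; exact fun h => hp2 ((Nat.prime_dvd_prime_iff_eq hp.out Nat.prime_two).mp h)
  have h := D.value_cong hP hχ huC hu'
  rw [(iv_spec hG (ne_one_of_mem D hχ) hu hg hc).1, ← Int.cast_sub] at h
  have h' := FirstPowerData.int_dvd_of_isIntegral hp.out.ne_zero h
  rw [sw]
  rcases D.a_unit χ hχ with e' | e' <;> rw [e'] at h' ⊢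
  · simpa using h'
  · have := h'.neg_right; simpa [sub_eq_add_neg, add_comm] using this

include hG hP in
/-- A signed degree lies among the candidates. -/
theorem sk_mem {g : ℕ} (hg : Nat.card G = g) {lo : ℕ} {χ : Cfsg.IrrCharacter G} (hχ : χ ∈ D.K)
    (hlo : lo ≤ (deg χ).natAbs) : sk D χ ∈ cands g p lo 1 := by
  have ha := D.a_unit χ hχ
  refine mem_cands (by rwa [sk, natAbs_unit ha]) ?_ ?_ (FirstPowerKills.signed_facts
    (Cfsg.Agent.Lib.SmallGroups.Sylow.commutator_eq_top hG) hP D hχ).1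
  · rw [sk, natAbs_unit ha, ← Int.natAbs_natCast g, Int.natAbs_dvd_natAbs]; exact deg_dvd χ hg
  · rw [sk, sq_unit ha]
    have h := D.square_sum
    rw [hg] at h
    have := Finset.single_le_sum (f := fun χ => deg χ ^ 2) (fun _ _ => sq_nonneg _) hχ
    have h0 : 0 ≤ (D.fam.card : ℤ) * deg D.θ ^ 2 := mul_nonneg (Int.natCast_nonneg _) (sq_nonneg _)
    nlinarith

/-- The final test: the exceptional pair is admissible. -/
def fin (g c p e t lo : ℕ) (extra : Sums → Bool) (s : Sums) : Bool :=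
  decide (lo ≤ s.k.natAbs) && decide (g % s.k.natAbs = 0) &&
    decide ((s.k - (e : ℤ)) % (p : ℤ) = 0) && decide (s.w.natAbs < s.k.natAbs) &&
    decide ((s.k - s.w) % 4 = 0) && decide (((g / c : ℕ) : ℤ) * s.w % s.k = 0) &&
    decide (s.kk + (t : ℤ) * (s.k * s.k) ≤ g) && decide (s.ww + (t : ℤ) * (s.w * s.w) ≤ c) &&
    extra s

include hG hP in
/-- Completeness of a search over a list containing all the pairs of the members. -/
theorem search_eq_true {g c t lo : ℕ} (hg : Nat.card G = g) (hp2 : p ≠ 2) {u : G}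
    (hu : orderOf u = 2) (hc : Nat.card (Subgroup.centralizer ({u} : Set G)) = c)
    (ht : D.fam.card = t) (hlo : lo ≤ (deg D.θ).natAbs) {items : List (ℤ × ℤ)}
    (hmem : ∀ χ ∈ D.K, (sk D χ, sw D u χ) ∈ items) {extra : Sums → Bool}
    (hextra : extra (sums D g u) = true) :
    search (add (g : ℤ)) (ok g c) (fin g c p e t lo extra) items (e - 1) (init g) = true := by
  classical
  obtain ⟨hk, hw, hkk, hww, hok, -⟩ := sums_spec hG hP D hg hp2 hu hc
  obtain ⟨hθv, hθ4, hθlt, hθd⟩ := iv_spec hG D.θ_ne_one hu hg hc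
  have hfin : fin g c p e t lo extra (sums D g u) = true := by
    simp only [fin, Bool.and_eq_true, decide_eq_true_eq, hk, hw, hextra, and_true,
      natAbs_unit D.δ_unit, sq_unit D.δ_unit]
    refine ⟨⟨⟨⟨⟨⟨⟨hlo, Nat.mod_eq_zero_of_dvd ?_⟩,
      Int.emod_eq_zero_of_dvd (D.θ_cong hP)⟩, ?_⟩, Int.emod_eq_zero_of_dvd ?_⟩,
      Int.emod_eq_zero_of_dvd ?_⟩, ?_⟩, ?_⟩
    · rw [← Int.natAbs_natCast g, Int.natAbs_dvd_natAbs]; exact deg_dvd D.θ hg
    · have := abs_lt.mp hθlt
      omega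
    · rw [← mul_sub]; exact Dvd.dvd.mul_left hθ4 _
    · rcases D.δ_unit with e' | e' <;> rw [e'] <;> simpa using hθd
    · rwa [← ht]
    · rwa [← ht]
  have hcard := D.card_K
  have := search_complete (fin := fin g c p e t lo extra) (add_comm' (g : ℤ)) (ok_mono (g : ℤ) c)
    items (D.K.toList.map fun χ => (sk D χ, sw D u χ)) (init g)
    (fun x hx => by
      obtain ⟨χ, hχ, rfl⟩ := List.mem_map.mp hx
      exact hmem χ (Finset.mem_toList.mp hχ)) hok hfin
  rwa [List.length_map, Finset.length_toList, show D.K.card = e - 1 by omega] at this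

end Cfsg.Agent.Lib.RecogM23.Family
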