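import Cfsg.Agent.Lib.RecogM23.Elem
import Cfsg.Agent.Lib.RecogM23.Eigen
import Cfsg.Agent.Lib.RecogM23.CertFour
import Cfsg.Agent.Lib.RecogM23.ClassCount

/-!
Simple groups of order `10200960`: the values at an element of order four, and the number of
factorisations of an element of order eleven.
-/

set_option autoImplicit false
set_option linter.style.haveILetI false
set_option linter.unusedSectionVars false

namespace Cfsg.Agent.Lib.RecogM23.Four

open Cfsg.Agent.Lib.Characters Cfsg.Agent.Lib.Characters.Basic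
open Cfsg.Agent.Lib.Classif
open Cfsg.Agent.Lib.Classif.PrimeExceptional (deg apply_one_eq)
open Cfsg.Agent.Lib.RecogM23.Table

universe u

variable {G : Type u} [Group G] [Finite G] [IsSimpleGroup G] [Fact (Nat.Prime 7)]
  [Fact (Nat.Prime 11)] [Fact (Nat.Prime 23)] (h : Nat.card G = 10200960) (d : Data G)

include h

/-- The column of an element of order `11`. -/
theorem sum_val11 {y : G} (hy : y ∈ (d.F.P : Subgroup G)) (hy1 : y ≠ 1) (f : Fin 17 → ℂ)
    (hf : f 12 = f 11) :
    ∑ i, f i * d.val i y = f 0 + f 2 + f 3 - f 4 + f 15 - f 11 := by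
  have hord : 11 ∣ orderOf y := by
    rw [orderOf_eq_prime (p := 11) ?_ hy1]
    have := orderOf_dvd_natCard (⟨y, hy⟩ : (d.F.P : Subgroup G))
    rw [Subgroup.orderOf_mk, d.F.hP] at this
    exact orderOf_dvd_iff_pow_eq_one.mp this
  have hm : ∀ i, d.ch i ∈ d.F.D.K → d.val i y = (d.F.D.a (d.ch i) : ℂ) := fun i hi => by
    have := d.F.D.value _ hi y hy hy1 1 (one_mem _) (by rw [orderOf_one]; norm_num)
    rwa [mul_one] at this
  have h0 : ∀ i, (11 : ℤ) ∣ dgs i → d.val i y = 0 := fun i hi =>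
    Tools.apply_eq_zero_of_dvd (q := 11) (a := 1) (r := 927360) (by norm_num)
      (by rw [h]; norm_num) (by norm_num) _ (by rw [d.deg_eq]; simpa using hi) hord
  have hfam : d.val 11 y + d.val 12 y = -1 := by
    have hs := d.F.D.fam_singular d.F.hC y hord
    classical
    rw [show d.F.D.fam = {d.ch 11, d.ch 12} by ext χ; simp [d.fam11 χ],
      Finset.sum_pair (d.ne (by decide)), d.a11.2.2.2.2] at hs
    simpa [Data.val] using hs
  obtain ⟨a2, a3, a4, a15, -⟩ := d.a11
  have v0 : d.val 0 y = 1 := by rw [Data.val, d.one, oneChar_apply]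
  simp only [Fin.sum_univ_succ, Fin.sum_univ_zero, add_zero]
  change f 0 * d.val 0 y + (f 1 * d.val 1 y + (f 2 * d.val 2 y + (f 3 * d.val 3 y +
    (f 4 * d.val 4 y + (f 5 * d.val 5 y + (f 6 * d.val 6 y + (f 7 * d.val 7 y + (f 8 * d.val 8 y +
    (f 9 * d.val 9 y + (f 10 * d.val 10 y + (f 11 * d.val 11 y + (f 12 * d.val 12 y +
    (f 13 * d.val 13 y + (f 14 * d.val 14 y + (f 15 * d.val 15 y +
    f 16 * d.val 16 y))))))))))))))) = _
  rw [v0, h0 1 (by decide), h0 5 (by decide), h0 6 (by decide), h0 7 (by decide),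
    h0 8 (by decide), h0 9 (by decide), h0 10 (by decide), h0 13 (by decide), h0 14 (by decide),
    h0 16 (by decide), hm 2 ((d.K11 _).mpr (by simp)), hm 3 ((d.K11 _).mpr (by simp)),
    hm 4 ((d.K11 _).mpr (by simp)), hm 15 ((d.K11 _).mpr (by simp)), a2, a3, a4, a15, hf]
  push_cast
  linear_combination f 11 * hfam

/-- The column of an element of order `23`. -/
theorem sum_val23 {y : G} (hy : y ∈ (d.T.P : Subgroup G)) (hy1 : y ≠ 1) (f : Fin 17 → ℂ)
    (hf : f 10 = f 9) :
    ∑ i, f i * d.val i y =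
      f 0 - f 1 - f 2 - f 3 + f 5 + f 6 + f 7 - f 11 - f 12 + f 13 + f 14 - f 9 := by
  have hord : 23 ∣ orderOf y := by
    rw [orderOf_eq_prime (p := 23) ?_ hy1]
    have := orderOf_dvd_natCard (⟨y, hy⟩ : (d.T.P : Subgroup G))
    rw [Subgroup.orderOf_mk, d.T.hP] at this
    exact orderOf_dvd_iff_pow_eq_one.mp this
  have hm : ∀ i, d.ch i ∈ d.T.D.K → d.val i y = (d.T.D.a (d.ch i) : ℂ) := fun i hi => by
    have := d.T.D.value _ hi y hy hy1 1 (one_mem _) (by rw [orderOf_one]; norm_num)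
    rwa [mul_one] at this
  have h0 : ∀ i, (23 : ℤ) ∣ dgs i → d.val i y = 0 := fun i hi =>
    Tools.apply_eq_zero_of_dvd (q := 23) (a := 1) (r := 443520) (by norm_num)
      (by rw [h]; norm_num) (by norm_num) _ (by rw [d.deg_eq]; simpa using hi) hord
  have hfam : d.val 9 y + d.val 10 y = -1 := by
    have hs := d.T.D.fam_singular d.T.hC y hord
    classical
    rw [show d.T.D.fam = {d.ch 9, d.ch 10} by ext χ; simp [d.fam23 χ],
      Finset.sum_pair (d.ne (by decide)), d.a23.2.2.2.2.2.2.2.2.2.2] at hs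
    simpa [Data.val] using hs
  obtain ⟨b1, b2, b3, b5, b6, b7, b11, b12, b13, b14, -⟩ := d.a23
  have v0 : d.val 0 y = 1 := by rw [Data.val, d.one, oneChar_apply]
  simp only [Fin.sum_univ_succ, Fin.sum_univ_zero, add_zero]
  change f 0 * d.val 0 y + (f 1 * d.val 1 y + (f 2 * d.val 2 y + (f 3 * d.val 3 y +
    (f 4 * d.val 4 y + (f 5 * d.val 5 y + (f 6 * d.val 6 y + (f 7 * d.val 7 y + (f 8 * d.val 8 y +
    (f 9 * d.val 9 y + (f 10 * d.val 10 y + (f 11 * d.val 11 y + (f 12 * d.val 12 y +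
    (f 13 * d.val 13 y + (f 14 * d.val 14 y + (f 15 * d.val 15 y +
    f 16 * d.val 16 y))))))))))))))) = _
  rw [v0, h0 4 (by decide), h0 8 (by decide), h0 15 (by decide), h0 16 (by decide),
    hm 1 ((d.K23 _).mpr (by simp)), hm 2 ((d.K23 _).mpr (by simp)),
    hm 3 ((d.K23 _).mpr (by simp)), hm 5 ((d.K23 _).mpr (by simp)),
    hm 6 ((d.K23 _).mpr (by simp)), hm 7 ((d.K23 _).mpr (by simp)),
    hm 11 ((d.K23 _).mpr (by simp)), hm 12 ((d.K23 _).mpr (by simp)),
    hm 13 ((d.K23 _).mpr (by simp)), hm 14 ((d.K23 _).mpr (by simp)), b1, b2, b3, b5, b6, b7, b11,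
    b12, b13, b14, hf]
  push_cast
  linear_combination f 9 * hfam

omit h in
theorem sum17 {M : Type} [AddCommMonoid M] (f : Fin 17 → M) : ∑ i, f i =
    f 0 + (f 1 + (f 2 + (f 3 + (f 4 + (f 5 + (f 6 + (f 7 + (f 8 + (f 9 + (f 10 + (f 11 + (f
      12 + (f 13 + (f 14 + (f 15 + (f 16)))))))))))))))) := by
  simp only [Fin.sum_univ_succ, Fin.sum_univ_zero, add_zero]
  rfl

/-- The data at an element of order four. -/
theorem exists_data {b : G} (hb : orderOf b = 4) (hbu : b * b = d.u) :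
    ∃ I : ℤ, d.val 1 b = 2 + (I : ℂ) * Complex.I ∧
      Nat.card (Subgroup.centralizer ({b} : Set G)) = 32 ∧
      ∀ [Fintype G] [DecidableEq G], ∀ q ∈ (d.F.P : Subgroup G), q ≠ 1 →
        (ClassCount.facs d.u b q).card = 77 := by
  classical
  haveI := Fintype.ofFinite G
  haveI := Fintype.ofFinite (Cfsg.IrrCharacter G)
  have hG := Base.not_comm h
  have hperf := Cfsg.Agent.Lib.SmallGroups.Sylow.commutator_eq_top hG
  set N := Nat.card (Subgroup.centralizer ({b} : Set G)) with hN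
  have hb4 : b ^ 4 = 1 := by rw [← hb, pow_orderOf_eq_one]
  have huval : ∀ i, d.val i d.u = (ts i : ℂ) := by
    intro i
    rcases eq_or_ne (d.ch i) (oneChar G) with e | e
    · rw [Data.val, e, oneChar_apply, ← d.iv_eq i, e, Family.iv_oneChar, Int.cast_one]
    · rw [Data.val, (Family.iv_spec hG e d.hu h rfl).1, d.iv_eq]
  have hex : ∀ i, ∃ r I : ℤ, d.val i b = (r : ℂ) + (I : ℂ) * Complex.I ∧
      (4 : ℤ) ∣ dgs i + ts i + 2 * r ∧ 2 * r ≤ dgs i + ts i ∧ -(2 * r) ≤ dgs i + ts i ∧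
      (((dgs i + ts i - 2 * r) / 4) % 2 ≠ 0 → 4 ≤ I * I) := by
    intro i
    obtain ⟨r, I, h1, h2, h3, h4, h5⟩ := Eigen.four hperf (d.ch i) hb4
      (t := ts i) (by rw [pow_two, hbu]; exact huval i)
    rw [d.deg_eq] at h2 h3 h4 h5
    exact ⟨r, I, h1, h2, h3, h4, h5⟩
  choose r I hval h4 hhi hlo hodd using hex
  -- the order of the centraliser
  have hN4 : 4 ∣ N := hb ▸ Subgroup.orderOf_dvd_natCard _
    (Subgroup.mem_centralizer_singleton_iff.mpr rfl)
  have hN2688 : N ∣ 2688 := by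
    rw [← d.hc]
    refine Subgroup.card_dvd_of_le fun x hx => ?_
    rw [Subgroup.mem_centralizer_singleton_iff] at hx ⊢
    rw [← hbu]
    exact (Commute.mul_right (hx : Commute x b) hx).eq
  have hNmem : N ∈ orders := by
    obtain ⟨m, hm⟩ := hN4
    have hle := Nat.le_of_dvd (by norm_num) hN2688
    have hpos : 0 < N := Nat.card_pos
    rw [orders, List.mem_filterMap]
    exact ⟨m, List.mem_range.mpr (by omega), by
      rw [if_pos ⟨Nat.mod_eq_zero_of_dvd (hm ▸ hN2688), by omega⟩, hm]⟩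
  have hidx : (Subgroup.centralizer ({b} : Set G)).index = 10200960 / N := by
    have := Subgroup.card_mul_index (Subgroup.centralizer ({b} : Set G))
    rw [h, ← hN] at this
    rw [← this, Nat.mul_div_cancel_left _ Nat.card_pos]
  -- the central character
  have hdiv : ∀ i, dgs i ∣ 2 * ((10200960 / N : ℕ) : ℤ) * r i := by
    intro i
    obtain ⟨n, ρ, hirr, hρ⟩ := exists_rep (d.ch i)
    haveI := hirr
    have hint := Induced.Integral.isIntegral_centralCharacter ρ b
    rw [hρ, Module.finrank_fin_fun, hidx] at hint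
    have hn := RecogThree.M12.Basic.rep_deg (d.ch i) hρ
    have hint' := hint.add (Degree.isIntegral_conj hint)
    rw [show (d.ch i : G → ℂ) b = d.val i b from rfl, hval i] at hint'
    have hdeg : (n : ℤ) = dgs i := hn.trans (d.deg_eq i)
    rw [← hdeg]
    refine FirstPowerData.int_dvd_of_isIntegral ?_ ?_
    · intro h0
      have := PrimeExceptional.two_le_deg (G := G)
      rw [h0] at hdeg
      revert hdeg
      fin_cases i <;> simp [dgs]
    · have he : ((2 * ((10200960 / N : ℕ) : ℤ) * r i : ℤ) : ℂ) / (n : ℂ) =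
          ((10200960 / N : ℕ) : ℂ) * ((r i : ℂ) + (I i : ℂ) * Complex.I) / (n : ℂ) +
            (starRingEnd ℂ) (((10200960 / N : ℕ) : ℂ) * ((r i : ℂ) + (I i : ℂ) * Complex.I) /
              (n : ℂ)) := by
        generalize (10200960 / N : ℕ) = M
        simp only [map_div₀, map_mul, map_add, map_natCast, map_intCast, Complex.conj_I]
        push_cast
        ring
      rw [he]
      exact hint'
  have hok : ∀ i, okR N (r i) (dgs i) (ts i) = true := by
    intro i
    simp only [okR, Bool.and_eq_true, decide_eq_true_eq]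
    exact ⟨⟨⟨hhi i, hlo i⟩, Int.emod_eq_zero_of_dvd (h4 i)⟩, Int.emod_eq_zero_of_dvd (hdiv i)⟩
  -- the norm
  have hnorm : ∑ i, (r i * r i + I i * I i) = (N : ℤ) := by
    have h' := Complete.sum_irr_mul_conj b b
    rw [if_pos (IsConj.refl b), d.sum_eq, Finset.sum_congr rfl fun i _ => by
      rw [show (d.ch i : G → ℂ) b = d.val i b from rfl, hval i]] at h'
    have h'' := congrArg Complex.re h'
    simp only [Complex.re_sum, Complex.natCast_re, map_add, map_mul, map_intCast, Complex.conj_I,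
      Complex.mul_re, Complex.add_re, Complex.intCast_re, Complex.intCast_im, Complex.I_re,
      Complex.I_im, Complex.add_im, Complex.mul_im, Complex.neg_re, Complex.neg_im, mul_zero,
      zero_mul, mul_one, sub_zero, add_zero, zero_add, mul_neg, sub_neg_eq_add, neg_zero] at h''
    rw [Finset.sum_congr rfl fun i _ => show (r i : ℝ) * r i + (I i : ℝ) * I i =
      ((r i * r i + I i * I i : ℤ) : ℝ) by push_cast; ring, ← Int.cast_sum] at h''
    exact_mod_cast h''
  have hnr : ∀ i, nr (r i) (dgs i) (ts i) ≤ r i * r i + I i * I i := by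
    intro i
    rw [nr]
    split_ifs with he
    · have := mul_self_nonneg (I i); linarith
    · have := hodd i he; linarith
  have hnr0 : ∀ i, r i * r i ≤ nr (r i) (dgs i) (ts i) := by
    intro i
    rw [nr]
    split_ifs <;> omega
  have hrs : ∀ i, r i ∈ rs N (dgs i) (ts i) := by
    intro i
    have hle : nr (r i) (dgs i) (ts i) ≤ (N : ℤ) := by
      rw [← hnorm]
      exact (hnr i).trans (Finset.single_le_sum (f := fun i => r i * r i + I i * I i)
        (fun j _ => add_nonneg (mul_self_nonneg _) (mul_self_nonneg _)) (Finset.mem_univ i))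
    have hs : (r i).natAbs ≤ Nat.sqrt N := by
      rw [Nat.le_sqrt]
      have : (((r i).natAbs * (r i).natAbs : ℕ) : ℤ) ≤ N := by
        push_cast; rw [abs_mul_abs_self]; linarith [hnr0 i]
      exact_mod_cast this
    simp only [rs, List.mem_filter, List.mem_map, List.mem_range, Bool.and_eq_true,
      decide_eq_true_eq]
    refine ⟨⟨(r i + (Nat.sqrt N : ℤ)).toNat, ?_, ?_⟩, hok i, hle⟩
    · omega
    · omega
  -- the relations
  have hbn : ∀ p : ℕ, p.Prime → p ≠ 2 → ¬ p ∣ orderOf b := fun p hp hp2 hd => by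
    rw [hb, show (4 : ℕ) = 2 ^ 2 by norm_num] at hd
    exact hp2 ((Nat.prime_dvd_prime_iff_eq hp Nat.prime_two).mp (hp.dvd_of_dvd_pow hd))
  obtain ⟨e11, e12⟩ := d.rel11 (hbn 11 (by norm_num) (by norm_num))
  obtain ⟨e7, e14⟩ := d.rel7 (hbn 7 (by norm_num) (by norm_num))
  obtain ⟨e23, e10⟩ := d.rel23 (hbn 23 (by norm_num) (by norm_num))
  have hre : ∀ i, (d.val i b).re = (r i : ℝ) := fun i => by simp [hval i]
  have r11 : 1 + r 2 + r 3 - r 4 + r 15 = r 11 := by
    have := congrArg Complex.re e11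
    simp only [Complex.add_re, Complex.sub_re, Complex.one_re, hre] at this
    exact_mod_cast this
  have r12 : r 12 = r 11 := by
    have := congrArg Complex.re e12
    simp only [hre] at this
    exact_mod_cast this
  have r7 : 1 - r 15 + r 16 = r 13 := by
    have := congrArg Complex.re e7
    simp only [Complex.add_re, Complex.sub_re, Complex.one_re, hre] at this
    exact_mod_cast this
  have r14 : r 14 = r 13 := by
    have := congrArg Complex.re e14
    simp only [hre] at this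
    exact_mod_cast this
  have r23 : 1 - r 1 - r 2 - r 3 + r 5 + r 6 + r 7 - r 11 - r 12 + r 13 + r 14 = r 9 := by
    have := congrArg Complex.re e23
    simp only [Complex.add_re, Complex.sub_re, Complex.one_re, hre] at this
    exact_mod_cast this
  have r10 : r 10 = r 9 := by
    have := congrArg Complex.re e10
    simp only [hre] at this
    exact_mod_cast this
  have r0 : r 0 = 1 := by
    have := hre 0
    rw [Data.val, d.one, oneChar_apply, Complex.one_re] at this
    exact_mod_cast this.symm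
  -- two columns
  have hb1 : b ≠ 1 := fun e => by rw [e, orderOf_one] at hb; omega
  have o1 : ∑ i, dgs i * r i = 0 := by
    have h' := Complete.sum_irr_mul_conj b 1
    rw [if_neg (fun hc => hb1 (isConj_one_left.mp hc)), d.sum_eq,
      Finset.sum_congr rfl fun i _ => by
        rw [apply_one_eq, d.deg_eq, map_intCast, show (d.ch i : G → ℂ) b = d.val i b from rfl]]
      at h'
    have h'' := congrArg Complex.re h'
    simp only [Complex.re_sum, Complex.mul_re, Complex.intCast_re, Complex.intCast_im, mul_zero,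
      sub_zero, hre, Complex.zero_re] at h''
    rw [Finset.sum_congr rfl fun i _ => show (r i : ℝ) * dgs i = ((dgs i * r i : ℤ) : ℝ) by
      push_cast; ring, ← Int.cast_sum] at h''
    exact_mod_cast h''
  have o2 : ∑ i, ts i * r i = 0 := by
    have h' := Complete.sum_irr_mul_conj b d.u
    rw [if_neg (fun hc => by
      obtain ⟨g, hg⟩ := isConj_iff.mp hc
      have := congrArg orderOf hg
      rw [d.hu, show g * b * g⁻¹ = MulAut.conj g b from rfl, MulEquiv.orderOf_eq, hb] at this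
      omega), d.sum_eq,
      Finset.sum_congr rfl fun i _ => by
        rw [show (d.ch i : G → ℂ) d.u = d.val i d.u from rfl, huval, map_intCast,
          show (d.ch i : G → ℂ) b = d.val i b from rfl]] at h'
    have h'' := congrArg Complex.re h'
    simp only [Complex.re_sum, Complex.mul_re, Complex.intCast_re, Complex.intCast_im, mul_zero,
      sub_zero, hre, Complex.zero_re] at h''
    rw [Finset.sum_congr rfl fun i _ => show (r i : ℝ) * ts i = ((ts i * r i : ℤ) : ℝ) by
      push_cast; ring, ← Int.cast_sum] at h''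
    exact_mod_cast h''
  simp only [Fin.sum_univ_succ, Fin.sum_univ_zero, add_zero] at o1 o2 hnorm
  change 1 * r 0 + (22 * r 1 + (45 * r 2 + (45 * r 3 + (230 * r 4 + (231 * r 5 + (231 * r 6 +
    (231 * r 7 + (253 * r 8 + (770 * r 9 + (770 * r 10 + (896 * r 11 + (896 * r 12 + (990 * r 13 +
    (990 * r 14 + (1035 * r 15 + 2024 * r 16))))))))))))))) = 0 at o1
  change 1 * r 0 + (6 * r 1 + (-3 * r 2 + (-3 * r 3 + (22 * r 4 + (7 * r 5 + (7 * r 6 +
    (7 * r 7 + (13 * r 8 + (-14 * r 9 + (-14 * r 10 + (0 * r 11 + (0 * r 12 + (-18 * r 13 +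
    (-18 * r 14 + (27 * r 15 + 8 * r 16))))))))))))))) = 0 at o2
  change (r 0 * r 0 + I 0 * I 0) + ((r 1 * r 1 + I 1 * I 1) + ((r 2 * r 2 + I 2 * I 2) +
    ((r 3 * r 3 + I 3 * I 3) + ((r 4 * r 4 + I 4 * I 4) + ((r 5 * r 5 + I 5 * I 5) +
    ((r 6 * r 6 + I 6 * I 6) + ((r 7 * r 7 + I 7 * I 7) + ((r 8 * r 8 + I 8 * I 8) +
    ((r 9 * r 9 + I 9 * I 9) + ((r 10 * r 10 + I 10 * I 10) + ((r 11 * r 11 + I 11 * I 11) +
    ((r 12 * r 12 + I 12 * I 12) + ((r 13 * r 13 + I 13 * I 13) + ((r 14 * r 14 + I 14 * I 14) +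
    ((r 15 * r 15 + I 15 * I 15) + (r 16 * r 16 + I 16 * I 16)))))))))))))))) = (N : ℤ) at hnorm
  -- the counts
  have hcount : ∀ z : G, ∃ n : ℕ, (n : ℂ) * 2688 * N = (Nat.card G : ℂ) * ∑ i,
      (ts i : ℂ) * d.val i b / (dgs i : ℂ) * d.val i z⁻¹ ∧
      n = (ClassCount.facs d.u b z).card := by
    intro z
    refine ⟨_, ?_, rfl⟩
    have h' := ClassCount.card_facs d.u b z
    rw [d.hc, ← hN, d.sum_eq] at h'
    rw [show ((2688 : ℕ) : ℂ) = 2688 by norm_num] at h'
    rw [h']
    congr 1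
    refine Finset.sum_congr rfl fun i _ => ?_
    rw [show (d.ch i : G → ℂ) d.u = d.val i d.u from rfl, huval, d.deg_eq,
      show (d.ch i : G → ℂ) b = d.val i b from rfl,
      show (d.ch i : G → ℂ) z⁻¹ = d.val i z⁻¹ from rfl]
    ring
  have hq : ∀ q ∈ (d.F.P : Subgroup G), q ≠ 1 →
      ((ClassCount.facs d.u b q).card : ℤ) * 2688 * N = x11 (r 2) (r 3) (r 4) (r 15) := by
    intro q hq hq1
    obtain ⟨n, hn, rfl⟩ := hcount q
    rw [sum_val11 h d (inv_mem hq) (inv_ne_one.mpr hq1)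
      (fun i => (ts i : ℂ) * d.val i b / (dgs i : ℂ)) (by
        show (ts 12 : ℂ) * d.val 12 b / (dgs 12 : ℂ) = (ts 11 : ℂ) * d.val 11 b / (dgs 11 : ℂ)
        rw [e12]; rfl), h] at hn
    simp only [show ts 0 = 1 from rfl, show ts 2 = -3 from rfl, show ts 3 = -3 from rfl, show ts 4 = 22 from rfl, show ts 15 = 27 from rfl, show ts 11 = 0 from rfl, show dgs 0 = 1 from rfl, show dgs 2 = 45 from rfl, show dgs 3 = 45 from rfl, show dgs 4 = 230 from rfl, show dgs 15 = 1035 from rfl, show dgs 11 = 896 from rfl] at hn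
    have hn' := congrArg Complex.re hn
    norm_num [Complex.div_re, Complex.normSq, hre, r0] at hn'
    rw [x11]
    have : (((ClassCount.facs d.u b q).card : ℤ) * 2688 * N : ℝ) =
        ((10200960 - 680064 * (r 2 + r 3) - 975744 * r 4 + 266112 * r 15 : ℤ) : ℝ) := by
      push_cast
      linarith
    exact_mod_cast this
  have hq23 : ∀ z ∈ (d.T.P : Subgroup G), z ≠ 1 →
      ((ClassCount.facs d.u b z).card : ℤ) * 2688 * N = 10200960 - 2782080 * r 1 +
        309120 * (r 5 + r 6 + r 7) + 680064 * (r 2 + r 3) - 370944 * r 13 + 185472 * r 9 := by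
    intro z hz hz1
    obtain ⟨n, hn, rfl⟩ := hcount z
    rw [sum_val23 h d (inv_mem hz) (inv_ne_one.mpr hz1)
      (fun i => (ts i : ℂ) * d.val i b / (dgs i : ℂ)) (by
        show (ts 10 : ℂ) * d.val 10 b / (dgs 10 : ℂ) = (ts 9 : ℂ) * d.val 9 b / (dgs 9 : ℂ)
        rw [e10]; rfl), h] at hn
    simp only [show ts 0 = 1 from rfl, show dgs 0 = 1 from rfl, show ts 1 = 6 from rfl, show dgs 1 =
      22 from rfl, show ts 2 = -3 from rfl, show dgs 2 = 45 from rfl, show ts 3 = -3 from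
      rfl, show dgs 3 = 45 from rfl, show ts 5 = 7 from rfl, show dgs 5 = 231 from rfl, show
      ts 6 = 7 from rfl, show dgs 6 = 231 from rfl, show ts 7 = 7 from rfl, show dgs 7 = 231
      from rfl, show ts 11 = 0 from rfl, show dgs 11 = 896 from rfl, show ts 12 = 0 from
      rfl, show dgs 12 = 896 from rfl, show ts 13 = -18 from rfl, show dgs 13 = 990 from
      rfl, show ts 14 = -18 from rfl, show dgs 14 = 990 from rfl, show ts 9 = -14 from rfl,
      show dgs 9 = 770 from rfl] at hn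
    have hn' := congrArg Complex.re hn
    norm_num [Complex.div_re, Complex.normSq, hre, r0, r12, r14] at hn'
    have : (((ClassCount.facs d.u b z).card : ℤ) * 2688 * N : ℝ) =
        ((10200960 - 2782080 * r 1 + 309120 * (r 5 + r 6 + r 7) + 680064 * (r 2 + r 3) -
          370944 * r 13 + 185472 * r 9 : ℤ) : ℝ) := by
      push_cast
      linarith
    exact_mod_cast this
  obtain ⟨nK, hnK⟩ : ∃ n : ℕ, (n : ℤ) * (2688 * 2688) = 10200960 + 16692480 * r 1 +
      2040192 * (r 2 + r 3) + 21466368 * r 4 + 2163840 * (r 5 + r 6 + r 7) + 6814080 * r 8 +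
      5193216 * r 9 + 6676992 * r 13 + 7185024 * r 15 + 322560 * r 16 := by
    refine ⟨(ClassCount.facs d.u d.u b).card, ?_⟩
    have h' := ClassCount.card_facs d.u d.u b
    rw [d.hc, d.sum_eq, h, Finset.sum_congr rfl fun i _ => by
      rw [show (d.ch i : G → ℂ) d.u = d.val i d.u from rfl, huval, d.deg_eq,
        apply_inv (isCharacter_irr _), show (d.ch i : G → ℂ) b = d.val i b from rfl]] at h'
    rw [sum17] at h'
    simp only [show ts 0 = 1 from rfl, show dgs 0 = 1 from rfl, show ts 1 = 6 from rfl, show dgs 1 = 22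
      from rfl, show ts 2 = -3 from rfl, show dgs 2 = 45 from rfl, show ts 3 = -3 from rfl, show
      dgs 3 = 45 from rfl, show ts 4 = 22 from rfl, show dgs 4 = 230 from rfl, show ts 5 = 7
      from rfl, show dgs 5 = 231 from rfl, show ts 6 = 7 from rfl, show dgs 6 = 231 from rfl,
      show ts 7 = 7 from rfl, show dgs 7 = 231 from rfl, show ts 8 = 13 from rfl, show dgs 8 =
      253 from rfl, show ts 9 = -14 from rfl, show dgs 9 = 770 from rfl, show ts 10 = -14 from
      rfl, show dgs 10 = 770 from rfl, show ts 11 = 0 from rfl, show dgs 11 = 896 from rfl, show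
      ts 12 = 0 from rfl, show dgs 12 = 896 from rfl, show ts 13 = -18 from rfl, show dgs 13 =
      990 from rfl, show ts 14 = -18 from rfl, show dgs 14 = 990 from rfl, show ts 15 = 27 from
      rfl, show dgs 15 = 1035 from rfl, show ts 16 = 8 from rfl, show dgs 16 = 2024 from rfl] at h'
    have h'' := congrArg Complex.re h'
    norm_num [Complex.div_re, Complex.normSq, hre, r0, r12, r14, r10] at h''
    have : (((ClassCount.facs d.u d.u b).card : ℤ) * (2688 * 2688) : ℝ) = ((10200960 +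
        16692480 * r 1 + 2040192 * (r 2 + r 3) + 21466368 * r 4 + 2163840 * (r 5 + r 6 + r 7) +
        6814080 * r 8 + 5193216 * r 9 + 6676992 * r 13 + 7185024 * r 15 + 322560 * r 16 : ℤ) :
          ℝ) := by
      push_cast
      linarith
    exact_mod_cast this
  -- the search
  obtain ⟨q₀, hq₀, hq₀1⟩ : ∃ q ∈ (d.F.P : Subgroup G), q ≠ 1 := by
    haveI : Nontrivial (d.F.P : Subgroup G) :=
      Finite.one_lt_card_iff_nontrivial.mp (by rw [d.F.hP]; norm_num)
    obtain ⟨⟨q, hq'⟩, hq1⟩ := exists_ne (1 : (d.F.P : Subgroup G))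
    exact ⟨q, hq', fun e => hq1 (Subtype.ext e)⟩
  obtain ⟨z₀, hz₀, hz₀1⟩ : ∃ z ∈ (d.T.P : Subgroup G), z ≠ 1 := by
    haveI : Nontrivial (d.T.P : Subgroup G) :=
      Finite.one_lt_card_iff_nontrivial.mp (by rw [d.T.hP]; norm_num)
    obtain ⟨⟨q, hq'⟩, hq1⟩ := exists_ne (1 : (d.T.P : Subgroup G))
    exact ⟨q, hq', fun e => hq1 (Subtype.ext e)⟩
  have k11 := hq q₀ hq₀ hq₀1
  have k23 := hq23 z₀ hz₀ hz₀1
  have hpos : (0 : ℤ) < 2688 * N := by
    have : 0 < N := Nat.card_pos
    positivity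
  have hI := fun i => mul_self_nonneg (I i)
  have hn2 := fun i => hnr i
  have hd := dead_all N hNmem
  have hd1 := List.all_eq_true.mp (List.all_eq_true.mp hd _ (hrs 2)) _ (hrs 3)
  have hd2 := List.all_eq_true.mp (List.all_eq_true.mp hd1 _ (hrs 4)) _ (hrs 11)
  have he : r 11 - 1 - r 2 - r 3 + r 4 = r 15 := by linarith
  simp only [he] at hd2
  have q2 := hnr 2; have q3 := hnr 3; have q4 := hnr 4; have q11 := hnr 11; have q15 := hnr 15
  have q16 := hnr 16; have q13 := hnr 13; have q1 := hnr 1; have q8 := hnr 8; have q9 := hnr 9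
  have q5 := hnr0 5; have q6 := hnr0 6; have q7 := hnr0 7
  have q12 : nr (r 11) 896 0 ≤ r 12 * r 12 + I 12 * I 12 := by rw [← r12]; exact hnr 12
  have q14 : nr (r 13) 990 (-18) ≤ r 14 * r 14 + I 14 * I 14 := by rw [← r14]; exact hnr 14
  have q10 : nr (r 9) 770 (-14) ≤ r 10 * r 10 + I 10 * I 10 := by rw [← r10]; exact hnr 10
  change nr (r 2) 45 (-3) ≤ _ at q2; change nr (r 3) 45 (-3) ≤ _ at q3
  change nr (r 4) 230 22 ≤ _ at q4; change nr (r 11) 896 0 ≤ _ at q11
  change nr (r 15) 1035 27 ≤ _ at q15; change nr (r 16) 2024 8 ≤ _ at q16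
  change nr (r 13) 990 (-18) ≤ _ at q13; change nr (r 1) 22 6 ≤ _ at q1
  change nr (r 8) 253 13 ≤ _ at q8; change nr (r 9) 770 (-14) ≤ _ at q9
  have p0 : 1 ≤ r 0 * r 0 + I 0 * I 0 := by rw [r0]; linarith [hI 0]
  have p5 := hI 5; have p6 := hI 6; have p7 := hI 7
  have n1 : ∀ i, 0 ≤ r i * r i + I i * I i := fun i => add_nonneg (mul_self_nonneg _) (hI i)
  have m1 := n1 1; have m5 := n1 5; have m6 := n1 6; have m7 := n1 7; have m8 := n1 8
  have m9 := n1 9; have m10 := n1 10; have m13 := n1 13; have m14 := n1 14; have m16 := n1 16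
  have hx : (decide (0 ≤ x11 (r 2) (r 3) (r 4) (r 15)) &&
      decide (x11 (r 2) (r 3) (r 4) (r 15) % (2688 * (N : ℤ)) = 0) &&
      okR N (r 15) 1035 27 && decide (1 + nr (r 2) 45 (-3) + nr (r 3) 45 (-3) + nr (r 4) 230 22 +
        2 * nr (r 11) 896 0 + nr (r 15) 1035 27 ≤ (N : ℤ))) = true := by
    simp only [Bool.and_eq_true, decide_eq_true_eq]
    refine ⟨⟨⟨?_, ?_⟩, hok 15⟩, by linarith⟩
    · rw [← k11]
      exact mul_nonneg (mul_nonneg (Int.natCast_nonneg _) (by norm_num)) (Int.natCast_nonneg _)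
    · rw [← k11, mul_assoc]; exact Int.mul_emod_left _ _
  rw [hx, Bool.not_true, Bool.false_or] at hd2
  have hd3 := List.all_eq_true.mp hd2 _ (hrs 16)
  simp only [r7] at hd3
  rw [show (okR N (r 13) 990 (-18) && decide (1 + nr (r 2) 45 (-3) + nr (r 3) 45 (-3) +
      nr (r 4) 230 22 + 2 * nr (r 11) 896 0 + nr (r 15) 1035 27 + nr (r 16) 2024 8 +
      2 * nr (r 13) 990 (-18) ≤ (N : ℤ))) = true by
    simp only [Bool.and_eq_true, decide_eq_true_eq]
    exact ⟨hok 13, by linarith⟩, Bool.not_true, Bool.false_or] at hd3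
  have hd4 := List.all_eq_true.mp hd3 _ (hrs 1)
  rw [show decide (1 + nr (r 2) 45 (-3) + nr (r 3) 45 (-3) + nr (r 4) 230 22 +
      2 * nr (r 11) 896 0 + nr (r 15) 1035 27 + nr (r 16) 2024 8 + 2 * nr (r 13) 990 (-18) +
      nr (r 1) 22 6 ≤ (N : ℤ)) = true from decide_eq_true (by linarith),
    Bool.not_true, Bool.false_or] at hd4
  have hk : 1 - r 1 - r 2 - r 3 + 2 * r 13 - 2 * r 11 + (r 5 + r 6 + r 7) = r 9 := by
    linarith
  have hs : -(13 * (1 + 22 * r 1 + 45 * (r 2 + r 3) + 230 * r 4 + 1792 * r 11 + 1980 * r 13 +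
      1035 * r 15 + 2024 * r 16 + 1540 * (1 - r 1 - r 2 - r 3 + 2 * r 13 - 2 * r 11))) +
      253 * (1 + 6 * r 1 - 3 * (r 2 + r 3) + 22 * r 4 - 36 * r 13 + 27 * r 15 + 8 * r 16 -
        28 * (1 - r 1 - r 2 - r 3 + 2 * r 13 - 2 * r 11)) = (r 5 + r 6 + r 7) * 28336 := by
    linarith
  have hds : -(1771 * (1 + 6 * r 1 - 3 * (r 2 + r 3) + 22 * r 4 - 36 * r 13 + 27 * r 15 +
      8 * r 16 - 28 * (1 - r 1 - r 2 - r 3 + 2 * r 13 - 2 * r 11))) -
      21 * (1 + 22 * r 1 + 45 * (r 2 + r 3) + 230 * r 4 + 1792 * r 11 + 1980 * r 13 +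
      1035 * r 15 + 2024 * r 16 + 1540 * (1 - r 1 - r 2 - r 3 + 2 * r 13 - 2 * r 11)) =
      r 8 * 28336 := by
    linarith
  simp only [last, r7, hs, hds, Int.mul_emod_left, Int.mul_ediv_cancel _ (by norm_num : (28336 : ℤ) ≠ 0),
    hk, decide_true, Bool.true_and] at hd4
  have hsq : 3 * (r 5 * r 5 + r 6 * r 6 + r 7 * r 7) ≥
      (r 5 + r 6 + r 7) * (r 5 + r 6 + r 7) := by
    nlinarith [sq_nonneg (r 5 - r 6), sq_nonneg (r 5 - r 7), sq_nonneg (r 6 - r 7)]
  rw [show (okR N (r 8) 253 13 &&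
      okR N (r 9) 770 (-14) && decide (3 * (1 + nr (r 1) 22 6 + nr (r 2) 45 (-3) +
        nr (r 3) 45 (-3) + nr (r 4) 230 22 + 2 * nr (r 11) 896 0 + nr (r 15) 1035 27 +
        nr (r 16) 2024 8 + 2 * nr (r 13) 990 (-18) + nr (r 8) 253 13 + 2 * nr (r 9) 770 (-14)) +
        (r 5 + r 6 + r 7) * (r 5 + r 6 + r 7) ≤ 3 * (N : ℤ)) &&
      decide (0 ≤ 10200960 - 2782080 * r 1 + 309120 * (r 5 + r 6 + r 7) + 680064 * (r 2 + r 3) -
        370944 * r 13 + 185472 * r 9) &&
      decide ((10200960 - 2782080 * r 1 + 309120 * (r 5 + r 6 + r 7) + 680064 * (r 2 + r 3) -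
        370944 * r 13 + 185472 * r 9) % (2688 * (N : ℤ)) = 0) &&
      decide (0 ≤ 10200960 + 16692480 * r 1 + 2040192 * (r 2 + r 3) + 21466368 * r 4 +
        2163840 * (r 5 + r 6 + r 7) + 6814080 * r 8 + 5193216 * r 9 + 6676992 * r 13 +
        7185024 * r 15 + 322560 * r 16) &&
      decide ((10200960 + 16692480 * r 1 + 2040192 * (r 2 + r 3) + 21466368 * r 4 +
        2163840 * (r 5 + r 6 + r 7) + 6814080 * r 8 + 5193216 * r 9 + 6676992 * r 13 +
        7185024 * r 15 + 322560 * r 16) % (2688 * 2688) = 0)) = true by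
    simp only [Bool.and_eq_true, decide_eq_true_eq, ← k23, ← hnK]
    exact ⟨⟨⟨⟨⟨⟨hok 8, hok 9⟩, by nlinarith⟩,
      mul_nonneg (mul_nonneg (Int.natCast_nonneg _) (by norm_num)) (Int.natCast_nonneg _)⟩,
      by rw [mul_assoc]; exact Int.mul_emod_left _ _⟩,
      mul_nonneg (Int.natCast_nonneg _) (by norm_num)⟩, Int.mul_emod_left _ _⟩,
    Bool.not_true, Bool.false_or] at hd4
  simp only [sol, Bool.and_eq_true, decide_eq_true_eq] at hd4
  obtain ⟨⟨hN32, hr1⟩, hx32⟩ := hd4
  have h77 : ∀ q ∈ (d.F.P : Subgroup G), q ≠ 1 → (ClassCount.facs d.u b q).card = 77 := by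
    intro q hq' hq1'
    have hfin := hq q hq' hq1'
    rw [hx32, hN32] at hfin
    push_cast at hfin
    omega
  refine ⟨I 1, by rw [hval 1, hr1]; norm_num, hN32, ?_⟩
  intro _ _ q hq' hq1'
  convert h77 q hq' hq1' using 3

end Cfsg.Agent.Lib.RecogM23.Four
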