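import Cfsg.Agent.Lib.SmallGroups.Sylow
import Mathlib.GroupTheory.Transfer

/-!
Sylow subgroups inside subgroups, and two transfer arguments.
-/

set_option autoImplicit false
set_option linter.style.haveILetI false

namespace Cfsg.Agent.Lib.RecogM23.Tools3

open Subgroup

universe u

variable {G : Type u} [Group G] [Finite G]

/-- Sylow's congruence inside a subgroup, counted in the whole group. -/
theorem mod_one {p : ℕ} [Fact p.Prime] (P : Sylow p G) {H : Subgroup G}
    (hPH : (P : Subgroup G) ≤ H) :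
    ∃ k, Nat.card H = Nat.card ↥(H ⊓ normalizer ((P : Subgroup G) : Set G)) * k ∧ k % p = 1 := by
  refine ⟨Nat.card (Sylow p H), ?_, SmallGroups.Sylow.card_sylow_mod⟩
  have hk : Nat.card (Sylow p H) =
      (normalizer (((P : Subgroup G).subgroupOf H : Subgroup H) : Set H)).index :=
    Sylow.card_eq_index_normalizer (P.subtype hPH)
  rw [← subgroupOf_normalizer_eq hPH] at hk
  rw [hk, ← card_mul_index ((normalizer ((P : Subgroup G) : Set G)).subgroupOf H)]
  congr 1
  rw [← inf_subgroupOf_left, Nat.card_congr (subgroupOfEquivOfLe inf_le_left).toEquiv]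

/-- A Sylow subgroup of prime order inside a subgroup. -/
theorem exists_sylow_le {p m : ℕ} [Fact p.Prime] (hG : Nat.card G = p ^ 1 * m) (hm : ¬ p ∣ m)
    {H : Subgroup G} (hp : p ∣ Nat.card H) :
    ∃ P : Sylow p G, (P : Subgroup G) ≤ H ∧ Nat.card (P : Subgroup G) = p := by
  obtain ⟨⟨z, hzH⟩, hz⟩ := exists_prime_orderOf_dvd_card' (G := H) p hp
  rw [Subgroup.orderOf_mk] at hz
  obtain ⟨S, hS⟩ := (IsPGroup.of_card (n := 1)
    (show Nat.card (zpowers z) = p ^ 1 by rw [Nat.card_zpowers, hz, pow_one])).exists_le_sylow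
  have hSp : Nat.card (S : Subgroup G) = p := by
    rw [SmallGroups.Sylow.card_sylow_eq S (a := 1) (m := m) hG hm, pow_one]
  refine ⟨S, ?_, hSp⟩
  rw [← Subgroup.eq_of_le_of_card_ge hS (by rw [hSp, Nat.card_zpowers, hz])]
  exact zpowers_le.mpr hzH

/-- A group generated by elements of order prime to `p` has no normal `p`-complement. -/
theorem not_dvd_card {K : Type u} [Group K] [Finite K] {p : ℕ} [hp : Fact p.Prime]
    (S : Sylow p K) (hN : normalizer ((S : Subgroup K) : Set K) ≤
      centralizer ((S : Subgroup K) : Set K))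
    {s : Set K} (hs : closure s = ⊤) (hord : ∀ y ∈ s, ¬ p ∣ orderOf y) :
    ¬ p ∣ Nat.card K := by
  intro hd
  set φ := MonoidHom.transferSylow S hN
  have hk : φ.ker = ⊤ := by
    rw [eq_top_iff, ← hs, closure_le]
    intro y hy
    rw [SetLike.mem_coe, MonoidHom.mem_ker, ← orderOf_eq_one_iff]
    obtain ⟨n, hn⟩ := IsPGroup.iff_card.mp S.2
    refine Nat.eq_one_of_dvd_coprimes ?_ (orderOf_map_dvd φ y) (hn ▸ orderOf_dvd_natCard (φ y))
    exact ((hp.out.coprime_iff_not_dvd.mpr (hord y hy)).symm).pow_right n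
  have hc := MonoidHom.ker_transferSylow_isComplement' S hN
  rw [show (MonoidHom.transferSylow S hN).ker = ⊤ from hk, isComplement'_top_left] at hc
  have := S.dvd_card_of_dvd_card hd
  rw [hc, Subgroup.card_bot] at this
  exact hp.out.not_dvd_one this

/-- No group of order `660` is generated by an involution and an element of order four with product
of order eleven. -/
theorem false_of_660 {K : Type u} [Group K] [Finite K] (hK : Nat.card K = 660) {a x : K}
    (ha : orderOf a = 2) (hx : orderOf x = 4) (hq : orderOf (a * x) = 11) : False := by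
  haveI : Fact (Nat.Prime 2) := ⟨Nat.prime_two⟩
  obtain ⟨S, hS⟩ := (IsPGroup.of_card (n := 2)
    (show Nat.card (zpowers x) = 2 ^ 2 by rw [Nat.card_zpowers, hx]; rfl)).exists_le_sylow
  have hSc : Nat.card (S : Subgroup K) = 4 := by
    rw [SmallGroups.Sylow.card_sylow_eq S (a := 2) (m := 165) (by rw [hK]; norm_num) (by norm_num)]
    norm_num
  have hSx : zpowers x = (S : Subgroup K) :=
    Subgroup.eq_of_le_of_card_ge hS (by rw [hSc, Nat.card_zpowers, hx])
  haveI : IsCyclic (S : Subgroup K) := hSx ▸ inferInstance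
  set φ := MonoidHom.transferSylow S (IsCyclic.normalizer_le_centralizer (P := S)
    (by rw [hK]; norm_num) inferInstance)
  have h4 : ∀ y : (S : Subgroup K), orderOf y ∣ 4 := fun y => hSc ▸ orderOf_dvd_natCard y
  have hq1 : φ (a * x) = 1 := orderOf_eq_one_iff.mp
    (Nat.eq_one_of_dvd_coprimes (by norm_num : Nat.Coprime 11 4) (hq ▸ orderOf_map_dvd φ _) (h4 _))
  have ha2 : φ a ^ 2 = 1 :=
    orderOf_dvd_iff_pow_eq_one.mp ((orderOf_map_dvd φ a).trans (dvd_of_eq ha))
  have hx2 : φ (x ^ 2) = 1 := by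
    rw [map_mul] at hq1
    rw [map_pow, eq_inv_of_mul_eq_one_right hq1, inv_pow, ha2, inv_one]
  have hc := MonoidHom.ker_transferSylow_isComplement' S (IsCyclic.normalizer_le_centralizer
    (P := S) (by rw [hK]; norm_num) inferInstance)
  have hmem : x ^ 2 ∈ φ.ker ⊓ (S : Subgroup K) :=
    ⟨MonoidHom.mem_ker.mpr hx2, pow_mem (hS (mem_zpowers x)) 2⟩
  rw [hc.disjoint.eq_bot, mem_bot] at hmem
  have := orderOf_dvd_of_pow_eq_one hmem
  rw [hx] at this
  norm_num at this

end Cfsg.Agent.Lib.RecogM23.Tools3
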