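import Cfsg.Agent.Lib.RecogM23.Sub
import Cfsg.Agent.Lib.RecogM23.Classes
import Cfsg.Agent.Lib.RecogM23.Tools3
import Cfsg.Agent.Lib.RecogM23.ElevenCount
import Cfsg.Agent.Lib.RecogThree.M11.Order7920

/-!
Simple groups of order `10200960`: a subgroup of index `23`.
-/

set_option autoImplicit false
set_option linter.style.haveILetI false
set_option linter.unusedSectionVars false

namespace Cfsg.Agent.Lib.RecogM23.Index

open Cfsg.Agent.Lib.Characters Cfsg.Agent.Lib.Characters.Basic
open Cfsg.Agent.Lib.RecogM23.Table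
open Subgroup (normalizer centralizer closure zpowers)

universe u

theorem candidates : ∀ k ∈ Nat.divisors 8064, k % 11 = 1 → 4 ∣ k →
    k = 12 ∨ k = 56 ∨ k = 144 ∨ k = 672 ∨ k = 8064 := by
  decide +kernel

theorem seven_divisors : ∀ m ∈ Nat.divisors 672, 21 ∣ m → (36960 / m) % 7 ≠ 1 := by
  decide +kernel

variable {G : Type u} [Group G] [Finite G] [IsSimpleGroup G] [Fact (Nat.Prime 7)]
  [Fact (Nat.Prime 11)] [Fact (Nat.Prime 23)] (h : Nat.card G = 10200960) (d : Data G)

/-- The conjugates of the fixed Sylow subgroup of order seven: the data transported. -/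
theorem seven_data {R : Sylow 7 G} :
    Nat.card (normalizer ((R : Subgroup G) : Set G)) = 7 * 2 ^ d.S.a * 3 ∧
    ∀ y ∈ normalizer ((R : Subgroup G) : Set G), ¬ 3 ∣ orderOf y →
      ∀ r ∈ (R : Subgroup G), r * y = y * r := by
  obtain ⟨g, hg⟩ := MulAction.exists_smul_eq G d.S.R R
  set N := normalizer ((d.S.R : Subgroup G) : Set G) with hN
  set C := centralizer ((d.S.R : Subgroup G) : Set G) with hC
  have hNc : Nat.card N = 7 * 2 ^ d.S.a * 3 := by
    rw [← SmallGroups.Sylow.card_centralizer_mul_relIndex, d.S.hC, d.S.hrel]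
  have hRmap : (R : Subgroup G) = (d.S.R : Subgroup G).map (MulAut.conj g).toMonoidHom := by
    rw [← hg]; rfl
  refine ⟨?_, ?_⟩
  · have e : normalizer ((R : Subgroup G) : Set G) = N.map (MulAut.conj g).toMonoidHom := by
      rw [hRmap, hN, Subgroup.map_equiv_normalizer_eq]
    rw [e, Subgroup.card_map_of_injective (MulAut.conj g).injective, hNc]
  · intro y hy h3 r hr
    rw [hRmap] at hy hr
    rw [← Subgroup.map_equiv_normalizer_eq] at hy
    obtain ⟨y', hy', rfl⟩ := hy
    obtain ⟨r', hr', rfl⟩ := hr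
    have hy'o : ¬ 3 ∣ orderOf y' := by
      rw [← MulEquiv.orderOf_eq (MulAut.conj g) y']; exact h3
    have hyC : y' ∈ C := by
      haveI : (C.subgroupOf N).Normal := inferInstance
      have hpow : (⟨y', hy'⟩ : N) ^ 3 ∈ C.subgroupOf N := by
        have := Subgroup.pow_index_mem (C.subgroupOf N) (⟨y', hy'⟩ : N)
        rwa [show (C.subgroupOf N).index = 3 from d.S.hrel] at this
      obtain ⟨m, hm⟩ := exists_pow_eq_self_of_coprime (x := y') (n := 3)
        ((Nat.prime_three.coprime_iff_not_dvd).mpr hy'o)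
      rw [← hm]
      exact pow_mem (Subgroup.mem_subgroupOf.mp hpow) m
    rw [← map_mul, ← map_mul, Subgroup.mem_centralizer_iff.mp hyC r' hr']

include h

/-- The subgroup generated by a factorisation has order `443520` or is simple of order `7920`. -/
theorem cases {b : G} (hb : orderOf b = 4) (hbu : b * b = d.u) {I : ℤ}
    (hI : d.val 1 b = 2 + (I : ℂ) * Complex.I) {q : G} (hq : q ∈ (d.F.P : Subgroup G))
    (hq1 : q ≠ 1) {a : G} (ha : IsConj d.u a) (hx : IsConj b (a⁻¹ * q)) :
    Nat.card (closure ({a, q} : Set G)) = 443520 ∨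
      Nat.card (closure ({a, q} : Set G)) = 7920 ∧
        normalizer ((d.F.P : Subgroup G) : Set G) ≤ closure ({a, q} : Set G) ∧
        IsSimpleGroup (closure ({a, q} : Set G)) := by
  classical
  obtain ⟨hne, h23⟩ := Sub.proper h d hb hbu hI hq hq1 ha hx
  set H := closure ({a, q} : Set G) with hH
  have haH : a ∈ H := Subgroup.subset_closure (by simp)
  have hqH : q ∈ H := Subgroup.subset_closure (by simp)
  have hao : orderOf a = 2 := by
    obtain ⟨c, hc⟩ := isConj_iff.mp ha
    rw [← hc, show c * d.u * c⁻¹ = MulAut.conj c d.u from rfl, MulEquiv.orderOf_eq, d.hu]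
  have hxo : orderOf (a⁻¹ * q) = 4 := by
    obtain ⟨c, hc⟩ := isConj_iff.mp hx
    rw [← hc, show c * b * c⁻¹ = MulAut.conj c b from rfl, MulEquiv.orderOf_eq, hb]
  have hxH : a⁻¹ * q ∈ H := mul_mem (inv_mem haH) hqH
  have hqo : orderOf q = 11 := by
    refine orderOf_eq_prime ?_ hq1
    have := orderOf_dvd_natCard (⟨q, hq⟩ : (d.F.P : Subgroup G))
    rw [Subgroup.orderOf_mk, d.F.hP] at this
    exact orderOf_dvd_iff_pow_eq_one.mp this
  have hPq : zpowers q = (d.F.P : Subgroup G) :=
    Subgroup.eq_of_le_of_card_ge (Subgroup.zpowers_le.mpr hq)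
      (by rw [d.F.hP, Nat.card_zpowers, hqo])
  have hPH : (d.F.P : Subgroup G) ≤ H := hPq ▸ Subgroup.zpowers_le.mpr hqH
  have h4H : 4 ∣ Nat.card H := hxo ▸ Subgroup.orderOf_dvd_natCard H hxH
  have hHd : Nat.card H ∣ 443520 := by
    have hd := H.card_subgroup_dvd_card
    rw [h, show (10200960 : ℕ) = 23 * 443520 by norm_num] at hd
    exact ((Nat.Prime.coprime_iff_not_dvd (by norm_num)).mpr h23).symm.dvd_of_dvd_mul_left hd
  -- the generators, inside the subgroup
  have hgen : closure ({⟨a, haH⟩, ⟨a⁻¹ * q, hxH⟩} : Set H) = ⊤ := by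
    apply Subgroup.map_injective H.subtype_injective
    rw [MonoidHom.map_closure, ← MonoidHom.range_eq_map, Subgroup.range_subtype, Set.image_pair]
    refine le_antisymm ((Subgroup.closure_le _).mpr ?_) ((Subgroup.closure_le _).mpr ?_)
    · rintro y (rfl | rfl)
      · exact haH
      · exact hxH
    · rintro y (rfl | rfl)
      · exact Subgroup.subset_closure (by simp)
      · have : a * (a⁻¹ * y) ∈ closure ({a, a⁻¹ * y} : Set G) :=
          mul_mem (Subgroup.subset_closure (by simp)) (Subgroup.subset_closure (by simp))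
        rwa [mul_inv_cancel_left] at this
  have hord : ∀ p : ℕ, p.Prime → p ≠ 2 →
      ∀ y ∈ ({⟨a, haH⟩, ⟨a⁻¹ * q, hxH⟩} : Set H), ¬ p ∣ orderOf y := by
    intro p hp hp2 y hy hd
    have h4 : orderOf y ∣ 4 := by
      rcases hy with rfl | rfl <;> rw [Subgroup.orderOf_mk]
      · rw [hao]; norm_num
      · rw [hxo]
    have := (Nat.prime_dvd_prime_iff_eq hp Nat.prime_two).mp
      (hp.dvd_of_dvd_pow (n := 2) (hd.trans h4))
    exact hp2 this
  -- the normaliser of the Sylow subgroup of order eleven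
  obtain ⟨k, hk, hk1⟩ := Tools3.mod_one d.F.P hPH
  set N := normalizer ((d.F.P : Subgroup G) : Set G) with hN
  have hN55 : Nat.card N = 55 := by
    rw [hN, (Eleven.data h d.F.P).2.2.2]
  have hm : Nat.card ↥(H ⊓ N) = 55 := by
    have hd : Nat.card ↥(H ⊓ N) ∣ 55 := hN55 ▸ Subgroup.card_dvd_of_le inf_le_right
    have h11 : 11 ∣ Nat.card ↥(H ⊓ N) :=
      d.F.hP ▸ Subgroup.card_dvd_of_le (le_inf hPH (hN ▸ Subgroup.le_normalizer))
    have key : ∀ m ∈ Nat.divisors 55, 11 ∣ m → m = 11 ∨ m = 55 := by decide +kernel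
    refine (key _ (Nat.mem_divisors.mpr ⟨hd, by norm_num⟩) h11).resolve_left fun e => ?_
    have heq : (d.F.P : Subgroup G) = H ⊓ N :=
      Subgroup.eq_of_le_of_card_ge (le_inf hPH (hN ▸ Subgroup.le_normalizer)) (by rw [e, d.F.hP])
    refine Tools3.not_dvd_card (d.F.P.subtype hPH) ?_ hgen (hord 11 (by norm_num) (by norm_num))
      ((d.F.hP ▸ Subgroup.card_dvd_of_le hPH))
    rw [Sylow.coe_subtype, ← Subgroup.subgroupOf_normalizer_eq hPH, ← hN]
    intro y hy
    have hyP : (y : G) ∈ (d.F.P : Subgroup G) := heq ▸ ⟨y.2, hy⟩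
    rw [Subgroup.mem_centralizer_iff]
    intro z hz
    haveI := isCyclic_of_prime_card d.F.hP
    haveI : IsMulCommutative (d.F.P : Subgroup G) := IsCyclic.isMulCommutative
    have h' : (z : G) * y = y * z := congrArg Subtype.val
      (mul_comm' (⟨(z : G), hz⟩ : (d.F.P : Subgroup G)) ⟨(y : G), hyP⟩)
    exact Subtype.ext h'
  rw [hm] at hk
  have hk8064 : k ∣ 8064 := by
    refine Nat.dvd_of_mul_dvd_mul_left (by norm_num : 0 < 55) ?_
    rw [← hk]; exact hHd
  have h4k : 4 ∣ k := by
    rw [hk] at h4H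
    exact (Nat.Coprime.dvd_mul_left (by norm_num)).mp h4H
  have hseven : k = 56 ∨ k = 672 → False := by
    intro hk'
    have h7 : 7 ∣ Nat.card H := by rcases hk' with e | e <;> rw [hk, e] <;> norm_num
    obtain ⟨R, hRH, hR⟩ := Tools3.exists_sylow_le (p := 7) (m := 1457280)
      (by rw [h]; norm_num) (by norm_num) h7
    obtain ⟨hNR, hcomm⟩ := seven_data d (R := R)
    refine Tools3.not_dvd_card (R.subtype hRH) ?_ hgen (hord 7 (by norm_num) (by norm_num)) h7
    rw [Sylow.coe_subtype, ← Subgroup.subgroupOf_normalizer_eq hRH]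
    intro y hy
    rw [Subgroup.mem_centralizer_iff]
    intro z hz
    refine Subtype.ext (hcomm y hy ?_ z hz)
    intro h3
    have hm3 : 3 ∣ Nat.card ↥(H ⊓ normalizer ((R : Subgroup G) : Set G)) :=
      h3.trans (Subgroup.orderOf_dvd_natCard _ ⟨y.2, hy⟩)
    obtain ⟨j, hj, hj1⟩ := Tools3.mod_one R hRH
    set m := Nat.card ↥(H ⊓ normalizer ((R : Subgroup G) : Set G))
    have hmH : m ∣ Nat.card H := Subgroup.card_dvd_of_le inf_le_left
    rcases hk' with e | e
    · rw [hk, e] at hmH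
      have := hm3.trans hmH
      norm_num at this
    · have hmN : m ∣ 7 * 2 ^ d.S.a * 3 := hNR ▸ Subgroup.card_dvd_of_le inf_le_right
      have hm7 : 7 ∣ m := hR ▸ Subgroup.card_dvd_of_le (le_inf hRH Subgroup.le_normalizer)
      rw [hk, e] at hmH hj
      have hcop : ∀ p : ℕ, p.Prime → p = 5 ∨ p = 11 → ¬ p ∣ m := by
        intro p hp hp' hd'
        have h' := hd'.trans hmN
        rcases hp.dvd_mul.mp h' with h'' | h''
        · rcases hp.dvd_mul.mp h'' with h3' | h3'
          · have := Nat.le_of_dvd (by norm_num) h3'; have := (Nat.dvd_prime (by norm_num)).mp h3'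
            omega
          · have := (Nat.prime_dvd_prime_iff_eq hp Nat.prime_two).mp (hp.dvd_of_dvd_pow h3')
            omega
        · have := (Nat.prime_dvd_prime_iff_eq hp Nat.prime_three).mp h''
          omega
      have hm672 : m ∣ 672 := by
        have h1 : Nat.Coprime m 55 := by
          rw [show (55 : ℕ) = 5 * 11 by norm_num]
          exact Nat.Coprime.mul_right
            ((Nat.Prime.coprime_iff_not_dvd (by norm_num)).mpr
              (hcop 5 (by norm_num) (Or.inl rfl))).symm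
            ((Nat.Prime.coprime_iff_not_dvd (by norm_num)).mpr
              (hcop 11 (by norm_num) (Or.inr rfl))).symm
        exact h1.dvd_of_dvd_mul_left hmH
      have h21 : 21 ∣ m := Nat.Coprime.mul_dvd_of_dvd_of_dvd (by norm_num : Nat.Coprime 7 3) hm7 hm3
      refine seven_divisors m (Nat.mem_divisors.mpr ⟨hm672, by norm_num⟩) h21 ?_
      rw [show (36960 : ℕ) = m * j by rw [← hj], Nat.mul_div_cancel_left _ Nat.card_pos]
      exact hj1
  rcases candidates k (Nat.mem_divisors.mpr ⟨hk8064, by norm_num⟩) hk1 h4k with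
    e | e | e | e | e
  · exfalso
    refine Tools3.false_of_660 (K := H) (by rw [hk, e]) (a := ⟨a, haH⟩) (x := ⟨a⁻¹ * q, hxH⟩)
      (by rw [Subgroup.orderOf_mk, hao]) (by rw [Subgroup.orderOf_mk, hxo]) ?_
    rw [← Subgroup.orderOf_coe, Subgroup.coe_mul, mul_inv_cancel_left, hqo]
  · exact (hseven (Or.inl e)).elim
  · right
    have hc : Nat.card H = 7920 := by rw [hk, e]
    refine ⟨hc, ?_, ?_⟩
    · have := Subgroup.eq_of_le_of_card_ge (inf_le_right : H ⊓ N ≤ N) (by rw [hN55, hm])
      exact this ▸ inf_le_left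
    · refine RecogThree.M11.Order7920.isSimpleGroup_of_144 hc ?_
      have hkk : Nat.card (Sylow 11 H) =
          (normalizer (((d.F.P : Subgroup G).subgroupOf H : Subgroup H) : Set H)).index :=
        Sylow.card_eq_index_normalizer (d.F.P.subtype hPH)
      rw [← Subgroup.subgroupOf_normalizer_eq hPH, ← hN] at hkk
      have hmul := Subgroup.card_mul_index (N.subgroupOf H)
      rw [← Subgroup.inf_subgroupOf_left,
        Nat.card_congr (Subgroup.subgroupOfEquivOfLe inf_le_left).toEquiv,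
        Subgroup.inf_subgroupOf_left, hm, ← hkk, hc] at hmul
      omega
  · exact (hseven (Or.inr e)).elim
  · exact Or.inl (by rw [hk, e])

omit h in
theorem five_candidates : ∀ V ∈ Nat.divisors 9, ∀ e ∈ Nat.divisors 4,
    (10200960 / (5 * V * e)) % 5 = 1 → 5 * V * e = 10 ∨ 5 * V * e = 60 := by
  decide +kernel

omit h in
theorem ten_twenty : ∀ m ∈ Nat.divisors 60, 5 ∣ m → (7920 / m) % 5 = 1 → m = 20 := by
  decide +kernel

omit h in
theorem join_candidates : ∀ k ∈ Nat.divisors 144, k % 11 = 1 → 4 ∣ k → k = 12 ∨ k = 144 := by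
  decide +kernel

include d in
/-- The normaliser of a Sylow subgroup of order five. -/
theorem normalizer_five [Fact (Nat.Prime 5)] (F : Sylow 5 G) :
    Nat.card (normalizer ((F : Subgroup G) : Set G)) = 10 ∨
      Nat.card (normalizer ((F : Subgroup G) : Set G)) = 60 := by
  have hF : Nat.card (F : Subgroup G) = 5 := by
    rw [SmallGroups.Sylow.card_sylow_eq F (a := 1) (m := 2040192) (by rw [h]; norm_num)
      (by norm_num), pow_one]
  obtain ⟨e, c, he, -, h5c, hC, hce⟩ :=
    SmallGroups.Sylow.exists_normalizer_factor (Base.not_comm h) F hF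
  obtain ⟨⟨f, hfF⟩, hfo⟩ := exists_prime_orderOf_dvd_card' (G := (F : Subgroup G)) 5 (by rw [hF])
  rw [Subgroup.orderOf_mk] at hfo
  have hf1 : f ≠ 1 := fun e' => by rw [e', orderOf_one] at hfo; omega
  have hle : centralizer ((F : Subgroup G) : Set G) ≤ centralizer ({f} : Set G) :=
    Subgroup.centralizer_le (Set.singleton_subset_iff.mpr hfF)
  have hcf : c ∣ Nat.card (centralizer ({f} : Set G)) := hC ▸ Subgroup.card_dvd_of_le hle
  have h11 : ¬ 11 ∣ c := fun hd => Local.not_dvd_centralizer h (p := 11) (Or.inl rfl)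
    (by omega) hf1 (hd.trans hcf)
  have h23 : ¬ 23 ∣ c := fun hd => Local.not_dvd_centralizer h (p := 23) (Or.inr rfl)
    (by omega) hf1 (hd.trans hcf)
  have h7 : ¬ 7 ∣ c := by
    intro hd
    obtain ⟨R, hRC, -⟩ := Tools3.exists_sylow_le (p := 7) (m := 1457280) (by rw [h]; norm_num)
      (by norm_num) (hC.symm ▸ hd : 7 ∣ Nat.card (centralizer ((F : Subgroup G) : Set G)))
    obtain ⟨hNR, -⟩ := seven_data d (R := R)
    have hFN : (F : Subgroup G) ≤ normalizer ((R : Subgroup G) : Set G) := by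
      intro y hy
      rw [Subgroup.mem_normalizer_iff]
      intro r
      constructor
      · intro hr
        have h1 := Subgroup.mem_centralizer_iff.mp (hRC hr) y hy
        rwa [h1, mul_inv_cancel_right]
      · intro hr
        have h1 := Subgroup.mem_centralizer_iff.mp (hRC hr) y hy
        have h2 : r = y * r * y⁻¹ := by
          calc r = y⁻¹ * ((y * r * y⁻¹) * y) := by group
            _ = y⁻¹ * (y * (y * r * y⁻¹)) := by rw [h1]
            _ = y * r * y⁻¹ := by group
        rwa [h2]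
    have := hNR ▸ (hF ▸ Subgroup.card_dvd_of_le hFN)
    have h5 : Nat.Prime 5 := by norm_num
    rcases h5.dvd_mul.mp this with h' | h'
    · rcases h5.dvd_mul.mp h' with h'' | h''
      · norm_num at h''
      · have := Nat.le_of_dvd (by norm_num) (h5.dvd_of_dvd_pow h''); omega
    · norm_num at h'
  have h2 : ¬ 2 ∣ c := by
    intro hd
    haveI : Fact (Nat.Prime 2) := ⟨Nat.prime_two⟩
    obtain ⟨⟨v, hv⟩, hvo⟩ := exists_prime_orderOf_dvd_card'
      (G := centralizer ((F : Subgroup G) : Set G)) 2 (hC.symm ▸ hd)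
    rw [Subgroup.orderOf_mk] at hvo
    obtain ⟨g, hg⟩ := isConj_iff.mp (Classes.isConj_u h d hvo)
    have hmem : g⁻¹ * f * g ∈ centralizer ({d.u} : Set G) := by
      rw [Subgroup.mem_centralizer_singleton_iff]
      have h1 : f * v = v * f := Subgroup.mem_centralizer_iff.mp hv f hfF
      rw [← hg] at h1
      calc g⁻¹ * f * g * d.u = g⁻¹ * (f * (g * d.u * g⁻¹)) * g := by group
        _ = d.u * (g⁻¹ * f * g) := by rw [h1]; group
    have := Subgroup.orderOf_dvd_natCard _ hmem
    rw [d.hc, show g⁻¹ * f * g = MulAut.conj g⁻¹ f by simp, MulEquiv.orderOf_eq, hfo] at this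
    norm_num at this
  obtain ⟨V, rfl⟩ := h5c
  have hd : 5 * V ∣ 10200960 := by
    rw [← hC, ← h]; exact Subgroup.card_subgroup_dvd_card _
  have hV : V ∣ 9 := by
    have h1 : V ∣ (2 ^ 7 * (7 * (11 * 23))) * 9 :=
      Nat.dvd_of_mul_dvd_mul_left (by norm_num : 0 < 5) (hd.trans (dvd_of_eq (by norm_num)))
    refine (Nat.Coprime.dvd_of_dvd_mul_left ?_ h1)
    have hn : ∀ p : ℕ, p.Prime → ¬ p ∣ 5 * V → Nat.Coprime V p := fun p hp hn =>
      (hp.coprime_iff_not_dvd.mpr fun hd' => hn (hd'.mul_left 5)).symm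
    exact ((hn 2 Nat.prime_two h2).pow_right 7).mul_right
      ((hn 7 (by norm_num) h7).mul_right ((hn 11 (by norm_num) h11).mul_right
        (hn 23 (by norm_num) h23)))
  have hmod : (10200960 / (5 * V * e)) % 5 = 1 := by
    have hN := SmallGroups.Sylow.card_normalizer_mul F
    rw [← hce, h] at hN
    rw [← hN, Nat.mul_div_cancel_left _ (by rw [hce]; exact Nat.card_pos)]
    exact SmallGroups.Sylow.card_sylow_mod
  rw [← hce]
  exact five_candidates V (Nat.mem_divisors.mpr ⟨hV, by norm_num⟩) e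
    (Nat.mem_divisors.mpr ⟨he, by norm_num⟩) hmod

/-- The trace on the normaliser of a subgroup of order five, which determines the subgroup. -/
theorem trace_five [Fact (Nat.Prime 5)] (F : Sylow 5 G)
    (hFN : (F : Subgroup G) ≤ normalizer ((d.F.P : Subgroup G) : Set G)) {H : Subgroup G}
    (hc : Nat.card H = 7920) (hNH : normalizer ((d.F.P : Subgroup G) : Set G) ≤ H) :
    Nat.card ↥(H ⊓ normalizer ((F : Subgroup G) : Set G)) = 20 ∧
      Nat.card (normalizer ((F : Subgroup G) : Set G)) = 60 ∧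
      H = normalizer ((d.F.P : Subgroup G) : Set G) ⊔
        (H ⊓ normalizer ((F : Subgroup G) : Set G)) := by
  set NQ := normalizer ((d.F.P : Subgroup G) : Set G) with hNQ
  set NF := normalizer ((F : Subgroup G) : Set G) with hNF
  have hF : Nat.card (F : Subgroup G) = 5 := by
    rw [SmallGroups.Sylow.card_sylow_eq F (a := 1) (m := 2040192) (by rw [h]; norm_num)
      (by norm_num), pow_one]
  have hFH : (F : Subgroup G) ≤ H := hFN.trans hNH
  obtain ⟨j, hj, hj1⟩ := Tools3.mod_one F hFH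
  set m := Nat.card ↥(H ⊓ NF)
  have h5m : 5 ∣ m := hF ▸ Subgroup.card_dvd_of_le (le_inf hFH (hNF ▸ Subgroup.le_normalizer))
  have hmN : m ∣ Nat.card NF := Subgroup.card_dvd_of_le inf_le_right
  have hm60 : m ∣ 60 := by
    rcases normalizer_five h d F with e | e <;> rw [← hNF] at e <;> rw [e] at hmN
    · exact hmN.trans (by norm_num)
    · exact hmN
  have hm : m = 20 := ten_twenty m (Nat.mem_divisors.mpr ⟨hm60, by norm_num⟩) h5m (by
    rw [hc] at hj
    rw [hj, Nat.mul_div_cancel_left _ Nat.card_pos]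
    exact hj1)
  have hN60 : Nat.card NF = 60 := (normalizer_five h d F).resolve_left fun e => by
    rw [← hNF] at e
    rw [e, hm] at hmN
    norm_num at hmN
  refine ⟨hm, hN60, ?_⟩
  set K := NQ ⊔ (H ⊓ NF) with hK
  have hKH : K ≤ H := sup_le hNH inf_le_left
  have hPK : (d.F.P : Subgroup G) ≤ K :=
    le_sup_of_le_left (hNQ ▸ Subgroup.le_normalizer)
  obtain ⟨k, hk, hk1⟩ := Tools3.mod_one d.F.P hPK
  rw [← hNQ, inf_of_le_right (le_sup_left : NQ ≤ K),
    show Nat.card NQ = 55 from (Eleven.data h d.F.P).2.2.2] at hk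
  have h20 : 20 ∣ Nat.card K := hm ▸ Subgroup.card_dvd_of_le le_sup_right
  have hk144 : k ∣ 144 := by
    refine Nat.dvd_of_mul_dvd_mul_left (by norm_num : 0 < 55) ?_
    rw [← hk]; exact (Subgroup.card_dvd_of_le hKH).trans (dvd_of_eq hc)
  have h4k : 4 ∣ k := (Nat.Coprime.dvd_mul_left (by norm_num : Nat.Coprime 4 55)).mp
    (hk ▸ (by norm_num : 4 ∣ 20).trans h20)
  rcases join_candidates k (Nat.mem_divisors.mpr ⟨hk144, by norm_num⟩) hk1 h4k with e | e
  · exfalso
    have hFK : (F : Subgroup G) ≤ K := le_sup_of_le_left hFN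
    obtain ⟨i, hi, hi1⟩ := Tools3.mod_one F hFK
    have h20' : K ⊓ NF = H ⊓ NF :=
      le_antisymm (inf_le_inf_right _ hKH) (le_inf le_sup_right inf_le_right)
    rw [← hNF, h20', hk, e] at hi
    change 55 * 12 = m * i at hi
    rw [hm] at hi
    omega
  · exact (Subgroup.eq_of_le_of_card_ge hKH (by rw [hc, hk, e])).symm

/-- At most three such subgroups. -/
theorem card_traces [Fact (Nat.Prime 5)] (F : Sylow 5 G)
    (hN : Nat.card (normalizer ((F : Subgroup G) : Set G)) = 60) :
    Nat.card {T : Subgroup G // T ≤ normalizer ((F : Subgroup G) : Set G) ∧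
      Nat.card T = 20} ≤ 3 := by
  classical
  haveI : Fact (Nat.Prime 2) := ⟨Nat.prime_two⟩
  set N := normalizer ((F : Subgroup G) : Set G) with hNF
  rcases isEmpty_or_nonempty {T : Subgroup G // T ≤ N ∧ Nat.card T = 20} with he | ⟨⟨T₁, h₁, h₁c⟩⟩
  · simp
  have hF : Nat.card (F : Subgroup G) = 5 := by
    rw [SmallGroups.Sylow.card_sylow_eq F (a := 1) (m := 2040192) (by rw [h]; norm_num)
      (by norm_num), pow_one]
  have hFT : ∀ T : Subgroup G, T ≤ N → Nat.card T = 20 → (F : Subgroup G) ≤ T := by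
    intro T hT hTc
    obtain ⟨F', hF'T, hF'⟩ := Tools3.exists_sylow_le (p := 5) (m := 2040192) (by rw [h]; norm_num)
      (by norm_num) (by rw [hTc]; norm_num : 5 ∣ Nat.card T)
    have hle : (F' : Subgroup G) ≤ F := by
      have e := IsPGroup.inf_normalizer_sylow F'.2 F
      rw [inf_of_le_left (a := (F' : Subgroup G)) (b := normalizer (F : Set G))
        (hF'T.trans hT)] at e
      exact e.le.trans inf_le_right
    rw [← Subgroup.eq_of_le_of_card_ge hle (by rw [hF, hF'])]
    exact hF'T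
  have hsplit : ∀ T : Subgroup G, T ≤ N → Nat.card T = 20 →
      ∃ S : Sylow 2 N, T = (F : Subgroup G) ⊔ (S : Subgroup N).map N.subtype := by
    intro T hT hTc
    obtain ⟨⟨A, hA⟩⟩ : Nonempty {A : Subgroup T // Nat.card A = 4} := by
      obtain ⟨A, hA⟩ := Sylow.exists_subgroup_card_pow_prime (G := T) 2 (n := 2)
        (by rw [hTc]; norm_num)
      exact ⟨⟨A, hA⟩⟩
    set B := A.map T.subtype
    have hB : Nat.card B = 4 := by
      rw [Subgroup.card_map_of_injective T.subtype_injective, hA]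
    have hBT : B ≤ T := Subgroup.map_subtype_le A
    obtain ⟨S, hS⟩ := (IsPGroup.of_card (n := 2)
      (show Nat.card (B.subgroupOf N) = 2 ^ 2 by
        rw [Nat.card_congr (Subgroup.subgroupOfEquivOfLe (hBT.trans hT)).toEquiv, hB]; rfl)
      ).exists_le_sylow
    refine ⟨S, ?_⟩
    have hSc : Nat.card (S : Subgroup N) = 4 := by
      rw [SmallGroups.Sylow.card_sylow_eq S (a := 2) (m := 15) (by rw [hN]; norm_num)
        (by norm_num)]
      norm_num
    have hBS : B.subgroupOf N = (S : Subgroup N) := Subgroup.eq_of_le_of_card_ge hS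
      (by rw [hSc, Nat.card_congr (Subgroup.subgroupOfEquivOfLe (hBT.trans hT)).toEquiv, hB])
    rw [← hBS, Subgroup.subgroupOf_map_subtype, inf_of_le_left (hBT.trans hT)]
    refine (Subgroup.eq_of_le_of_card_ge (sup_le (hFT T hT hTc) hBT) ?_).symm
    rw [hTc]
    refine Nat.le_of_dvd Nat.card_pos ?_
    rw [show (20 : ℕ) = 5 * 4 by norm_num]
    exact Nat.Coprime.mul_dvd_of_dvd_of_dvd (by norm_num)
      ((dvd_of_eq hF.symm).trans (Subgroup.card_dvd_of_le le_sup_left))
      ((dvd_of_eq hB.symm).trans (Subgroup.card_dvd_of_le le_sup_right))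
  have hconj : ∀ T : Subgroup G, T ≤ N → Nat.card T = 20 →
      ∃ g : N, T = T₁.map (MulAut.conj (g : G)).toMonoidHom := by
    intro T hT hTc
    obtain ⟨S₁, hS₁⟩ := hsplit T₁ h₁ h₁c
    obtain ⟨S, hS⟩ := hsplit T hT hTc
    obtain ⟨g, hg⟩ := MulAction.exists_smul_eq N S₁ S
    refine ⟨g, ?_⟩
    rw [hS, hS₁, Subgroup.map_sup, ← hg]
    congr 1
    · exact (Subgroup.mem_normalizer_iff_map_conj_eq.mp g.2).symm
    · rw [Sylow.coe_subgroup_smul, Subgroup.map_map]
      change Subgroup.map N.subtype (Subgroup.map (MulAut.conj g).toMonoidHom S₁) = _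
      rw [Subgroup.map_map]
      congr 1
  choose g hg using hconj
  set W := T₁.subgroupOf N
  have hW : W.index = 3 := by
    have := Subgroup.card_mul_index W
    rw [Nat.card_congr (Subgroup.subgroupOfEquivOfLe h₁).toEquiv, h₁c, hN] at this
    omega
  refine le_trans (Nat.card_le_card_of_injective
    (fun T => (QuotientGroup.mk (g T.1 T.2.1 T.2.2) : N ⧸ W)) ?_) (le_of_eq hW)
  intro T T' he
  have hmem : (g T.1 T.2.1 T.2.2)⁻¹ * g T'.1 T'.2.1 T'.2.2 ∈ W := QuotientGroup.eq.mp he
  rw [Subgroup.mem_subgroupOf] at hmem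
  apply Subtype.ext
  rw [hg T.1 T.2.1 T.2.2, hg T'.1 T'.2.1 T'.2.2]
  set w := (g T.1 T.2.1 T.2.2)⁻¹ * g T'.1 T'.2.1 T'.2.2
  have e : g T'.1 T'.2.1 T'.2.2 = g T.1 T.2.1 T.2.2 * w := by simp [w]
  have hw : T₁.map (MulAut.conj (w : G)).toMonoidHom = T₁ :=
    Subgroup.mem_normalizer_iff_map_conj_eq.mp (Subgroup.le_normalizer hmem)
  conv_lhs => rw [← hw, Subgroup.map_map]
  rw [e]
  congr 1
  ext y
  simp [mul_assoc]

/-- There is a subgroup of index `23`. -/
theorem exists_subgroup (d : Data G) : ∃ H : Subgroup G, Nat.card H = 443520 := by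
  classical
  by_contra hno
  push Not at hno
  haveI := Fintype.ofFinite G
  haveI : Fact (Nat.Prime 5) := ⟨by norm_num⟩
  obtain ⟨b, hb, hbu⟩ := Elem.exists_four h d
  obtain ⟨I, hI, -, h77⟩ := Four.exists_data h d hb hbu
  obtain ⟨q, hq, hq1⟩ : ∃ q ∈ (d.F.P : Subgroup G), q ≠ 1 := by
    haveI : Nontrivial (d.F.P : Subgroup G) :=
      Finite.one_lt_card_iff_nontrivial.mp (by rw [d.F.hP]; norm_num)
    obtain ⟨⟨q, hq'⟩, hq1⟩ := exists_ne (1 : (d.F.P : Subgroup G))
    exact ⟨q, hq', fun e => hq1 (Subtype.ext e)⟩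
  have hcard := h77 q hq hq1
  set NQ := normalizer ((d.F.P : Subgroup G) : Set G) with hNQ
  have hN55 : Nat.card NQ = 55 := (Eleven.data h d.F.P).2.2.2
  obtain ⟨F, hFN, hF⟩ := Tools3.exists_sylow_le (p := 5) (m := 2040192) (by rw [h]; norm_num)
    (by norm_num) (by rw [hN55]; norm_num : 5 ∣ Nat.card NQ)
  set s := ClassCount.facs d.u b q with hs
  have hmem : ∀ a ∈ s, IsConj d.u a ∧ IsConj b (a⁻¹ * q) := fun a ha => by
    rw [hs, ClassCount.facs, Finset.mem_filter, Orbit.mem_cls, Orbit.mem_cls] at ha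
    exact ha
  have hprop : ∀ a ∈ s, Nat.card (closure ({a, q} : Set G)) = 7920 ∧
      NQ ≤ closure ({a, q} : Set G) ∧ IsSimpleGroup (closure ({a, q} : Set G)) := fun a ha =>
    (cases h d hb hbu hI hq hq1 (hmem a ha).1 (hmem a ha).2).resolve_left (hno _)
  have hfib : ∀ H ∈ s.image (fun a => closure ({a, q} : Set G)),
      (s.filter fun a => closure ({a, q} : Set G) = H).card ≤ 11 := by
    intro H hH
    obtain ⟨a₀, ha₀, rfl⟩ := Finset.mem_image.mp hH
    obtain ⟨hc, -, hsimp⟩ := hprop a₀ ha₀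
    haveI := hsimp
    set H := closure ({a₀, q} : Set G)
    have hqH : q ∈ H := Subgroup.subset_closure (by simp)
    have hqo : orderOf q = 11 := by
      refine orderOf_eq_prime ?_ hq1
      have := orderOf_dvd_natCard (⟨q, hq⟩ : (d.F.P : Subgroup G))
      rw [Subgroup.orderOf_mk, d.F.hP] at this
      exact orderOf_dvd_iff_pow_eq_one.mp this
    rw [← Fintype.card_coe, ← Nat.card_eq_fintype_card]
    refine le_trans (Nat.card_le_card_of_injective (fun a =>
      (⟨⟨a.1, ?_⟩, ?_, ?_⟩ : {a : H // orderOf a = 2 ∧ orderOf (a⁻¹ * ⟨q, hqH⟩) = 4})) ?_)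
      (ElevenCount.card_le hc (q := (⟨q, hqH⟩ : H)) (by rw [Subgroup.orderOf_mk, hqo]))
    · have h1 : a.1 ∈ closure ({a.1, q} : Set G) := Subgroup.subset_closure (by simp)
      rwa [(Finset.mem_filter.mp a.2).2] at h1
    · obtain ⟨c, hc'⟩ := isConj_iff.mp (hmem _ (Finset.mem_filter.mp a.2).1).1
      rw [Subgroup.orderOf_mk, ← hc', show c * d.u * c⁻¹ = MulAut.conj c d.u from rfl,
        MulEquiv.orderOf_eq, d.hu]
    · obtain ⟨c, hc'⟩ := isConj_iff.mp (hmem _ (Finset.mem_filter.mp a.2).1).2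
      rw [← Subgroup.orderOf_coe, Subgroup.coe_mul, Subgroup.coe_inv, ← hc',
        show c * b * c⁻¹ = MulAut.conj c b from rfl, MulEquiv.orderOf_eq, hb]
    · intro a a' e
      exact Subtype.ext (congrArg (fun y => ((y.1 : H) : G)) e)
  have himg : (s.image fun a => closure ({a, q} : Set G)).card ≤ 3 := by
    rcases (s.image fun a => closure ({a, q} : Set G)).eq_empty_or_nonempty with e | ⟨H₀, hH₀⟩
    · rw [e]; simp
    have hH : ∀ H ∈ s.image (fun a => closure ({a, q} : Set G)),
        Nat.card H = 7920 ∧ NQ ≤ H := fun H hH => by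
      obtain ⟨a, ha, rfl⟩ := Finset.mem_image.mp hH
      exact ⟨(hprop a ha).1, (hprop a ha).2.1⟩
    have hN60 := (trace_five h d F hFN (hH H₀ hH₀).1 (hH H₀ hH₀).2).2.1
    rw [← Fintype.card_coe, ← Nat.card_eq_fintype_card]
    refine le_trans (Nat.card_le_card_of_injective (fun H =>
      (⟨H.1 ⊓ normalizer ((F : Subgroup G) : Set G), inf_le_right,
        (trace_five h d F hFN (hH _ H.2).1 (hH _ H.2).2).1⟩ :
        {T : Subgroup G // T ≤ normalizer ((F : Subgroup G) : Set G) ∧ Nat.card T = 20})) ?_)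
      (card_traces h F hN60)
    intro H H' e
    apply Subtype.ext
    rw [(trace_five h d F hFN (hH _ H.2).1 (hH _ H.2).2).2.2,
      (trace_five h d F hFN (hH _ H'.2).1 (hH _ H'.2).2).2.2]
    rw [show H.1 ⊓ normalizer ((F : Subgroup G) : Set G) = H'.1 ⊓ normalizer ((F : Subgroup G) :
      Set G) from congrArg Subtype.val e]
  have := Finset.card_le_mul_card_image s 11 hfib
  omega

end Cfsg.Agent.Lib.RecogM23.Index
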