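import Cfsg.Agent.Lib.RecogM23.Eleven
import Cfsg.Agent.Lib.RecogM23.CertLocal
import Cfsg.Agent.Lib.RecogM23.CertLines

/-!
Simple groups of order `10200960`: consequences of the self-centralising Sylow subgroups of orders
`11` and `23`, and the possible centralisers of the Sylow subgroups of order `7`.
-/

set_option autoImplicit false
set_option linter.style.haveILetI false
set_option linter.unusedSectionVars false

namespace Cfsg.Agent.Lib.RecogM23.Local

open Cfsg.Agent.Lib.Characters Cfsg.Agent.Lib.Characters.Basic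
open Cfsg.Agent.Lib.Classif Cfsg.Agent.Lib.SmallGroups
open Cfsg.Agent.Lib.Classif.PrimeExceptional (deg)

universe u

variable {G : Type u} [Group G] [Finite G] [IsSimpleGroup G] (h : Nat.card G = 10200960)

include h

/-- The Sylow subgroups of orders `11` and `23` are self-centralising. -/
theorem self_centralizing {p : ℕ} [Fact p.Prime] (hp : p = 11 ∨ p = 23) (S : Sylow p G) :
    Nat.card (S : Subgroup G) = p ∧
      Subgroup.centralizer ((S : Subgroup G) : Set G) = S := by
  obtain ⟨hS, hC⟩ : Nat.card (S : Subgroup G) = p ∧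
      Nat.card (Subgroup.centralizer ((S : Subgroup G) : Set G)) = p := by
    rcases hp with rfl | rfl
    · obtain ⟨hS, -, hC, -⟩ := Eleven.data h S
      exact ⟨hS, hC⟩
    · obtain ⟨hS, -, hC, -⟩ := Twentythree.data h S
      exact ⟨hS, hC⟩
  refine ⟨hS, (Subgroup.eq_of_le_of_card_ge ?_ (by rw [hS, hC])).symm⟩
  intro x hx
  haveI := isCyclic_of_prime_card hS
  haveI : IsMulCommutative (S : Subgroup G) := IsCyclic.isMulCommutative
  rw [Subgroup.mem_centralizer_iff]
  intro y hy
  exact congrArg Subtype.val (mul_comm' (⟨y, hy⟩ : (S : Subgroup G)) ⟨x, hx⟩)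

theorem orderOf_of_dvd {p : ℕ} [Fact p.Prime] (hp : p = 11 ∨ p = 23) {u : G}
    (hd : p ∣ Nat.card (Subgroup.centralizer ({u} : Set G))) : orderOf u = p ∨ u = 1 := by
  obtain ⟨⟨z, hzC⟩, hz⟩ := exists_prime_orderOf_dvd_card'
    (G := Subgroup.centralizer ({u} : Set G)) p hd
  rw [Subgroup.orderOf_mk] at hz
  obtain ⟨S, hS⟩ := (IsPGroup.of_card (n := 1)
    (show Nat.card (Subgroup.zpowers z) = p ^ 1 by rw [Nat.card_zpowers, hz, pow_one])
    ).exists_le_sylow
  obtain ⟨hSp, hSC⟩ := self_centralizing h hp S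
  have hSz : Subgroup.zpowers z = (S : Subgroup G) :=
    Subgroup.eq_of_le_of_card_ge hS (by rw [hSp, Nat.card_zpowers, hz])
  have hmem : u ∈ Subgroup.centralizer ((S : Subgroup G) : Set G) := by
    rw [Subgroup.mem_centralizer_iff]
    intro w hw
    rw [SetLike.mem_coe, ← hSz] at hw
    obtain ⟨i, rfl⟩ := Subgroup.mem_zpowers_iff.mp hw
    exact (Commute.zpow_left (Subgroup.mem_centralizer_singleton_iff.mp hzC) i).eq
  rw [hSC] at hmem
  have := Subgroup.orderOf_dvd_natCard _ hmem
  rw [hSp] at this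
  rcases (Nat.dvd_prime Fact.out).mp this with h1 | h1
  · exact Or.inr (orderOf_eq_one_iff.mp h1)
  · exact Or.inl h1

theorem not_dvd_centralizer {p : ℕ} [Fact p.Prime] (hp : p = 11 ∨ p = 23) {u : G}
    (hu : orderOf u ≠ p) (hu1 : u ≠ 1) :
    ¬ p ∣ Nat.card (Subgroup.centralizer ({u} : Set G)) := fun hd =>
  (orderOf_of_dvd h hp hd).elim hu hu1

/-- Every degree is congruent to `0`, `±1` or `±5` modulo `11`. -/
theorem okd_deg (χ : Cfsg.IrrCharacter G) : Lines.okd (deg χ) = true := by
  classical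
  haveI : Fact (Nat.Prime 11) := ⟨by norm_num⟩
  rw [Lines.okd, Bool.and_eq_true]
  refine ⟨Mod23.okd_deg h χ, ?_⟩
  set P : Sylow 11 G := default
  obtain ⟨hP, -, hC, hN⟩ := Eleven.data h P
  obtain ⟨-, hCP⟩ := self_centralizing h (p := 11) (Or.inl rfl) P
  have hrel : (Subgroup.centralizer ((P : Subgroup G) : Set G)).relIndex
      (Subgroup.normalizer ((P : Subgroup G) : Set G)) = 5 := by
    have h' := Sylow.card_centralizer_mul_relIndex (P : Subgroup G)
    rw [hN, hC] at h'
    omega
  obtain ⟨D⟩ := FirstPowerData.exists_data P hP hrel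
  have hperf := Sylow.commutator_eq_top (Base.not_comm h)
  have key : ∀ m : ℕ, m = 0 ∨ m = 1 ∨ m = 10 ∨ m = 5 ∨ m = 6 →
      (deg χ).natAbs % 11 = m → Lines.okd11 (deg χ) = true := by
    intro m hm hd
    rcases hm with rfl | rfl | rfl | rfl | rfl <;> simp [Lines.okd11, hd]
  have h0 := RecogThree.M12.Basic.deg_nonneg χ
  by_cases h1 : χ = oneChar G
  · subst h1; simp [Lines.okd11, PrimeExceptional.deg_oneChar]
  by_cases hK : χ ∈ D.K
  · have hd := (FirstPowerKills.signed_facts hperf hP D hK).1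
    refine key ((deg χ).natAbs % 11) ?_ rfl
    rcases D.a_unit χ hK with e | e <;> rw [e] at hd <;> omega
  by_cases hF : χ ∈ D.fam
  · have hd := D.θ_cong hP
    rw [← D.fam_deg χ hF] at hd
    refine key ((deg χ).natAbs % 11) ?_ rfl
    rcases D.δ_unit with e | e <;> rw [e] at hd <;> omega
  · have hd := PrimeDegrees.dvd_deg_of_other hP hCP D χ h1 hK hF
    refine key ((deg χ).natAbs % 11) ?_ rfl
    omega

theorem okd_signed (χ : Cfsg.IrrCharacter G) {a : ℤ} (ha : a = 1 ∨ a = -1) :
    Lines.okd (a * deg χ) = true := by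
  have h0 := okd_deg h χ
  rw [Lines.okd, Lines.okd11, Mod23.okd, Family.natAbs_unit ha]
  rwa [Lines.okd, Lines.okd11, Mod23.okd] at h0

/-- The centraliser order of an involution. -/
theorem cent_mem {u : G} (hu : orderOf u = 2) :
    Nat.card (Subgroup.centralizer ({u} : Set G)) ∈ cents := by
  haveI : Fact (Nat.Prime 11) := ⟨by norm_num⟩
  haveI : Fact (Nat.Prime 23) := ⟨by norm_num⟩
  have hu1 : u ≠ 1 := fun e => by rw [e, orderOf_one] at hu; omega
  have h4 := RecogM22.Basic.four_dvd_centralizer (h ▸ by norm_num : 4 ∣ Nat.card G) hu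
  have hdvd := (Subgroup.centralizer ({u} : Set G)).card_subgroup_dvd_card
  have h11 := not_dvd_centralizer h (p := 11) (Or.inl rfl) (u := u) (by omega) hu1
  have h23 := not_dvd_centralizer h (p := 23) (Or.inr rfl) (u := u) (by omega) hu1
  rw [h, show (10200960 : ℕ) = 23 * (11 * (128 * 315)) by norm_num] at hdvd
  generalize Nat.card (Subgroup.centralizer ({u} : Set G)) = c at *
  have h1 := ((Nat.Prime.coprime_iff_not_dvd (by norm_num)).mpr h23).symm.dvd_of_dvd_mul_left hdvd
  have h2 := ((Nat.Prime.coprime_iff_not_dvd (by norm_num)).mpr h11).symm.dvd_of_dvd_mul_left h1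
  obtain ⟨a, b, ha, hb, rfl⟩ := Nat.dvd_mul.mp h2
  simp only [cents, List.mem_filter, List.mem_flatMap, List.mem_map, decide_eq_true_eq]
  exact ⟨⟨a, RecogM22.Options.mem_divs (by norm_num) ha, b,
    RecogM22.Options.mem_divs (by norm_num) hb, rfl⟩, Nat.mod_eq_zero_of_dvd h4⟩

/-- The possible centralisers of a Sylow subgroup of order `7`. -/
theorem seven [Fact (Nat.Prime 7)] (R : Sylow 7 G) :
    ∃ e V : ℕ, (e, V) ∈ sevens ∧ Nat.card (R : Subgroup G) = 7 ∧
      Nat.card (Subgroup.centralizer ((R : Subgroup G) : Set G)) = 7 * V ∧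
      Nat.card (Subgroup.normalizer ((R : Subgroup G) : Set G)) = 7 * V * e ∧
      (Subgroup.centralizer ((R : Subgroup G) : Set G)).relIndex
        (Subgroup.normalizer ((R : Subgroup G) : Set G)) = e := by
  obtain ⟨n, e, c, hmem, hP, -, hce, hd, hC, hN, hrel⟩ := RecogM22.Options.exists_opt
    (Base.not_comm h) (m₁ := 5760) (m₂ := 253) h (by norm_num) (by norm_num) (by norm_num)
    (by norm_num) R
  obtain ⟨V, rfl⟩ := hd
  have hV : 10200960 / (n * e * 7) = V := by
    have hpos : 0 < n * e * 7 := by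
      rcases Nat.eq_zero_or_pos (n * e * 7) with h0 | h0
      · exfalso
        have : 7 * V * e * n = 0 := by
          rw [mul_assoc, mul_comm e n, show n * e = 0 by omega, mul_zero]
        omega
      · exact h0
    rw [show (10200960 : ℕ) = n * e * 7 * V by rw [← hce]; ring, Nat.mul_div_cancel_left _ hpos]
  have hl := List.all_eq_true.mp opts_seven _ hmem
  simp only [hV, Bool.or_eq_true, decide_eq_true_eq, List.elem_eq_mem] at hl
  have hno : ∀ p : ℕ, [Fact p.Prime] → (p = 11 ∨ p = 23) → V % p ≠ 0 := by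
    intro p _ hp h0
    obtain ⟨⟨y, hy⟩, hyo⟩ := exists_prime_orderOf_dvd_card' (G := (R : Subgroup G)) 7 (by rw [hP])
    rw [Subgroup.orderOf_mk] at hyo
    have hle : Subgroup.centralizer ((R : Subgroup G) : Set G) ≤
        Subgroup.centralizer ({y} : Set G) :=
      Subgroup.centralizer_le (Set.singleton_subset_iff.mpr hy)
    have hd : p ∣ Nat.card (Subgroup.centralizer ({y} : Set G)) :=
      ((Dvd.dvd.mul_left (Nat.dvd_of_mod_eq_zero h0) 7).trans (dvd_of_eq hC.symm)).trans
        (Subgroup.card_dvd_of_le hle)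
    rcases orderOf_of_dvd h hp hd with e' | e'
    · omega
    · rw [e', orderOf_one] at hyo; omega
  haveI : Fact (Nat.Prime 11) := ⟨by norm_num⟩
  haveI : Fact (Nat.Prime 23) := ⟨by norm_num⟩
  rcases hl with (hl | hl) | hl
  · exact absurd hl (hno 11 (Or.inl rfl))
  · exact absurd hl (hno 23 (Or.inr rfl))
  · exact ⟨e, V, by simpa using hl, hP, hC, hN, hrel⟩

end Cfsg.Agent.Lib.RecogM23.Local
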