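import Cfsg.Agent.Lib.RecogM23.Cert41
import Cfsg.Agent.Lib.RecogM23.Eleven

/-!
Simple groups of order `10200960` with a subgroup of index `23` are all isomorphic.

Owner: helper41.
-/

set_option autoImplicit false
set_option linter.style.haveILetI false
set_option linter.unusedSectionVars false

namespace Cfsg.Agent.Lib.RecogM23.Model41

open Cert41 (T M N A leg ev word)
open Cfsg.Agent.Lib.SmallGroups

universe u v

theorem conj_pow_pow {G : Type u} [Group G] {a b : G} {r : ℕ} (h : a * b * a⁻¹ = b ^ r) :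
    ∀ n : ℕ, a ^ n * b * (a ^ n)⁻¹ = b ^ (r ^ n)
  | 0 => by simp
  | n + 1 => by
    rw [pow_succ' a, mul_inv_rev,
      show a * a ^ n * b * ((a ^ n)⁻¹ * a⁻¹) = a * (a ^ n * b * (a ^ n)⁻¹) * a⁻¹ by group,
      conj_pow_pow h n, ← conj_pow, h, ← pow_mul, pow_succ, Nat.mul_comm (r ^ n)]

theorem pow_to_two : ∀ r : Fin 23, r * r * r * r * r * r * r * r * r * r * r = 1 → r ≠ 1 →
    ∃ l : Fin 11, r.1 ^ l.1 % 23 = 2 := by
  decide +kernel

theorem pow_to_three : ∀ r : Fin 11, r * r * r * r * r = 1 → r ≠ 1 →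
    ∃ l : Fin 5, r.1 ^ l.1 % 11 = 3 := by
  decide +kernel

variable {G : Type u} [Group G] [Finite G] [IsSimpleGroup G]

/-- An action on twenty-three points in standard form. -/
structure Std (G : Type u) [Group G] where
  φ : G →* Equiv.Perm (Fin 23)
  inj : Function.Injective φ
  x : G
  y : G
  a : G
  hx : ⇑(φ x) = T
  hy : ⇑(φ y) = M
  ha : ⇑(φ a) = A 1 11
  gen : Subgroup.closure {x, y, a} = ⊤

theorem Std.range_eq {G : Type u} [Group G] (S : Std G) :
    S.φ.range = Subgroup.closure {S.φ S.x, S.φ S.y, S.φ S.a} := by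
  rw [MonoidHom.range_eq_map, ← S.gen, MonoidHom.map_closure, Set.image_insert_eq,
    Set.image_insert_eq, Set.image_singleton]

theorem Std.nonempty_mulEquiv {G : Type u} {G' : Type v} [Group G] [Group G'] (S : Std G)
    (S' : Std G') : Nonempty (G ≃* G') := by
  have e : S.φ.range = S'.φ.range := by
    rw [S.range_eq, S'.range_eq,
      Equiv.coe_fn_injective (S.hx.trans S'.hx.symm),
      Equiv.coe_fn_injective (S.hy.trans S'.hy.symm),
      Equiv.coe_fn_injective (S.ha.trans S'.ha.symm)]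
  exact ⟨(MonoidHom.ofInjective S.inj).trans
    ((MulEquiv.subgroupCongr e).trans (MonoidHom.ofInjective S'.inj).symm)⟩

variable (h : Nat.card G = 10200960)

include h

/-- A subgroup containing elements of order `23` and `11` normalising and an element of order `5`
normalising the latter is everything. -/
theorem gen_top {x y a : G} (hx : orderOf x = 23) (hy : orderOf y = 11) (ha : orderOf a = 5)
    {r s : ℕ} (hyx : y * x * y⁻¹ = x ^ r) (hay : a * y * a⁻¹ = y ^ s) :
    Subgroup.closure {x, y, a} = ⊤ := by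
  classical
  haveI : Fact (Nat.Prime 23) := ⟨by norm_num⟩
  haveI : Fact (Nat.Prime 11) := ⟨by norm_num⟩
  set K := Subgroup.closure {x, y, a}
  have hmem : x ∈ K ∧ y ∈ K ∧ a ∈ K :=
    ⟨Subgroup.subset_closure (by simp), Subgroup.subset_closure (by simp),
      Subgroup.subset_closure (by simp)⟩
  -- the subgroup contains the two Sylow normalisers
  have key : ∀ {p m : ℕ} [Fact p.Prime] {b c : G} {k : ℕ}, orderOf b = p → orderOf c = m →
      Nat.Coprime p m → c * b * c⁻¹ = b ^ k → b ∈ K → c ∈ K →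
      (∀ P : Sylow p G, Nat.card (P : Subgroup G) = p ∧
        Nat.card (Subgroup.normalizer ((P : Subgroup G) : Set G)) = p * m) →
      ∃ n : ℕ, Nat.card K = p * m * n ∧ n % p = 1 := by
    intro p m _ b c k hb hc hpm hcb hbK hcK hdata
    obtain ⟨P, hP⟩ := (IsPGroup.of_card (n := 1)
      (show Nat.card (Subgroup.zpowers b) = p ^ 1 by rw [Nat.card_zpowers, hb, pow_one])
      ).exists_le_sylow
    obtain ⟨hPc, hNc⟩ := hdata P
    have hPb : Subgroup.zpowers b = (P : Subgroup G) :=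
      Subgroup.eq_of_le_of_card_ge hP (by rw [hPc, Nat.card_zpowers, hb])
    have hPK : (P : Subgroup G) ≤ K := hPb ▸ Subgroup.zpowers_le.mpr hbK
    set NP := Subgroup.normalizer ((P : Subgroup G) : Set G)
    have hcN : c ∈ NP := by
      refine Subgroup.mem_normalizer_fintype fun w hw => ?_
      rw [SetLike.mem_coe, ← hPb] at hw ⊢
      obtain ⟨i, rfl⟩ := Subgroup.mem_zpowers_iff.mp hw
      rw [← conj_zpow, hcb]
      exact Subgroup.zpow_mem _ (Subgroup.npow_mem_zpowers b k) i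
    have hNK : NP ≤ K := by
      have h1 : p ∣ Nat.card ↥(K ⊓ NP) := hb ▸ Subgroup.orderOf_dvd_natCard _
        ⟨hbK, Subgroup.le_normalizer (hP (Subgroup.mem_zpowers b))⟩
      have h2 : m ∣ Nat.card ↥(K ⊓ NP) := hc ▸ Subgroup.orderOf_dvd_natCard _ ⟨hcK, hcN⟩
      exact (Subgroup.eq_of_le_of_card_ge (inf_le_right : K ⊓ NP ≤ NP)
        (by rw [hNc]; exact Nat.le_of_dvd Nat.card_pos (hpm.mul_dvd_of_dvd_of_dvd h1 h2)))
          ▸ inf_le_left
    refine ⟨Nat.card (Sylow p K), ?_, Sylow.card_sylow_mod⟩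
    have hk : Nat.card (Sylow p K) =
        (Subgroup.normalizer (((P : Subgroup G).subgroupOf K : Subgroup K) : Set K)).index :=
      Sylow.card_eq_index_normalizer (P.subtype hPK)
    rw [← Subgroup.subgroupOf_normalizer_eq hPK] at hk
    rw [hk, ← Subgroup.card_mul_index (NP.subgroupOf K),
      Nat.card_congr (Subgroup.subgroupOfEquivOfLe hNK).toEquiv, hNc]
  obtain ⟨n, hn, hn23⟩ := key hx hy (by norm_num) hyx hmem.1 hmem.2.1 (fun P => by
    obtain ⟨h1, -, -, h4⟩ := Twentythree.data h P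
    exact ⟨h1, h4⟩)
  obtain ⟨n', hn', hn11⟩ := key hy ha (by norm_num) hay hmem.2.1 hmem.2.2 (fun P => by
    obtain ⟨h1, -, -, h4⟩ := Eleven.data h P
    exact ⟨h1, h4⟩)
  refine Subgroup.eq_top_of_card_eq K ?_
  have hd : Nat.card K ∣ 10200960 := h ▸ K.card_subgroup_dvd_card
  rw [hn] at hd
  have hdn : n ∣ 40320 :=
    Nat.dvd_of_mul_dvd_mul_left (by norm_num : 0 < 23 * 11) (hd.trans (by norm_num))
  have hdiv : ∀ m ∈ RecogM22.Options.divs 2520, ∀ j : Fin 5, let d := m * 2 ^ j.1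
      d ∣ 40320 → d % 23 = 1 → (23 * 11 * d) % 55 = 0 → (23 * 11 * d / 55) % 11 = 1 → d = 40320 := by
    decide +kernel
  obtain ⟨m, j, hm, hmj⟩ : ∃ m : ℕ, ∃ j : Fin 5, m ∣ 2520 ∧ n = m * 2 ^ j.1 := by
    obtain ⟨d₁, d₂, h1, h2, e⟩ := Nat.dvd_mul.mp (show n ∣ 2520 * 2 ^ 4 by simpa using hdn)
    obtain ⟨j, hj, rfl⟩ := (Nat.dvd_prime_pow Nat.prime_two).mp h2
    exact ⟨d₁, ⟨j, by omega⟩, h1, e.symm⟩
  have h55 : (23 * 11 * n) % 55 = 0 := by rw [← hn, hn']; omega
  have hh : (23 * 11 * n / 55) % 11 = 1 := by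
    rw [← hn, hn', Nat.mul_div_cancel_left _ (by norm_num : 0 < 11 * 5)]; exact hn11
  rw [hmj] at hdn hn23 h55 hh
  have := hdiv m (RecogM22.Options.mem_divs (by norm_num) hm) j hdn hn23 h55 hh
  rw [hn, h, hmj, this]

/-- A subgroup of index `23` gives an action in standard form. -/
theorem exists_std {H : Subgroup G} (hH : H.index = 23) : Nonempty (Std G) := by
  classical
  haveI : Fact (Nat.Prime 23) := ⟨by norm_num⟩
  haveI : Fact (Nat.Prime 11) := ⟨by norm_num⟩
  haveI : Fact (Nat.Prime 5) := ⟨by norm_num⟩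
  have hHc : Nat.card H = 443520 := by
    have := H.card_mul_index
    rw [hH, h] at this
    omega
  have hcard : Nat.card (G ⧸ H) = 23 := hH
  -- the elements
  set P : Sylow 23 G := default
  obtain ⟨hP, -, hCP, hNP⟩ := Twentythree.data h P
  obtain ⟨⟨x, hxP⟩, hxo⟩ := exists_prime_orderOf_dvd_card' (G := (P : Subgroup G)) 23 (by rw [hP])
  rw [Subgroup.orderOf_mk] at hxo
  have hPx : Subgroup.zpowers x = (P : Subgroup G) :=
    Subgroup.eq_of_le_of_card_ge (Subgroup.zpowers_le.mpr hxP) (by rw [hP, Nat.card_zpowers, hxo])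
  have hx1 : x ^ 23 = 1 := hxo ▸ pow_orderOf_eq_one x
  obtain ⟨⟨y₀, hy₀N⟩, hy₀⟩ := exists_prime_orderOf_dvd_card'
    (G := Subgroup.normalizer ((P : Subgroup G) : Set G)) 11 (by rw [hNP]; norm_num)
  rw [Subgroup.orderOf_mk] at hy₀
  obtain ⟨i, hi⟩ := Subgroup.mem_zpowers_iff.mp
    (hPx ▸ (Subgroup.mem_normalizer_iff.mp hy₀N x).mp hxP)
  obtain ⟨r, hr⟩ : ∃ r : Fin 23, y₀ * x * y₀⁻¹ = x ^ r.1 := by
    refine ⟨⟨(i % 23).toNat, by omega⟩, ?_⟩
    rw [← hi, ← zpow_natCast, Int.toNat_of_nonneg (Int.emod_nonneg _ (by norm_num)),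
      ← zpow_mod_orderOf, hxo]
    norm_num
  have hr11 : r * r * r * r * r * r * r * r * r * r * r = 1 := by
    have h1 := conj_pow_pow hr 11
    rw [← hy₀, pow_orderOf_eq_one] at h1
    simp only [one_mul, inv_one, mul_one] at h1
    rw [hy₀] at h1
    have h2 : r.1 ^ 11 % 23 = 1 := by
      have := (pow_eq_pow_iff_modEq (x := x) (m := r.1 ^ 11) (n := 1)).mp (by rw [pow_one, ← h1])
      rw [hxo, Nat.ModEq] at this
      omega
    refine Fin.ext ?_
    simp only [Fin.val_mul, Nat.mod_mul_mod]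
    calc _ = r.1 ^ 11 % 23 := congrArg (· % 23) (by ring)
      _ = 1 := h2
  have hr1 : r ≠ 1 := by
    intro e
    rw [e] at hr
    have hc : y₀ * x = x * y₀ := mul_inv_eq_iff_eq_mul.mp (by simpa using hr)
    have hmem : y₀ ∈ Subgroup.centralizer ((P : Subgroup G) : Set G) := by
      rw [← hPx, Subgroup.mem_centralizer_iff]
      intro g hg
      obtain ⟨k, rfl⟩ := Subgroup.mem_zpowers_iff.mp hg
      exact ((show Commute x y₀ from hc.symm).zpow_left k).eq
    have := Subgroup.orderOf_dvd_natCard _ hmem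
    rw [hy₀, hCP] at this
    norm_num at this
  obtain ⟨l, hl⟩ := pow_to_two r hr11 hr1
  set y := y₀ ^ l.1
  have hyx : y * x * y⁻¹ = x ^ 2 := by
    rw [conj_pow_pow hr, ← pow_mod_orderOf, hxo, hl]
  have hy11 : y ^ 11 = 1 := by
    rw [← pow_mul, mul_comm, pow_mul, show y₀ ^ 11 = 1 from hy₀ ▸ pow_orderOf_eq_one y₀, one_pow]
  have hyo : orderOf y = 11 := by
    refine orderOf_eq_prime hy11 fun e => ?_
    rw [e, one_mul, inv_one, mul_one] at hyx
    have := (pow_eq_pow_iff_modEq (x := x) (m := 1) (n := 2)).mp (by rw [pow_one]; exact hyx.symm)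
    rw [hxo, Nat.ModEq] at this
    norm_num at this
  obtain ⟨Q, hQ⟩ := (IsPGroup.of_card (n := 1)
    (show Nat.card (Subgroup.zpowers y) = 11 ^ 1 by rw [Nat.card_zpowers, hyo, pow_one])
    ).exists_le_sylow
  obtain ⟨hQc, -, hCQ, hNQ⟩ := Eleven.data h Q
  have hQy : Subgroup.zpowers y = (Q : Subgroup G) :=
    Subgroup.eq_of_le_of_card_ge hQ (by rw [hQc, Nat.card_zpowers, hyo])
  obtain ⟨⟨a₀, ha₀N⟩, ha₀⟩ := exists_prime_orderOf_dvd_card'
    (G := Subgroup.normalizer ((Q : Subgroup G) : Set G)) 5 (by rw [hNQ]; norm_num)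
  rw [Subgroup.orderOf_mk] at ha₀
  obtain ⟨i', hi'⟩ := Subgroup.mem_zpowers_iff.mp
    (hQy ▸ (Subgroup.mem_normalizer_iff.mp ha₀N y).mp (hQ (Subgroup.mem_zpowers y)))
  obtain ⟨s, hs⟩ : ∃ s : Fin 11, a₀ * y * a₀⁻¹ = y ^ s.1 := by
    refine ⟨⟨(i' % 11).toNat, by omega⟩, ?_⟩
    rw [← hi', ← zpow_natCast, Int.toNat_of_nonneg (Int.emod_nonneg _ (by norm_num)),
      ← zpow_mod_orderOf, hyo]
    norm_num
  have hs5 : s * s * s * s * s = 1 := by
    have h1 := conj_pow_pow hs 5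
    rw [← ha₀, pow_orderOf_eq_one] at h1
    simp only [one_mul, inv_one, mul_one] at h1
    rw [ha₀] at h1
    have h2 : s.1 ^ 5 % 11 = 1 := by
      have := (pow_eq_pow_iff_modEq (x := y) (m := s.1 ^ 5) (n := 1)).mp (by rw [pow_one, ← h1])
      rw [hyo, Nat.ModEq] at this
      omega
    refine Fin.ext ?_
    simp only [Fin.val_mul, Nat.mod_mul_mod]
    calc _ = s.1 ^ 5 % 11 := congrArg (· % 11) (by ring)
      _ = 1 := h2
  have hs1 : s ≠ 1 := by
    intro e
    rw [e] at hs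
    have hc : a₀ * y = y * a₀ := mul_inv_eq_iff_eq_mul.mp (by simpa using hs)
    have hmem : a₀ ∈ Subgroup.centralizer ((Q : Subgroup G) : Set G) := by
      rw [← hQy, Subgroup.mem_centralizer_iff]
      intro g hg
      obtain ⟨k, rfl⟩ := Subgroup.mem_zpowers_iff.mp hg
      exact ((show Commute y a₀ from hc.symm).zpow_left k).eq
    have := Subgroup.orderOf_dvd_natCard _ hmem
    rw [ha₀, hCQ] at this
    norm_num at this
  obtain ⟨l', hl'⟩ := pow_to_three s hs5 hs1
  set a := a₀ ^ l'.1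
  have hay : a * y * a⁻¹ = y ^ 3 := by
    rw [conj_pow_pow hs, ← pow_mod_orderOf, hyo, hl']
  have ha5 : a ^ 5 = 1 := by
    rw [← pow_mul, mul_comm, pow_mul, show a₀ ^ 5 = 1 from ha₀ ▸ pow_orderOf_eq_one a₀, one_pow]
  -- the points
  have hnofix : ∀ q : G ⧸ H, x • q ≠ q := by
    intro q hq
    obtain ⟨g, rfl⟩ := QuotientGroup.mk_surjective q
    have hm : g⁻¹ * (x * g) ∈ H := QuotientGroup.eq.mp hq.symm
    have := Subgroup.orderOf_dvd_natCard H hm
    rw [show g⁻¹ * (x * g) = g⁻¹ * x * g⁻¹⁻¹ by group,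
      orderOf_eq_prime (p := 23) (by rw [conj_pow, hx1]; group) (fun e => by
        rw [conj_eq_one_iff] at e; rw [e, orderOf_one] at hxo; omega), hHc] at this
    norm_num at this
  obtain ⟨p₀, hp₀⟩ := (IsPGroup.of_card (n := 1)
    (show Nat.card (Subgroup.zpowers y) = 11 ^ 1 by rw [Nat.card_zpowers, hyo, pow_one])
    ).nonempty_fixed_point_of_prime_not_dvd_card (G ⧸ H) (by rw [hcard]; norm_num)
  have hyp : y • p₀ = p₀ := hp₀ ⟨y, Subgroup.mem_zpowers y⟩
  have hypow : ∀ n : ℕ, y ^ n • p₀ = p₀ := fun n => hp₀ ⟨y ^ n, Subgroup.npow_mem_zpowers y n⟩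
  let f : Fin 23 → G ⧸ H := fun i => x ^ i.1 • p₀
  have hf : Function.Injective f := by
    have key : ∀ i j : ℕ, i < j → j < 23 → x ^ i • p₀ ≠ x ^ j • p₀ := by
      intro i j hij hj e
      have hfix : x ^ (j - i) • (x ^ i • p₀) = x ^ i • p₀ := by
        rw [smul_smul, ← pow_add, Nat.sub_add_cancel hij.le, e]
      have hcop : Nat.Coprime (j - i) 23 :=
        ((Nat.Prime.coprime_iff_not_dvd (by norm_num)).mpr fun hd => by
          have := Nat.le_of_dvd (by omega) hd; omega).symm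
      obtain ⟨m, hm⟩ := Nat.exists_mul_mod_eq_one_of_coprime hcop (by norm_num)
      refine hnofix (x ^ i • p₀) ?_
      have hmem : x ^ (j - i) ∈ MulAction.stabilizer G (x ^ i • p₀) := hfix
      have := pow_mem hmem m
      rwa [← pow_mul, ← pow_mod_orderOf x ((j - i) * m), hxo, hm.2, pow_one] at this
    intro i j e
    rcases lt_trichotomy i.1 j.1 with hij | hij | hij
    · exact absurd e (key _ _ hij j.2)
    · exact Fin.ext hij
    · exact absurd e.symm (key _ _ hij i.2)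
  haveI : Fintype (G ⧸ H) := Fintype.ofFinite _
  let e : Fin 23 ≃ G ⧸ H := Equiv.ofBijective f ((Fintype.bijective_iff_injective_and_card f).mpr
    ⟨hf, by rw [Fintype.card_fin, ← Nat.card_eq_fintype_card, hcard]⟩)
  let φ : G →* Equiv.Perm (Fin 23) :=
    (e.symm.permCongrHom).toMonoidHom.comp (MulAction.toPermHom G (G ⧸ H))
  have happ : ∀ g i, e (φ g i) = g • e i := fun g i => by
    show e (e.symm (g • e.symm.symm i)) = _
    rw [Equiv.apply_symm_apply, Equiv.symm_symm]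
  have hinj : Function.Injective φ := by
    rw [injective_iff_map_eq_one]
    intro g hg
    by_contra h1
    haveI : φ.ker.Normal := MonoidHom.normal_ker φ
    rcases Subgroup.Normal.eq_bot_or_eq_top (H := φ.ker) inferInstance with hb | ht
    · exact h1 (Subgroup.mem_bot.mp (hb ▸ MonoidHom.mem_ker.mpr hg))
    · refine hnofix (e 0) ?_
      have : x ∈ φ.ker := ht ▸ Subgroup.mem_top x
      rw [← happ, MonoidHom.mem_ker.mp this, Equiv.Perm.one_apply]
  have hφx : ⇑(φ x) = T := funext fun i => e.injective (by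
    rw [happ]
    show x • x ^ i.1 • p₀ = x ^ (T i).1 • p₀
    rw [smul_smul, ← pow_succ', T, Fin.val_add, ← pow_mod_orderOf x (i.1 + 1), hxo]
    rfl)
  have hφy : ⇑(φ y) = M := funext fun i => e.injective (by
    rw [happ]
    show y • x ^ i.1 • p₀ = x ^ (M i).1 • p₀
    rw [smul_smul, show y * x ^ i.1 = (y * x * y⁻¹) ^ i.1 * y by rw [conj_pow]; group, hyx,
      ← smul_smul, hyp, ← pow_mul, M, Fin.val_mul, ← pow_mod_orderOf x (2 * i.1), hxo]
    rfl)
  have hpowf : ∀ (g : G) (f : Fin 23 → Fin 23), ⇑(φ g) = f → ∀ n : ℕ, ⇑(φ (g ^ n)) = f^[n] :=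
    fun g f hg n => by rw [map_pow, Equiv.Perm.coe_pow, hg]
  -- maps normalising `M`
  have eqA : ∀ b : G, b ^ 5 = 1 → b * y * b⁻¹ = y ^ 3 → ∃ u v : Fin 23,
      ⇑(φ b) = A u v ∧ leg u = 1 ∧ leg v = 22 ∧ u = φ b 1 := by
    intro b hb5 hby
    have hrel : ∀ i n, φ b (M^[n] i) = M^[3 * n] (φ b i) := fun i n => by
      rw [← hpowf y M hφy n, ← hpowf y M hφy (3 * n), ← Equiv.Perm.mul_apply,
        ← Equiv.Perm.mul_apply, ← map_mul, ← map_mul, pow_mul,
        show b * y ^ n = (b * y * b⁻¹) ^ n * b by rw [conj_pow]; group, hby]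
    have h0 : φ b 0 = 0 := by
      have h00 : ∀ i : Fin 23, M^[3] i = i → i = 0 := by decide +kernel
      exact h00 _ ((hrel 0 1).symm.trans (congrArg (φ b) (by decide)))
    refine ⟨φ b 1, φ b 22, ?_⟩
    have hfun : ⇑(φ b) = A (φ b 1) (φ b 22) := funext fun i => by
      rcases Cert41.exists_pow i with rfl | ⟨k, rfl | rfl⟩
      · rw [h0]; rfl
      · rw [hrel, (Cert41.A_spec _ _ k).1]
      · rw [hrel, (Cert41.A_spec _ _ k).2]
    obtain ⟨h1, h2⟩ := Cert41.classes (φ b 1) (φ b 22) fun i => by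
      rw [← hfun, ← hpowf b _ rfl 5, hb5, map_one, Equiv.Perm.one_apply]
    exact ⟨hfun, h1, h2, rfl⟩
  obtain ⟨u, v, hA, hu, -, hu'⟩ := eqA a ha5 hay
  obtain ⟨j, hj⟩ := Cert41.shift u hu
  set b := y ^ j.1 * a * y ^ (11 - j.1)
  have hyinv : y ^ (11 - j.1) = (y ^ j.1)⁻¹ := by
    refine eq_inv_of_mul_eq_one_left ?_
    rw [← pow_add, Nat.sub_add_cancel (by omega), hy11]
  have hb5 : b ^ 5 = 1 := by
    simp only [b, hyinv, conj_pow, ha5]; group
  have hby : b * y * b⁻¹ = y ^ 3 := by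
    simp only [b, hyinv]
    rw [show y ^ j.1 * a * (y ^ j.1)⁻¹ * y * (y ^ j.1 * a * (y ^ j.1)⁻¹)⁻¹ =
      y ^ j.1 * (a * ((y ^ j.1)⁻¹ * y * y ^ j.1) * a⁻¹) * (y ^ j.1)⁻¹ by group,
      show (y ^ j.1)⁻¹ * y * y ^ j.1 = y by group, hay]
    group
  obtain ⟨u', w, hB, -, hw, hu''⟩ := eqA b hb5 hby
  have hu1 : u' = 1 := by
    rw [hu'', show b = y ^ j.1 * a * y ^ (11 - j.1) from rfl, map_mul, map_mul,
      Equiv.Perm.mul_apply, Equiv.Perm.mul_apply, hpowf y M hφy, hpowf y M hφy]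
    have hk : φ a (M^[11 - j.1] 1) = M^[3 * (11 - j.1)] (φ a 1) := by
      rw [← hpowf y M hφy, ← hpowf y M hφy, ← Equiv.Perm.mul_apply, ← Equiv.Perm.mul_apply,
        ← map_mul, ← map_mul, pow_mul,
        show a * y ^ (11 - j.1) = (a * y * a⁻¹) ^ (11 - j.1) * a by rw [conj_pow]; group, hay]
    rw [hk, ← hu', hj]
  subst hu1
  have hbo : orderOf b = 5 := by
    refine orderOf_eq_prime hb5 fun e' => ?_
    rw [e', one_mul, inv_one, mul_one] at hby
    have := (pow_eq_pow_iff_modEq (x := y) (m := 1) (n := 3)).mp (by rw [pow_one]; exact hby.symm)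
    rw [hyo, Nat.ModEq] at this
    norm_num at this
  rcases Cert41.bad w hw with rfl | rfl | ⟨hq, hnd, ⟨i₀, hi₀⟩, hi⟩
  · exact ⟨⟨φ, hinj, x, y, b, hφx, hφy, hB, gen_top h hxo hyo hbo hyx hby⟩⟩
  · -- the mirror image
    let ν : Equiv.Perm (Fin 23) := ⟨N, N, fun i => (Cert41.neg_spec i).2.1,
      fun i => (Cert41.neg_spec i).2.1⟩
    let ψ : G →* Equiv.Perm (Fin 23) := ((MulAut.conj ν).toMonoidHom).comp φ
    have hψ : ∀ g i, ψ g i = N (φ g (N i)) := fun g i => rfl
    have hMN : ∀ (n : ℕ) i, N (M^[n] i) = M^[n] (N i) := fun n i =>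
      ((show Function.Commute N M from fun z => (Cert41.neg_spec z).1).iterate_right n) i
    set c := y ^ 6 * b * y ^ 5
    have hψc : ⇑(ψ c) = A 1 11 := funext fun i => by
      rw [hψ, map_mul, map_mul, Equiv.Perm.mul_apply, Equiv.Perm.mul_apply, hpowf y M hφy,
        hpowf y M hφy, hB, hMN, ← hMN 5 i]
      exact Cert41.mirror i
    have hyinv' : y ^ 5 = (y ^ 6)⁻¹ := eq_inv_of_mul_eq_one_left (by rw [← pow_add, hy11])
    refine ⟨⟨ψ, (MulAut.conj ν).injective.comp hinj, x ^ 22, y, c, funext fun i => ?_,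
      funext fun i => ?_, hψc, gen_top h ?_ hyo ?_ (r := 2) (s := 3) ?_ ?_⟩⟩
    · rw [hψ, hpowf x T hφx, (Cert41.neg_spec i).2.2.2, (Cert41.neg_spec (T i)).2.1]
    · rw [hψ, hφy, (Cert41.neg_spec (N i)).1, (Cert41.neg_spec i).2.1]
    · refine orderOf_eq_prime (by rw [← pow_mul, mul_comm, pow_mul, hx1, one_pow]) fun e' => ?_
      have := (pow_eq_pow_iff_modEq (x := x) (m := 22) (n := 0)).mp (by rw [pow_zero]; exact e'.symm)
      rw [hxo, Nat.ModEq] at this
      norm_num at this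
    · rw [show c = y ^ 6 * b * (y ^ 6)⁻¹ by rw [← hyinv']]
      refine orderOf_eq_prime (by rw [conj_pow, hb5]; group) fun e' => ?_
      rw [conj_eq_one_iff] at e'
      rw [e', orderOf_one] at hbo
      omega
    · rw [← conj_pow, hyx, ← pow_mul, ← pow_mul, mul_comm]
    · rw [show c = y ^ 6 * b * (y ^ 6)⁻¹ by rw [← hyinv'],
        show y ^ 6 * b * (y ^ 6)⁻¹ * y * (y ^ 6 * b * (y ^ 6)⁻¹)⁻¹ =
          y ^ 6 * (b * ((y ^ 6)⁻¹ * y * y ^ 6) * b⁻¹) * (y ^ 6)⁻¹ by group,
        show (y ^ 6)⁻¹ * y * y ^ 6 = y by group, hby]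
      group
  · exfalso
    obtain ⟨g, hg⟩ : ∃ g : G, ⇑(φ g) = ev w (word w).1 := by
      induction (word w).1 with
      | nil => exact ⟨1, by rw [map_one]; rfl⟩
      | cons c l ih =>
        obtain ⟨g, hg⟩ := ih
        refine ⟨(![x, y, b] : Fin 3 → G) c * g, funext fun i => ?_⟩
        rw [map_mul, Equiv.Perm.mul_apply, hg, ev]
        fin_cases c
        · exact congrFun hφx _
        · exact congrFun hφy _
        · exact congrFun hB _
    haveI : Fact (Nat.Prime (word w).2.1) := ⟨hq⟩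
    have ho : orderOf (g ^ (word w).2.2) = (word w).2.1 := by
      refine orderOf_eq_prime (hinj (Equiv.ext fun i => ?_)) fun e' => hi₀ ?_
      · rw [← pow_mul, hpowf g _ hg, hi i, map_one, Equiv.Perm.one_apply]
      · rw [← hpowf g _ hg, e', map_one, Equiv.Perm.one_apply]
    exact hnd (h ▸ ho ▸ orderOf_dvd_natCard _)

omit h in
/-- Two simple groups of order `10200960` with subgroups of index `23` are isomorphic. -/
theorem nonempty_mulEquiv {G : Type u} {G' : Type v} [Group G] [Finite G] [IsSimpleGroup G]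
    [Group G'] [Finite G'] [IsSimpleGroup G'] (h : Nat.card G = 10200960)
    (h' : Nat.card G' = 10200960) {H : Subgroup G} (hH : H.index = 23) {H' : Subgroup G'}
    (hH' : H'.index = 23) : Nonempty (G ≃* G') := by
  obtain ⟨S⟩ := exists_std h hH
  obtain ⟨S'⟩ := exists_std h' hH'
  exact S.nonempty_mulEquiv S'

end Cfsg.Agent.Lib.RecogM23.Model41
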