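import Cfsg.Agent.Lib.RecogThree.M12.Basic
import Cfsg.Agent.Lib.Classif.FirstPowerData

/-!
Sums over pairs of conjugates, modulo a prime order element acting by conjugation.
-/

set_option autoImplicit false
set_option linter.style.haveILetI false
set_option linter.unusedSectionVars false

namespace Cfsg.Agent.Lib.RecogM23.Orbit

open Cfsg.Agent.Lib.Characters Cfsg.Agent.Lib.Characters.Basic
open Cfsg.Agent.Lib.Classif
open Cfsg.Agent.Lib.Classif.PrimeExceptional (deg apply_one_eq)
open Finset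

universe u v

/-- Modulo a prime, an invariant sum is the sum over the fixed points. -/
theorem sum_fixed_mod {α : Type v} [DecidableEq α] {q : ℕ} (hq : q.Prime) (σ : α → α)
    (hσ : ∀ a, σ^[q] a = a) (f : α → ℂ) (hf : ∀ a, f (σ a) = f a)
    (hint : ∀ a, IsIntegral ℤ (f a)) :
    ∀ S : Finset α, (∀ a ∈ S, σ a ∈ S) → ∃ β : ℂ, IsIntegral ℤ β ∧
      ∑ a ∈ S, f a - ∑ a ∈ S.filter (fun a => σ a = a), f a = (q : ℂ) * β := by
  intro S
  induction S using Finset.strongInduction with
  | _ S ih =>
    intro hS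
    by_cases hall : ∀ a ∈ S, σ a = a
    · exact ⟨0, isIntegral_zero, by rw [filter_true_of_mem hall, sub_self, mul_zero]⟩
    push Not at hall
    obtain ⟨a, ha, hne⟩ := hall
    have hmin : Function.minimalPeriod σ a = q := by
      have hdvd : Function.minimalPeriod σ a ∣ q :=
        (Function.IsPeriodicPt.minimalPeriod_dvd (show Function.IsPeriodicPt σ q a from hσ a))
      rcases (Nat.dvd_prime hq).mp hdvd with h | h
      · exact absurd (Function.minimalPeriod_eq_one_iff_isFixedPt.mp h) hne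
      · exact h
    have hinj : Set.InjOn (fun i => σ^[i] a) (range q : Finset ℕ) := by
      intro i hi j hj hij
      rw [coe_range, Set.mem_Iio, ← hmin] at hi hj
      exact Function.iterate_injOn_Iio_minimalPeriod hi hj hij
    set O := (range q).image fun i => σ^[i] a with hO
    have hiter : ∀ i, σ^[i] a ∈ S ∧ f (σ^[i] a) = f a := fun i => by
      induction i with
      | zero => exact ⟨ha, rfl⟩
      | succ i hi =>
        rw [Function.iterate_succ_apply']
        exact ⟨hS _ hi.1, (hf _).trans hi.2⟩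
    have hOS : O ⊆ S := image_subset_iff.mpr fun i _ => (hiter i).1
    have hback : ∀ b, σ b ∈ O → b ∈ O := by
      intro b hb
      obtain ⟨i, -, hi⟩ := mem_image.mp hb
      have hb' : σ^[(i + (q - 1)) % q] a = b := by
        have h1 : σ^[q - 1] (σ b) = b := by
          rw [← Function.iterate_succ_apply, Nat.succ_eq_add_one, Nat.sub_add_cancel hq.one_le]
          exact hσ b
        have hb2 : σ^[i + (q - 1)] a = b := by
          rw [add_comm, Function.iterate_add_apply, hi, h1]
        rw [← hb2, ← hmin]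
        exact Function.iterate_mod_minimalPeriod_eq
      exact hb' ▸ mem_image.mpr ⟨_, mem_range.mpr (Nat.mod_lt _ hq.pos), rfl⟩
    have hOne : O.Nonempty := ⟨a, mem_image.mpr ⟨0, mem_range.mpr hq.pos, rfl⟩⟩
    have hlt : S \ O ⊂ S := by
      refine (ssubset_iff_subset_ne).mpr ⟨sdiff_subset, fun h => ?_⟩
      obtain ⟨b, hb⟩ := hOne
      have := hOS hb
      rw [← h] at this
      exact (mem_sdiff.mp this).2 hb
    obtain ⟨β, hβ, he⟩ := ih _ hlt fun b hb => by
      rw [mem_sdiff] at hb ⊢
      exact ⟨hS b hb.1, fun h => hb.2 (hback b h)⟩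
    refine ⟨β + f a, hβ.add (hint a), ?_⟩
    have hfix : (S \ O).filter (fun b => σ b = b) = S.filter (fun b => σ b = b) := by
      ext b
      simp only [mem_filter, mem_sdiff]
      refine ⟨fun h => ⟨h.1.1, h.2⟩, fun h => ⟨⟨h.1, fun hb => ?_⟩, h.2⟩⟩
      obtain ⟨i, hi, rfl⟩ := mem_image.mp hb
      have h1 : σ^[i] (σ a) = σ^[i] a := by
        rw [← Function.iterate_succ_apply, Function.iterate_succ_apply']
        exact h.2
      have h2 := congrArg (σ^[q - i]) h1
      rw [← Function.iterate_add_apply, ← Function.iterate_add_apply,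
        Nat.sub_add_cancel (mem_range.mp hi).le, hσ, hσ] at h2
      exact hne h2
    have hsumO : ∑ b ∈ O, f b = (q : ℂ) * f a := by
      rw [hO, sum_image (fun i hi j hj h => hinj hi hj h),
        sum_congr rfl fun i _ => (hiter i).2, sum_const, card_range, nsmul_eq_mul]
    rw [hfix] at he
    rw [← sum_sdiff hOS, hsumO, mul_add, ← he]
    ring

variable {G : Type u} [Group G] [Fintype G] [DecidableEq G]

/-- The conjugacy class. -/
def cls (u : G) : Finset G := univ.image fun a => a * u * a⁻¹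

/-- The conjugates commuting with `y`. -/
def fixed (u y : G) : Finset G := (cls u).filter fun a => y * a = a * y

theorem mem_cls {u v : G} : v ∈ cls u ↔ IsConj u v := by
  simp [cls, isConj_iff]

theorem card_cls (u : G) :
    (cls u).card * Nat.card (Subgroup.centralizer ({u} : Set G)) = Nat.card G := by
  rw [← Complete.card_conjugates_mul_centralizer u]
  congr 1
  rw [← Fintype.card_coe, ← Nat.card_eq_fintype_card]
  exact Nat.card_congr (Equiv.subtypeEquivRight fun _ => mem_cls)

/-- The character sum over all pairs of conjugates. -/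
theorem sum_pairs (χ : Cfsg.IrrCharacter G) (u : G) :
    ∑ ab ∈ cls u ×ˢ cls u, (χ : G → ℂ) (ab.1 * ab.2) =
      ((cls u).card : ℂ) ^ 2 * (χ : G → ℂ) u ^ 2 / (deg χ : ℂ) := by
  classical
  set C0 := Nat.card (Subgroup.centralizer ({u} : Set G))
  have hfib : ∀ v ∈ cls u, (univ.filter fun a : G => a * u * a⁻¹ = v).card = C0 := by
    intro v hv
    obtain ⟨b, -, rfl⟩ := mem_image.mp hv
    rw [← Fintype.card_subtype, ← Nat.card_eq_fintype_card]
    refine Nat.card_congr ((Equiv.mulLeft b⁻¹).subtypeEquiv fun a => ?_)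
    rw [eq_comm]
    exact FixedSylow.conj_eq_iff
  have hclass : ∀ f : G → ℂ, ∑ a : G, f (a * u * a⁻¹) = (C0 : ℂ) * ∑ v ∈ cls u, f v := by
    intro f
    rw [← sum_fiberwise_of_maps_to (g := fun a => a * u * a⁻¹) (t := cls u)
      (fun a _ => mem_image_of_mem (fun a => a * u * a⁻¹) (mem_univ a)), mul_sum]
    refine sum_congr rfl fun v hv => ?_
    rw [sum_congr rfl (g := fun _ => f v) fun a ha => by rw [(mem_filter.mp ha).2],
      sum_const, hfib v hv, nsmul_eq_mul]
  have hcard : ((cls u).card : ℂ) * (C0 : ℂ) = (Nat.card G : ℂ) := by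
    exact_mod_cast card_cls u
  have hC0 : (C0 : ℂ) ≠ 0 := Nat.cast_ne_zero.mpr Nat.card_pos.ne'
  have hrow : ∀ v ∈ cls u, ∑ w ∈ cls u, (χ : G → ℂ) (v * w) =
      ((cls u).card : ℂ) * (χ : G → ℂ) u ^ 2 / (deg χ : ℂ) := by
    intro v hv
    apply mul_left_cancel₀ hC0
    rw [← hclass fun w => (χ : G → ℂ) (v * w), H80.ClassMult.sum_apply_mul_conj χ v u,
      classFunction_apply_of_isConj (isClassFunction_irr χ) (mem_cls.mp hv).symm, apply_one_eq,
      ← hcard]
    ring
  rw [sum_product, sum_congr rfl hrow, sum_const, nsmul_eq_mul]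
  ring

variable {q : ℕ} (hq : q.Prime) {y : G} (hy : y ^ q = 1) {u : G}

include hy in
theorem iterate_conj (a : G) : (fun b => y * b * y⁻¹)^[q] a = a := by
  have h : ∀ n : ℕ, (fun b => y * b * y⁻¹)^[n] a = y ^ n * a * (y ^ n)⁻¹ := fun n => by
    induction n with
    | zero => simp
    | succ n ih => rw [Function.iterate_succ_apply', ih, pow_succ']; group
  rw [h, hy, one_mul, inv_one, mul_one]

theorem conj_mem_cls {a : G} (h : a ∈ cls u) : y * a * y⁻¹ ∈ cls u :=
  mem_cls.mpr ((mem_cls.mp h).trans (isConj_iff.mpr ⟨y, rfl⟩))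

theorem filter_fixed : (cls u).filter (fun a => y * a * y⁻¹ = a) = fixed u y :=
  filter_congr fun _ _ => ⟨fun h => mul_inv_eq_iff_eq_mul.mp h, fun h => mul_inv_eq_iff_eq_mul.mpr h⟩

include hq hy in
/-- The class length and the number of conjugates commuting with `y`. -/
theorem card_cong : (q : ℤ) ∣ ((cls u).card : ℤ) - (fixed u y).card := by
  obtain ⟨β, hβ, he⟩ := sum_fixed_mod hq (fun b => y * b * y⁻¹) (iterate_conj hy) (fun _ => 1)
    (fun _ => rfl) (fun _ => isIntegral_one) (cls u) fun _ => conj_mem_cls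
  rw [filter_fixed, sum_const, sum_const, nsmul_one, nsmul_one] at he
  refine FirstPowerData.int_dvd_of_isIntegral hq.ne_zero ?_
  rw [Int.cast_sub, Int.cast_natCast, Int.cast_natCast, he,
    mul_div_cancel_left₀ _ (Nat.cast_ne_zero.mpr hq.ne_zero)]
  exact hβ

include hq hy in
/-- The square of the central character at a class, modulo `q`. -/
theorem omega_sq (χ : Cfsg.IrrCharacter G) {w o : ℤ} (hw : (χ : G → ℂ) u = w)
    (ho : deg χ * o = ((cls u).card : ℤ) * w) {T : ℤ}
    (hT : ∑ ab ∈ fixed u y ×ˢ fixed u y, (χ : G → ℂ) (ab.1 * ab.2) = T) :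
    (q : ℤ) ∣ deg χ * o ^ 2 - T := by
  let σ : G × G → G × G := fun ab => (y * ab.1 * y⁻¹, y * ab.2 * y⁻¹)
  have hσ : ∀ n ab, σ^[n] ab =
      ((fun b => y * b * y⁻¹)^[n] ab.1, (fun b => y * b * y⁻¹)^[n] ab.2) := fun n => by
    induction n with
    | zero => exact fun _ => rfl
    | succ n ih => exact fun ab => by rw [Function.iterate_succ_apply, ih]; rfl
  obtain ⟨β, hβ, he⟩ := sum_fixed_mod hq σ
    (fun ab => by rw [hσ, iterate_conj hy, iterate_conj hy])
    (fun ab => (χ : G → ℂ) (ab.1 * ab.2))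
    (fun ab => by
      simp only [σ]
      rw [show y * ab.1 * y⁻¹ * (y * ab.2 * y⁻¹) = y * (ab.1 * ab.2) * y⁻¹ by group]
      exact isClassFunction_irr χ (ab.1 * ab.2) y)
    (fun ab => isIntegral_apply (isCharacter_irr χ) _) (cls u ×ˢ cls u)
    (fun ab h => by
      rw [mem_product] at h ⊢
      exact ⟨conj_mem_cls h.1, conj_mem_cls h.2⟩)
  have hfix : (cls u ×ˢ cls u).filter (fun ab => σ ab = ab) = fixed u y ×ˢ fixed u y := by
    rw [← filter_fixed (y := y) (u := u), ← filter_product]
    exact filter_congr fun ab _ => by simp [σ, Prod.ext_iff]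
  rw [hfix, sum_pairs, hT, hw] at he
  have hd : (deg χ : ℂ) ≠ 0 := by
    rw [← apply_one_eq]; exact apply_one_ne_zero χ
  refine FirstPowerData.int_dvd_of_isIntegral hq.ne_zero ?_
  have ho' : (deg χ : ℂ) * (o : ℂ) = ((cls u).card : ℂ) * (w : ℂ) := by exact_mod_cast ho
  have h1 : ((cls u).card : ℂ) ^ 2 * (w : ℂ) ^ 2 / (deg χ : ℂ) = (deg χ : ℂ) * (o : ℂ) ^ 2 := by
    rw [eq_comm, eq_div_iff hd, ← mul_pow, ← ho']
    ring
  rw [h1] at he
  push_cast
  rw [he, mul_div_cancel_left₀ _ (Nat.cast_ne_zero.mpr hq.ne_zero)]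
  exact hβ

end Cfsg.Agent.Lib.RecogM23.Orbit
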