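import Cfsg.Agent.Lib.RecogM23.Table

/-!
Simple groups of order `10200960`: the three family relations in terms of the table.
-/

set_option autoImplicit false
set_option linter.style.haveILetI false
set_option linter.unusedSectionVars false

namespace Cfsg.Agent.Lib.RecogM23.Table

open Cfsg.Agent.Lib.Characters Cfsg.Agent.Lib.Characters.Basic
open Cfsg.Agent.Lib.Classif
open Cfsg.Agent.Lib.Classif.PrimeExceptional (deg apply_one_eq)
open Cfsg.Agent.Lib.RecogM22 (Pairs.T Pairs.T_eq_zero)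

universe u

variable {G : Type u} [Group G] [Finite G] [Fact (Nat.Prime 7)] [Fact (Nat.Prime 11)]
  [Fact (Nat.Prime 23)] (d : Data G)

/-- The value of the `i`th character. -/
noncomputable def Data.val (i : Fin 17) (g : G) : ℂ := (d.ch i : G → ℂ) g

theorem Data.sum_eq [Fintype (Cfsg.IrrCharacter G)] {M : Type} [AddCommMonoid M]
    (f : Cfsg.IrrCharacter G → M) : ∑ χ, f χ = ∑ i, f (d.ch i) :=
  (Fintype.sum_bijective d.ch d.bij _ _ fun _ => rfl).symm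

theorem Data.ne {i j : Fin 17} (h : i ≠ j) : d.ch i ≠ d.ch j := fun e => h (d.bij.1 e)

/-- A member's signed sum at `11`. -/
theorem Data.sum11 (f : Cfsg.IrrCharacter G → ℂ) :
    ∑ χ ∈ d.F.D.K, (d.F.D.a χ : ℂ) * f χ =
      f (d.ch 2) + f (d.ch 3) - f (d.ch 4) + f (d.ch 15) := by
  classical
  rw [show d.F.D.K = {d.ch 2, d.ch 3, d.ch 4, d.ch 15} by ext χ; simp [d.K11 χ]]
  obtain ⟨a2, a3, a4, a15, -⟩ := d.a11
  simp [Finset.sum_insert, d.bij.1.eq_iff, a2, a3, a4, a15]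
  ring

/-- A member's signed sum at `7`. -/
theorem Data.sum7 (f : Cfsg.IrrCharacter G → ℂ) :
    ∑ χ ∈ d.S.D.K, (d.S.D.a χ : ℂ) * f χ = -f (d.ch 15) + f (d.ch 16) := by
  classical
  rw [show d.S.D.K = {d.ch 15, d.ch 16} by ext χ; simp [d.K7 χ]]
  obtain ⟨a15, a16, -⟩ := d.a7
  simp [Finset.sum_insert, d.bij.1.eq_iff, a15, a16]

/-- A member's signed sum at `23`. -/
theorem Data.sum23 (f : Cfsg.IrrCharacter G → ℂ) :
    ∑ χ ∈ d.T.D.K, (d.T.D.a χ : ℂ) * f χ =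
      -f (d.ch 1) - f (d.ch 2) - f (d.ch 3) + f (d.ch 5) + f (d.ch 6) + f (d.ch 7) - f (d.ch 11) -
        f (d.ch 12) + f (d.ch 13) + f (d.ch 14) := by
  classical
  rw [show d.T.D.K = {d.ch 1, d.ch 2, d.ch 3, d.ch 5, d.ch 6, d.ch 7, d.ch 11, d.ch 12, d.ch 13,
    d.ch 14} by ext χ; simp [d.K23 χ]]
  obtain ⟨b1, b2, b3, b5, b6, b7, b11, b12, b13, b14, -⟩ := d.a23
  simp [Finset.sum_insert, d.bij.1.eq_iff, b1, b2, b3, b5, b6, b7, b11, b12, b13, b14]
  ring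

/-- The relation at `11`. -/
theorem Data.rel11 {g : G} (hg : ¬ 11 ∣ orderOf g) :
    1 + d.val 2 g + d.val 3 g - d.val 4 g + d.val 15 g = d.val 11 g ∧ d.val 12 g = d.val 11 g := by
  have h11 := d.F.D.fam_regular (d.ch 11) ((d.fam11 _).mpr (Or.inl rfl)) g hg
  have h12 := d.F.D.fam_regular (d.ch 12) ((d.fam11 _).mpr (Or.inr rfl)) g hg
  have h := d.F.D.rel g hg
  rw [d.sum11 fun χ => (χ : G → ℂ) g, d.a11.2.2.2.2, Int.cast_one, one_mul] at h
  refine ⟨?_, h12.trans h11.symm⟩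
  rw [Data.val, Data.val, Data.val, Data.val, Data.val, h11, ← h]
  ring

/-- The relation at `7`. -/
theorem Data.rel7 {g : G} (hg : ¬ 7 ∣ orderOf g) :
    1 - d.val 15 g + d.val 16 g = d.val 13 g ∧ d.val 14 g = d.val 13 g := by
  have h13 := d.S.D.fam_regular (d.ch 13) ((d.fam7 _).mpr (Or.inl rfl)) g hg
  have h14 := d.S.D.fam_regular (d.ch 14) ((d.fam7 _).mpr (Or.inr rfl)) g hg
  have h := d.S.D.rel g hg
  rw [d.sum7 fun χ => (χ : G → ℂ) g, d.a7.2.2, Int.cast_one, one_mul] at h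
  refine ⟨?_, h14.trans h13.symm⟩
  rw [Data.val, Data.val, Data.val, h13, ← h]
  ring

/-- The relation at `23`. -/
theorem Data.rel23 {g : G} (hg : ¬ 23 ∣ orderOf g) :
    1 - d.val 1 g - d.val 2 g - d.val 3 g + d.val 5 g + d.val 6 g + d.val 7 g - d.val 11 g -
        d.val 12 g + d.val 13 g + d.val 14 g = d.val 9 g ∧ d.val 10 g = d.val 9 g := by
  have h9 := d.T.D.fam_regular (d.ch 9) ((d.fam23 _).mpr (Or.inl rfl)) g hg
  have h10 := d.T.D.fam_regular (d.ch 10) ((d.fam23 _).mpr (Or.inr rfl)) g hg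
  have h := d.T.D.rel g hg
  rw [d.sum23 fun χ => (χ : G → ℂ) g, d.a23.2.2.2.2.2.2.2.2.2.2, Int.cast_one, one_mul] at h
  refine ⟨?_, h10.trans h9.symm⟩
  simp only [Data.val]
  rw [h9, ← h]
  ring

/-- The mixed sum at `11`. -/
theorem Data.T11 (g g' : G) (h : ¬ 11 ∣ orderOf g) (h' : ¬ 11 ∣ orderOf g') :
    Pairs.T d.F.D g g' = 1 + d.val 2 g * d.val 2 g' / 45 + d.val 3 g * d.val 3 g' / 45 -
      d.val 4 g * d.val 4 g' / 230 + d.val 15 g * d.val 15 g' / 1035 -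
      d.val 11 g * d.val 11 g' / 896 := by
  have hm : d.ch 11 ∈ d.F.D.fam := (d.fam11 _).mpr (Or.inl rfl)
  have hd : deg d.F.D.θ = 896 := (d.F.D.fam_deg _ hm).symm.trans (d.deg_eq 11)
  rw [Pairs.T, d.sum11 fun χ => (χ : G → ℂ) g * (χ : G → ℂ) g' / (deg χ : ℂ),
    d.a11.2.2.2.2, hd, Int.cast_one, one_mul, ← d.F.D.fam_regular _ hm g h,
    ← d.F.D.fam_regular _ hm g' h', show deg (d.ch 2) = 45 from d.deg_eq 2,
    show deg (d.ch 3) = 45 from d.deg_eq 3, show deg (d.ch 4) = 230 from d.deg_eq 4,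
    show deg (d.ch 15) = 1035 from d.deg_eq 15]
  simp only [Data.val]
  norm_num
  ring

/-- The mixed sum at `7`. -/
theorem Data.T7 (g g' : G) (h : ¬ 7 ∣ orderOf g) (h' : ¬ 7 ∣ orderOf g') :
    Pairs.T d.S.D g g' = 1 - d.val 15 g * d.val 15 g' / 1035 + d.val 16 g * d.val 16 g' / 2024 -
      d.val 13 g * d.val 13 g' / 990 := by
  have hm : d.ch 13 ∈ d.S.D.fam := (d.fam7 _).mpr (Or.inl rfl)
  have hd : deg d.S.D.θ = 990 := (d.S.D.fam_deg _ hm).symm.trans (d.deg_eq 13)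
  rw [Pairs.T, d.sum7 fun χ => (χ : G → ℂ) g * (χ : G → ℂ) g' / (deg χ : ℂ),
    d.a7.2.2, hd, Int.cast_one, one_mul, ← d.S.D.fam_regular _ hm g h,
    ← d.S.D.fam_regular _ hm g' h', show deg (d.ch 15) = 1035 from d.deg_eq 15,
    show deg (d.ch 16) = 2024 from d.deg_eq 16]
  simp only [Data.val]
  norm_num
  ring

end Cfsg.Agent.Lib.RecogM23.Table
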