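import Cfsg.Agent.Lib.RecogThree.M11.Rep

/-!
Scott's inequality for two elements of a representation, in terms of averages.
-/

set_option autoImplicit false
set_option linter.style.haveILetI false
set_option linter.unusedSectionVars false

namespace Cfsg.Agent.Lib.RecogM23.Scott

open Cfsg.Agent.Lib.RecogThree.M11 (Rep.avg Rep.avg_idem Rep.rho_mul_avg Rep.trace_idem)

universe u v

variable {G : Type u} [Group G] [Finite G] {V : Type v} [AddCommGroup V] [Module ℂ V]
  [FiniteDimensional ℂ V] (ρ : Representation ℂ G V)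

/-- An average commutes with its element. -/
theorem avg_mul_rho {g : G} {n : ℕ} (hg : g ^ n = 1) :
    Rep.avg ρ g n * ρ g = Rep.avg ρ g n := by
  refine Eq.trans ?_ (Rep.rho_mul_avg ρ hg)
  rw [Rep.avg, smul_mul_assoc, mul_smul_comm, Finset.sum_mul, Finset.mul_sum]
  congr 1
  refine Finset.sum_congr rfl fun i _ => ?_
  rw [← map_mul, ← map_mul, (Commute.pow_self g i).eq]

/-- The rank of `1 - ρ g` from the trace of the average. -/
theorem finrank_range_add_le {g : G} {n m : ℕ} (hn : n ≠ 0) (hg : g ^ n = 1)
    (htr : LinearMap.trace ℂ V (Rep.avg ρ g n) = (m : ℂ)) :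
    Module.finrank ℂ (LinearMap.range (1 - ρ g)) + m ≤ Module.finrank ℂ V := by
  set E := Rep.avg ρ g n
  have hE : E * E = E := Rep.avg_idem ρ hn hg
  rw [Rep.trace_idem E hE, Nat.cast_inj] at htr
  have hle : LinearMap.range (1 - ρ g) ≤ LinearMap.ker E := by
    rintro _ ⟨v, rfl⟩
    rw [LinearMap.mem_ker, ← Module.End.mul_apply, mul_sub, mul_one, avg_mul_rho ρ hg, sub_self,
      LinearMap.zero_apply]
  have h1 := Submodule.finrank_mono hle
  have h2 := LinearMap.finrank_range_add_finrank_ker E
  omega

/-- Two elements with small enough ranks fix a common vector. -/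
theorem exists_fixed (a b : G)
    (hlt : Module.finrank ℂ (LinearMap.range (1 - ρ a)) +
      Module.finrank ℂ (LinearMap.range (1 - ρ b)) +
      Module.finrank ℂ (LinearMap.range (1 - ρ (a * b))) < 2 * Module.finrank ℂ V) :
    ∃ w : V, w ≠ 0 ∧ ∀ g ∈ Subgroup.closure ({a, b} : Set G), ρ g w = w := by
  classical
  by_contra hne
  push Not at hne
  set A := 1 - ρ a
  set B := 1 - ρ b
  set C := 1 - ρ (a * b)
  set H := Subgroup.closure ({a, b} : Set G)
  haveI := Fintype.ofFinite H
  set U := LinearMap.range A ⊔ LinearMap.range B with hU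
  -- the sum of the two ranges is everything
  have hmem : ∀ g ∈ H, ∀ v : V, v - ρ g v ∈ U := by
    intro g hg
    induction hg using Subgroup.closure_induction with
    | mem g hg =>
      intro v
      rcases hg with rfl | rfl
      · exact Submodule.mem_sup_left ⟨v, rfl⟩
      · exact Submodule.mem_sup_right ⟨v, rfl⟩
    | one => intro v; simp
    | mul g g' _ _ ih ih' =>
      intro v
      rw [map_mul, Module.End.mul_apply,
        show v - ρ g (ρ g' v) = (v - ρ g' v) + (ρ g' v - ρ g (ρ g' v)) by abel]
      exact U.add_mem (ih' v) (ih _)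
    | inv g _ ih =>
      intro v
      have h1 : ρ g (ρ g⁻¹ v) = v := by
        rw [← Module.End.mul_apply, ← map_mul, mul_inv_cancel, map_one, Module.End.one_apply]
      have := U.neg_mem (ih (ρ g⁻¹ v))
      rwa [h1, neg_sub] at this
  have hfix : ∀ v : V, ∑ g : H, ρ (g : G) v = 0 := by
    intro v
    by_contra hv
    obtain ⟨g, hg, hne'⟩ := hne _ hv
    refine hne' ?_
    rw [map_sum]
    refine Fintype.sum_equiv (Equiv.mulLeft (⟨g, hg⟩ : H)) _ _ fun k => ?_
    rw [← Module.End.mul_apply, ← map_mul]
    rfl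
  have htop : U = ⊤ := by
    rw [eq_top_iff]
    intro v _
    have h1 : ∑ g : H, (v - ρ (g : G) v) ∈ U := U.sum_mem fun g _ => hmem g g.2 v
    rw [Finset.sum_sub_distrib, hfix, sub_zero, Finset.sum_const, Finset.card_univ,
      ← Nat.cast_smul_eq_nsmul ℂ] at h1
    have h2 := U.smul_mem ((Fintype.card H : ℂ))⁻¹ h1
    rwa [smul_smul, inv_mul_cancel₀ (Nat.cast_ne_zero.mpr Fintype.card_ne_zero), one_smul] at h2
  -- the two maps
  let δ : (LinearMap.range A × LinearMap.range B × LinearMap.range C) →ₗ[ℂ] V :=
    (LinearMap.range A).subtype.coprod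
      ((LinearMap.range B).subtype.coprod (-(LinearMap.range C).subtype))
  let β : V →ₗ[ℂ] (LinearMap.range A × LinearMap.range B × LinearMap.range C) :=
    (A.rangeRestrict.comp (ρ b)).prod (B.rangeRestrict.prod C.rangeRestrict)
  have hδβ : LinearMap.range β ≤ LinearMap.ker δ := by
    rintro _ ⟨v, rfl⟩
    rw [LinearMap.mem_ker]
    show A (ρ b v) + (B v + -C v) = 0
    simp only [A, B, C, LinearMap.sub_apply, Module.End.one_apply, map_mul, Module.End.mul_apply]
    abel
  have hδ : LinearMap.range δ = ⊤ := by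
    rw [eq_top_iff, ← htop]
    refine sup_le ?_ ?_
    · intro x hx; exact ⟨(⟨x, hx⟩, 0, 0), by simp [δ]⟩
    · intro x hx; exact ⟨(0, ⟨x, hx⟩, 0), by simp [δ]⟩
  have hβ : Function.Injective β := by
    rw [← LinearMap.ker_eq_bot, Submodule.eq_bot_iff]
    intro v hv
    rw [LinearMap.mem_ker] at hv
    have hB : B v = 0 := congrArg (fun t => ((t.2.1 : LinearMap.range B) : V)) hv
    have hA : A (ρ b v) = 0 := congrArg (fun t => ((t.1 : LinearMap.range A) : V)) hv
    simp only [A, B, LinearMap.sub_apply, Module.End.one_apply, sub_eq_zero] at hA hB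
    rw [← hB] at hA
    by_contra hv0
    obtain ⟨g, hg, hne'⟩ := hne v hv0
    refine hne' ?_
    clear hne'
    induction hg using Subgroup.closure_induction with
    | mem g hg =>
      rcases hg with rfl | rfl
      · exact hA.symm
      · exact hB.symm
    | one => simp
    | mul g g' _ _ ih ih' => rw [map_mul, Module.End.mul_apply, ih', ih]
    | inv g _ ih =>
      conv_lhs => rw [← ih]
      rw [← Module.End.mul_apply, ← map_mul, inv_mul_cancel, map_one, Module.End.one_apply]
  have h1 := LinearMap.finrank_range_add_finrank_ker δ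
  have h2 := Submodule.finrank_mono hδβ
  have h3 := LinearMap.finrank_range_of_inj hβ
  rw [hδ, finrank_top, Module.finrank_prod, Module.finrank_prod] at h1
  omega

end Cfsg.Agent.Lib.RecogM23.Scott
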