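import Cfsg.Agent.Lib.RecogM23.Orbit
import Cfsg.Agent.Lib.SmallGroups.Sylow
import Cfsg.Agent.Lib.PGroups.Omega

/-!
An involution central in the centraliser of a Sylow subgroup, with one or three conjugates there.
-/

set_option autoImplicit false
set_option linter.style.haveILetI false
set_option linter.unusedSectionVars false

namespace Cfsg.Agent.Lib.RecogM23.Central

open Cfsg.Agent.Lib.SmallGroups

universe u

variable {G : Type u} [Group G] [Fintype G] [DecidableEq G]

/-- The conjugates of an element of the centraliser that lie there come from the normaliser. -/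
theorem mem_fixed {p : ℕ} [Fact p.Prime] (R : Sylow p G) {y : G} (hy : y ∈ (R : Subgroup G))
    (hgen : Subgroup.zpowers y = (R : Subgroup G)) {x : G}
    (hx : x ∈ Subgroup.centralizer ((R : Subgroup G) : Set G)) {a : G} :
    a ∈ Orbit.fixed x y ↔
      ∃ n ∈ Subgroup.normalizer ((R : Subgroup G) : Set G), n * x * n⁻¹ = a := by
  constructor
  · intro ha
    obtain ⟨hcl, hcomm⟩ := Finset.mem_filter.mp ha
    obtain ⟨g, rfl⟩ := isConj_iff.mp (Orbit.mem_cls.mp hcl)
    have hmem : g * x * g⁻¹ ∈ Subgroup.centralizer ((R : Subgroup G) : Set G) := by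
      rw [Subgroup.mem_centralizer_iff]
      intro w hw
      rw [SetLike.mem_coe, ← hgen] at hw
      obtain ⟨i, rfl⟩ := Subgroup.mem_zpowers_iff.mp hw
      exact (Commute.zpow_left hcomm i).eq
    obtain ⟨n, hn, he⟩ := R.conj_eq_normalizer_conj_of_mem_centralizer x g⁻¹ hx
      (by rwa [inv_inv])
    rw [inv_inv] at he
    exact ⟨n⁻¹, inv_mem hn, by rw [inv_inv, he]⟩
  · rintro ⟨n, hn, rfl⟩
    refine Finset.mem_filter.mpr ⟨Orbit.mem_cls.mpr (isConj_iff.mpr ⟨n, rfl⟩), ?_⟩
    have h1 : n⁻¹ * y * n ∈ (R : Subgroup G) := by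
      have := (Subgroup.mem_normalizer_iff'.mp hn (n⁻¹ * y)).mpr
      simpa [mul_assoc] using this (by simpa [mul_assoc] using hy)
    have h2 := Subgroup.mem_centralizer_iff.mp hx _ h1
    calc y * (n * x * n⁻¹) = n * (n⁻¹ * y * n * x) * n⁻¹ := by group
      _ = n * x * n⁻¹ * y := by rw [h2]; group

theorem exists_central {e a : ℕ} (R : Sylow 7 G) [Fact (Nat.Prime 7)]
    (hR : Nat.card (R : Subgroup G) = 7) (ha : a ≠ 0)
    (hC : Nat.card (Subgroup.centralizer ((R : Subgroup G) : Set G)) = 7 * 2 ^ a)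
    (hrel : (Subgroup.centralizer ((R : Subgroup G) : Set G)).relIndex
      (Subgroup.normalizer ((R : Subgroup G) : Set G)) = e) (he : e = 3 ∨ e = 6) :
    ∃ u y : G, orderOf u = 2 ∧ orderOf y = 7 ∧ y ∈ (R : Subgroup G) ∧
      Subgroup.centralizer ((R : Subgroup G) : Set G) ≤ Subgroup.centralizer ({u} : Set G) ∧
      (Orbit.fixed u y = {u} ∨ ∃ b d, Orbit.fixed u y = {b, d, b * d} ∧ b * d = d * b ∧
        (Orbit.fixed u y).card = 3 ∧ b * b = 1 ∧ d * d = 1) := by
  classical
  haveI : Fact (Nat.Prime 2) := ⟨Nat.prime_two⟩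
  set C := Subgroup.centralizer ((R : Subgroup G) : Set G) with hCdef
  set N := Subgroup.normalizer ((R : Subgroup G) : Set G) with hNdef
  have hN : Nat.card N = 7 * 2 ^ a * e := by
    rw [hNdef, ← Sylow.card_centralizer_mul_relIndex, hC, hrel]
  obtain ⟨⟨y, hyR⟩, hy⟩ := exists_prime_orderOf_dvd_card' (G := (R : Subgroup G)) 7 (by rw [hR])
  rw [Subgroup.orderOf_mk] at hy
  have hgen : Subgroup.zpowers y = (R : Subgroup G) :=
    Subgroup.eq_of_le_of_card_ge (Subgroup.zpowers_le.mpr hyR) (by rw [hR, Nat.card_zpowers, hy])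
  have hconjC : ∀ n ∈ N, ∀ x ∈ C, n * x * n⁻¹ ∈ C := by
    intro n hn x hx
    rw [hCdef, Subgroup.mem_centralizer_iff]
    intro w hw
    have h1 : n⁻¹ * w * n ∈ (R : Subgroup G) := by
      have := (Subgroup.mem_normalizer_iff'.mp hn (n⁻¹ * w)).mpr
      simpa [mul_assoc] using this (by simpa [mul_assoc] using SetLike.mem_coe.mp hw)
    have h2 := Subgroup.mem_centralizer_iff.mp hx _ h1
    calc w * (n * x * n⁻¹) = n * (n⁻¹ * w * n * x) * n⁻¹ := by group
      _ = n * x * n⁻¹ * w := by rw [h2]; group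
  have hCN : C ≤ N := by
    intro x hx
    rw [hNdef, Subgroup.mem_normalizer_iff]
    intro w
    constructor
    · intro hw
      rwa [← Subgroup.mem_centralizer_iff.mp hx w hw, mul_inv_cancel_right]
    · intro hw
      have h1 := Subgroup.mem_centralizer_iff.mp hx _ hw
      have h2 : w = x * w * x⁻¹ := by
        refine mul_left_cancel (a := x) ?_
        rw [← h1]
        group
      rw [h2]; exact hw
  haveI : (C.subgroupOf N).Normal := ⟨fun x hx n => by
    rw [Subgroup.mem_subgroupOf] at hx ⊢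
    exact hconjC n n.2 x hx⟩
  -- a Sylow subgroup of order two of the normaliser
  have hC' : Nat.card (C.subgroupOf N) = 7 * 2 ^ a := by
    rw [Nat.card_congr (Subgroup.subgroupOfEquivOfLe hCN).toEquiv, hC]
  obtain ⟨P₀, hP₀⟩ := Sylow.exists_subgroup_card_pow_prime 2
    (show 2 ^ a ∣ Nat.card (C.subgroupOf N) by rw [hC']; exact dvd_mul_left _ _)
  set P₁ := P₀.map (C.subgroupOf N).subtype with hP₁def
  have hP₁ : Nat.card P₁ = 2 ^ a := by
    rw [hP₁def, Nat.card_congr (P₀.equivMapOfInjective _ Subtype.coe_injective).symm.toEquiv, hP₀]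
  have hP₁C : P₁ ≤ C.subgroupOf N := Subgroup.map_subtype_le P₀
  obtain ⟨T, hT⟩ := (IsPGroup.of_card hP₁ : IsPGroup 2 P₁).exists_le_sylow
  set W := (C.subgroupOf N).subgroupOf (T : Subgroup N)
  have hWne : W ≠ ⊥ := by
    intro hbot
    rw [Subgroup.subgroupOf_eq_bot, disjoint_iff] at hbot
    have h1 : P₁ ≤ ⊥ := hbot ▸ le_inf hP₁C hT
    rw [le_bot_iff] at h1
    rw [h1, Subgroup.card_bot] at hP₁
    have := Nat.one_lt_two_pow ha
    omega
  have hne := Cfsg.Agent.Lib.PGroups.normal_inf_center_ne_bot T.2 W hWne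
  haveI := (Subgroup.nontrivial_iff_ne_bot _).mpr hne
  obtain ⟨n₂, hn₂, hc₂⟩ := (T.2.to_subgroup (W ⊓ Subgroup.center _)).nontrivial_iff_card.mp
    inferInstance
  obtain ⟨u₀, hu₀⟩ := exists_prime_orderOf_dvd_card'
    (G := (W ⊓ Subgroup.center (T : Subgroup N) : Subgroup (T : Subgroup N))) 2
    (hc₂ ▸ dvd_pow_self 2 (by omega))
  set u : G := (((u₀ : (T : Subgroup N)) : N) : G) with hudef
  have hu : orderOf u = 2 := by
    rw [hudef, Subgroup.orderOf_coe, Subgroup.orderOf_coe, Subgroup.orderOf_coe, hu₀]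
  have huC : u ∈ C := u₀.2.1
  have huT : ∀ t : N, t ∈ (T : Subgroup N) → Commute (t : G) u := fun t ht =>
    congrArg (fun z : (T : Subgroup N) => ((z : N) : G))
      (Subgroup.mem_center_iff.mp u₀.2.2 ⟨t, ht⟩)
  have hyu : Commute y u := Subgroup.mem_centralizer_iff.mp huC y hyR
  -- `u` is central in the centraliser
  have hle : C ≤ Subgroup.centralizer ({u} : Set G) := by
    refine inf_eq_right.mp (Subgroup.eq_of_le_of_card_ge inf_le_right ?_)
    rw [hC]
    refine Nat.le_of_dvd Nat.card_pos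
      (Nat.Coprime.mul_dvd_of_dvd_of_dvd ((by norm_num : Nat.Coprime 7 2).pow_right a) ?_ ?_)
    · refine dvd_trans (dvd_of_eq hR.symm) (Subgroup.card_dvd_of_le (le_inf ?_ ?_))
      · rw [← hgen, Subgroup.zpowers_le]
        exact Subgroup.mem_centralizer_singleton_iff.mpr hyu.eq
      · haveI := isCyclic_of_prime_card hR
        intro x hx
        rw [hCdef, Subgroup.mem_centralizer_iff]
        intro w hw
        haveI : IsMulCommutative (R : Subgroup G) := IsCyclic.isMulCommutative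
        exact congrArg Subtype.val (mul_comm' (⟨w, hw⟩ : (R : Subgroup G)) ⟨x, hx⟩)
    · have h2 : P₁.map N.subtype ≤ Subgroup.centralizer ({u} : Set G) ⊓ C := by
        rintro x ⟨p, hp, rfl⟩
        exact ⟨Subgroup.mem_centralizer_singleton_iff.mpr (huT p (hT hp)).eq, hP₁C hp⟩
      refine dvd_trans (dvd_of_eq ?_) (Subgroup.card_dvd_of_le h2)
      rw [Nat.card_congr (P₁.equivMapOfInjective _ Subtype.coe_injective).symm.toEquiv, hP₁]
  -- the orbit of `u`
  have huN : u ∈ N := hCN huC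
  set S := (Subgroup.centralizer ({u} : Set G)).subgroupOf N with hSdef
  have hS : Nat.card S = Nat.card N ∨ 3 * Nat.card S = Nat.card N := by
    have h7 : 7 * 2 ^ a ∣ Nat.card S :=
      hC' ▸ Subgroup.card_dvd_of_le fun x hx => by
        rw [hSdef, Subgroup.mem_subgroupOf]; exact hle hx
    have h2 : Nat.card (T : Subgroup N) ∣ Nat.card S :=
      Subgroup.card_dvd_of_le fun x hx => by
        rw [hSdef, Subgroup.mem_subgroupOf]
        exact Subgroup.mem_centralizer_singleton_iff.mpr (huT x hx).eq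
    have hd := S.card_subgroup_dvd_card
    rw [hN] at hd ⊢
    obtain ⟨q, hq⟩ := h7
    have hq0 : 0 < q := by
      rcases Nat.eq_zero_or_pos q with rfl | h0
      · have := Nat.card_pos (α := S); omega
      · exact h0
    have hqe : q ∣ e := by
      rw [hq] at hd
      exact Nat.dvd_of_mul_dvd_mul_left (Nat.mul_pos (by norm_num) (pow_pos (by norm_num) a)) hd
    have hq2 : e = 6 → 2 ∣ q := by
      intro he6
      have h3 : 2 ^ (a + 1) ∣ Nat.card (T : Subgroup N) :=
        Sylow.pow_dvd_card_of_pow_dvd_card T ⟨21, by rw [hN, he6]; ring⟩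
      have h4 := h3.trans h2
      rw [hq, pow_succ, show 7 * 2 ^ a * q = 2 ^ a * (7 * q) by ring] at h4
      have h5 := Nat.dvd_of_mul_dvd_mul_left (pow_pos (by norm_num) a) h4
      omega
    have hqv : q = e ∨ 3 * q = e := by
      have := Nat.le_of_dvd (by omega) hqe
      rcases he with rfl | rfl
      · interval_cases q <;> simp_all
      · have := hq2 rfl
        interval_cases q <;> simp_all
    rw [hq]
    rcases hqv with rfl | rfl
    · exact Or.inl rfl
    · exact Or.inr (by ring)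
  have hmf : ∀ {x : G}, x ∈ C → ∀ {b : G},
      (b ∈ Orbit.fixed x y ↔ ∃ n ∈ N, n * x * n⁻¹ = b) := fun hx => mem_fixed R hyR hgen hx
  have hcard : (Orbit.fixed u y).card * Nat.card S = Nat.card N := by
    have h1 := Orbit.card_cls (⟨u, huN⟩ : N)
    have h2 : Subgroup.centralizer ({(⟨u, huN⟩ : N)} : Set N) = S := by
      ext x
      rw [hSdef, Subgroup.mem_subgroupOf, Subgroup.mem_centralizer_singleton_iff,
        Subgroup.mem_centralizer_singleton_iff, Subtype.ext_iff]
      rfl
    rw [h2] at h1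
    rw [← h1]
    congr 1
    rw [← Finset.card_map (Function.Embedding.subtype (fun x => x ∈ N))]
    congr 1
    ext b
    rw [hmf huC, Finset.mem_map]
    constructor
    · rintro ⟨n, hn, rfl⟩
      exact ⟨⟨n, hn⟩ * ⟨u, huN⟩ * (⟨n, hn⟩ : N)⁻¹,
        Finset.mem_image.mpr ⟨⟨n, hn⟩, Finset.mem_univ _, rfl⟩, rfl⟩
    · rintro ⟨z, hz, rfl⟩
      obtain ⟨n, -, rfl⟩ := Finset.mem_image.mp hz
      exact ⟨n, n.2, rfl⟩
  have hself : u ∈ Orbit.fixed u y := (hmf huC).mpr ⟨1, one_mem N, by group⟩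
  rcases hS with hS | hS
  · refine ⟨u, y, hu, hy, hyR, hle, Or.inl ?_⟩
    have h1 : (Orbit.fixed u y).card = 1 := by
      rw [hS] at hcard
      exact Nat.eq_of_mul_eq_mul_right Nat.card_pos (by rw [one_mul]; exact hcard)
    obtain ⟨b, hb⟩ := Finset.card_eq_one.mp h1
    rw [hb, Finset.mem_singleton] at hself
    rw [hb, hself]
  have h3 : (Orbit.fixed u y).card = 3 := by
    rw [← hS] at hcard
    exact Nat.eq_of_mul_eq_mul_right Nat.card_pos hcard
  -- the three conjugates are central involutions of the centraliser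
  have hK : ∀ b ∈ Orbit.fixed u y, b ∈ C ∧ b * b = 1 ∧ ∀ x ∈ C, Commute x b := by
    intro b hb
    obtain ⟨n, hn, rfl⟩ := (hmf huC).mp hb
    refine ⟨hconjC n hn u huC, ?_, fun x hx => ?_⟩
    · have h2 : u * u = 1 := by rw [← pow_two, ← hu, pow_orderOf_eq_one]
      calc n * u * n⁻¹ * (n * u * n⁻¹) = n * (u * u) * n⁻¹ := by group
        _ = 1 := by rw [h2]; group
    · have h1 : n⁻¹ * x * n ∈ C := by
        simpa using hconjC n⁻¹ (inv_mem hn) x hx
      have h2 := Subgroup.mem_centralizer_singleton_iff.mp (hle h1)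
      show x * (n * u * n⁻¹) = n * u * n⁻¹ * x
      calc x * (n * u * n⁻¹) = n * (n⁻¹ * x * n * u) * n⁻¹ := by group
        _ = n * u * n⁻¹ * x := by rw [h2]; group
  obtain ⟨b, d, f, hbd, hbf, hdf, hset⟩ := Finset.card_eq_three.mp h3
  obtain ⟨hbC, hb2, hbc⟩ := hK b (by rw [hset]; simp)
  obtain ⟨hdC, hd2, hdc⟩ := hK d (by rw [hset]; simp)
  obtain ⟨hfC, hf2, hfc⟩ := hK f (by rw [hset]; simp)
  have hbdc : Commute b d := hdc b hbC
  have hbfc : Commute b f := hfc b hbC
  have hdfc : Commute d f := hfc d hdC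
  by_cases hp : b * d * f = 1
  · refine ⟨u, y, hu, hy, hyR, hle, Or.inr ⟨b, d, ?_, hbdc.eq, h3, hb2, hd2⟩⟩
    have hf : f = b * d := by
      have h1 : f = (b * d)⁻¹ := (inv_eq_of_mul_eq_one_right hp).symm
      rw [h1, inv_eq_iff_mul_eq_one, mul_assoc, ← mul_assoc d, ← hbdc.eq, mul_assoc b d d, hd2,
        mul_one, hb2]
    rw [hset, hf]
  set pp := b * d * f with hpdef
  have hpC : pp ∈ C := mul_mem (mul_mem hbC hdC) hfC
  have hp2 : pp * pp = 1 := by
    rw [hpdef, Commute.mul_mul_mul_comm (Commute.mul_right hbfc.symm hdfc.symm),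
      hbdc.symm.mul_mul_mul_comm, hb2, hd2, hf2]
    group
  have hpfix : ∀ n ∈ N, n * pp * n⁻¹ = pp := by
    intro n hn
    have hmaps : (Orbit.fixed u y).image (fun x => n * x * n⁻¹) = Orbit.fixed u y := by
      refine Finset.eq_of_subset_of_card_le ?_ ?_
      · intro x hx
        obtain ⟨z, hz, rfl⟩ := Finset.mem_image.mp hx
        obtain ⟨m, hm, rfl⟩ := (hmf huC).mp hz
        exact (hmf huC).mpr ⟨n * m, mul_mem hn hm, by group⟩
      · rw [Finset.card_image_of_injective _ fun x z hxz => mul_left_cancel (mul_right_cancel hxz)]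
    have hinj : Function.Injective fun x => n * x * n⁻¹ :=
      fun x z hxz => mul_left_cancel (mul_right_cancel hxz)
    have hperm : List.Perm [b, d, f] [n * b * n⁻¹, n * d * n⁻¹, n * f * n⁻¹] := by
      refine (List.perm_ext_iff_of_nodup ?_ ?_).mpr fun x => ?_
      · simp [hbd, hbf, hdf]
      · simp [hbd, hbf, hdf]
      · have := congrArg (x ∈ ·) hmaps
        simp [hset, eq_comm] at this
        simpa [eq_comm] using this
    have hprod := List.Perm.prod_eq' hperm (by simp [hbdc, hbfc, hdfc])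
    simp only [List.prod_cons, List.prod_nil, mul_one] at hprod
    calc n * pp * n⁻¹ = n * b * n⁻¹ * (n * d * n⁻¹ * (n * f * n⁻¹)) := by rw [hpdef]; group
      _ = pp := by rw [← hprod, hpdef, mul_assoc]
  refine ⟨pp, y, orderOf_eq_prime (by rw [pow_two, hp2]) hp, hy, hyR, ?_, Or.inl ?_⟩
  · intro x hx
    exact Subgroup.mem_centralizer_singleton_iff.mpr
      (((hbc x hx).mul_right (hdc x hx)).mul_right (hfc x hx)).eq
  · ext z
    rw [hmf hpC, Finset.mem_singleton]
    refine ⟨?_, fun hz => ⟨1, one_mem N, by rw [hz]; group⟩⟩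
    rintro ⟨n, hn, rfl⟩
    exact hpfix n hn

end Cfsg.Agent.Lib.RecogM23.Central
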