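import Cfsg.Agent.Lib.RecogM23.Local7
import Cfsg.Agent.Lib.RecogM23.CertFive
import Cfsg.Agent.Lib.RecogM23.Conj
import Cfsg.Agent.Lib.RecogM23.Tools2
import Cfsg.Agent.Lib.RecogM23.FixedSpace

/-!
Simple groups of order `10200960`: with index six at the prime `7`, five does not divide the
centraliser, as seen from a character of degree `11` at the prime `5`.
-/

set_option autoImplicit false
set_option linter.style.haveILetI false
set_option linter.unusedSectionVars false

namespace Cfsg.Agent.Lib.RecogM23.Five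

open Cfsg.Agent.Lib.Characters Cfsg.Agent.Lib.Characters.Basic
open Cfsg.Agent.Lib.Classif Cfsg.Agent.Lib.SmallGroups
open Cfsg.Agent.Lib.Classif.PrimeExceptional (deg apply_one_eq)
open Cfsg.Agent.Lib.RecogThree.M12 (Full.Extra Full.exists_full)
open scoped ComplexConjugate

universe u

variable {G : Type u} [Group G] [Finite G] [IsSimpleGroup G] [Fact (Nat.Prime 7)]
  (h : Nat.card G = 10200960)

include h

theorem false_of_five (R : Sylow 7 G) (hR : Nat.card (R : Subgroup G) = 7)
    (hrel : (Subgroup.centralizer ((R : Subgroup G) : Set G)).relIndex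
      (Subgroup.normalizer ((R : Subgroup G) : Set G)) = 6)
    (h5 : 5 ∣ Nat.card (Subgroup.centralizer ((R : Subgroup G) : Set G))) : False := by
  classical
  haveI := Fintype.ofFinite G
  haveI : Fact (Nat.Prime 5) := ⟨by norm_num⟩
  have hG := Base.not_comm h
  obtain ⟨⟨g, hgC⟩, hg⟩ := exists_prime_orderOf_dvd_card'
    (G := Subgroup.centralizer ((R : Subgroup G) : Set G)) 5 h5
  rw [Subgroup.orderOf_mk] at hg
  obtain ⟨⟨y, hyR⟩, hy⟩ := exists_prime_orderOf_dvd_card' (G := (R : Subgroup G)) 7 (by rw [hR])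
  rw [Subgroup.orderOf_mk] at hy
  obtain ⟨S, hS⟩ := (IsPGroup.of_card (n := 1)
    (show Nat.card (Subgroup.zpowers g) = 5 ^ 1 by rw [Nat.card_zpowers, hg, pow_one])
    ).exists_le_sylow
  have hS5 : Nat.card (S : Subgroup G) = 5 := by
    rw [Sylow.card_sylow_eq S (a := 1) (m := 2040192) (by rw [h]; norm_num) (by norm_num), pow_one]
  have hSg : Subgroup.zpowers g = (S : Subgroup G) :=
    Subgroup.eq_of_le_of_card_ge hS (by rw [hS5, Nat.card_zpowers, hg])
  have hcomm : Commute y g := Subgroup.mem_centralizer_iff.mp hgC y hyR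
  have hyC : y ∈ Subgroup.centralizer ((S : Subgroup G) : Set G) := by
    rw [Subgroup.mem_centralizer_iff]
    intro w hw
    rw [SetLike.mem_coe, ← hSg] at hw
    obtain ⟨i, rfl⟩ := Subgroup.mem_zpowers_iff.mp hw
    exact (Commute.zpow_left hcomm.symm i).eq
  obtain ⟨e, c, he, he1, hcd, hC, hce⟩ := Sylow.exists_normalizer_factor hG S hS5
  have h7c : 7 ∣ c := hC ▸ hy ▸ Subgroup.orderOf_dvd_natCard _ hyC
  have h25 : ¬ 5 ^ 2 ∣ c := fun hd => by
    have := (hd.trans (hC ▸ dvd_refl c)).trans
      ((Subgroup.centralizer ((S : Subgroup G) : Set G)).card_subgroup_dvd_card)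
    rw [h] at this
    norm_num at this
  have hrelS : (Subgroup.centralizer ((S : Subgroup G) : Set G)).relIndex
      (Subgroup.normalizer ((S : Subgroup G) : Set G)) = e := by
    have h' := Sylow.card_centralizer_mul_relIndex (S : Subgroup G)
    rw [← hce, hC] at h'
    exact Nat.eq_of_mul_eq_mul_left (by rw [← hC]; exact Nat.card_pos) h'
  obtain ⟨D, ⟨E⟩⟩ := Full.exists_full S hS5 hrelS
  have hlo := PrimeDegrees.two_mul_le_of_centralizer hG hS5 hC (by omega) hcd h25 D
  -- a member of degree `11`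
  have h11 : ∃ χ ∈ D.K, Family.sk D χ = 11 := by
    by_contra hne
    push Not at hne
    have hks : ∀ χ ∈ D.K, Family.sk D χ ∈ ks5 := by
      intro χ hχ
      rw [← ks5_eq, List.mem_filter, List.mem_filter]
      refine ⟨⟨Family.sk_mem hG hS5 D h hχ (hlo.1 χ hχ), ?_⟩, decide_eq_true (hne χ hχ)⟩
      rw [good, Bool.and_eq_true, Family.sk]
      refine ⟨Local.okd_signed h χ (D.a_unit χ hχ), decide_eq_true fun h0 => ?_⟩
      refine Tools.not_dvd_deg hS5 D (q := 7) (a := 1) (r := 1457280) (by norm_num) (by norm_num)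
        (by rw [h]; norm_num) (by norm_num) (hC ▸ h7c) hχ ?_
      have hd := Int.dvd_of_emod_eq_zero h0
      rcases D.a_unit χ hχ with e' | e' <;> rw [e'] at hd <;> simpa using hd
    have hgood : good (D.δ * deg D.θ) = true := by
      rw [good, Bool.and_eq_true]
      refine ⟨Local.okd_signed h _ D.δ_unit, decide_eq_true fun h0 => ?_⟩
      refine Tools2.not_dvd_deg_theta hS5 D E (q := 7) (a := 1) (r := 1457280) (by norm_num)
        (by norm_num) (by rw [h]; norm_num) (by norm_num) (hC ▸ h7c) ?_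
      have hd := Int.dvd_of_emod_eq_zero h0
      rcases D.δ_unit with e' | e' <;> rw [e'] at hd <;> simpa using hd
    have hfam := D.fam_card
    have hcases : e = 2 ∨ e = 4 := by
      have := Nat.le_of_dvd (by norm_num) he
      interval_cases e <;> simp_all
    rcases hcases with rfl | rfl
    · exact DegSearch.false_of_dead hG hS5 D h (t := 2) (by omega) hlo.2 hks hgood dead_two
    · exact DegSearch.false_of_dead hG hS5 D h (t := 1) (by omega) hlo.2 hks hgood dead_four
  obtain ⟨χ, hχ, hsk⟩ := h11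
  obtain ⟨ha, hd⟩ : D.a χ = 1 ∧ deg χ = 11 := by
    have := RecogThree.M12.Basic.deg_nonneg χ
    rw [Family.sk] at hsk
    rcases D.a_unit χ hχ with e' | e' <;> rw [e'] at hsk ⊢ <;> omega
  -- the fixed space of `g` as a representation of the powers of `y`
  set H := Subgroup.zpowers y
  obtain ⟨ψ, hψ, hval⟩ := FixedSpace.exists_character (p := 5) (y := g) (by norm_num)
    (by rw [← hg, pow_orderOf_eq_one]) χ (a := 1) H
    (fun k hk => by
      obtain ⟨i, rfl⟩ := Subgroup.mem_zpowers_iff.mp hk
      exact Commute.zpow_left hcomm i)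
    (fun k hk i hi hi' => by
      obtain ⟨j, rfl⟩ := Subgroup.mem_zpowers_iff.mp hk
      have hv := D.value χ hχ (g ^ i) (pow_mem (hSg ▸ Subgroup.mem_zpowers g) i)
        (pow_ne_one_of_lt_orderOf (by omega) (hg ▸ hi')) (y ^ j) (Subgroup.zpow_mem _ hyC j)
        (fun hd => by
          have := hd.trans (Subgroup.orderOf_dvd_natCard _ hk)
          rw [Nat.card_zpowers, hy] at this
          norm_num at this)
      rw [(Commute.zpow_left (hcomm.pow_right i) j).eq, hv, ha]
      norm_num)
  obtain ⟨n, hn⟩ := exists_classInner_nat hψ (isCharacter_one (G := H))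
  have hy1 : y ≠ 1 := fun e' => by rw [e', orderOf_one] at hy; omega
  set s : ℂ := ψ ⟨y, Subgroup.mem_zpowers y⟩ with hs
  have hχy : (χ : G → ℂ) y = 5 * s - 4 := by
    have := hval ⟨y, Subgroup.mem_zpowers y⟩
    rw [← hs] at this
    push_cast at this
    linear_combination -this
  have hψ1 : ψ 1 = 3 := by
    have := hval 1
    rw [show ((1 : H) : G) = 1 from rfl, apply_one_eq, hd] at this
    push_cast at this
    linear_combination this / 5
  have hψs : ∀ k : H, k ≠ 1 → ψ k = s := by
    intro k hk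
    have h1 := hval k
    have hkR : (k : G) ∈ (R : Subgroup G) := Subgroup.zpowers_le.mpr hyR k.2
    rw [← classFunction_apply_of_isConj (isClassFunction_irr χ)
      (Conj.isConj_of_full hR hyR hy1 hkR (fun e' => hk (Subtype.ext e')) hrel), hχy] at h1
    push_cast at h1
    linear_combination h1 / 5
  have hH : Nat.card H = 7 := by rw [Nat.card_zpowers, hy]
  have hsum : ∑ k : H, ψ k = 7 * (n : ℂ) := by
    rw [← hn, Cfsg.classInner, ← mul_assoc, hH]
    norm_num
  rw [← Finset.add_sum_erase _ _ (Finset.mem_univ (1 : H)), hψ1,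
    Finset.sum_congr rfl fun k hk => hψs k (Finset.ne_of_mem_erase hk), Finset.sum_const,
    Finset.card_erase_of_mem (Finset.mem_univ _), Finset.card_univ,
    ← Nat.card_eq_fintype_card, hH, nsmul_eq_mul] at hsum
  norm_num at hsum
  have hint : IsIntegral ℤ s := isIntegral_apply hψ _
  have hdvd : (6 : ℤ) ∣ 7 * (n : ℤ) - 3 := by
    refine FirstPowerData.int_dvd_of_isIntegral (n := 6) (by norm_num) ?_
    convert hint using 1
    push_cast
    linear_combination -hsum / 6
  obtain ⟨q, hq⟩ := hdvd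
  have hsq : s = (q : ℂ) := by
    have h' : ((7 * (n : ℤ) - 3 : ℤ) : ℂ) = ((6 * q : ℤ) : ℂ) := by rw [hq]
    push_cast at h'
    linear_combination hsum / 6 + h' / 6
  have hlt := RecogThree.M12.Basic.norm_lt hG χ (Family.ne_one_of_mem D hχ) hy1
  rw [hχy, hsq, hd, show (5 * (q : ℂ) - 4) = ((5 * q - 4 : ℤ) : ℂ) by push_cast; ring,
    show ‖((5 * q - 4 : ℤ) : ℂ)‖ = ((|5 * q - 4| : ℤ) : ℝ) by
      rw [Complex.norm_intCast]; push_cast; rfl, Int.cast_lt] at hlt
  have := abs_lt.mp hlt
  omega

end Cfsg.Agent.Lib.RecogM23.Five
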