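import Cfsg.Agent.Lib.RecogM23.SevenCentral
import Cfsg.Agent.Lib.RecogM23.Fam11
import Cfsg.Agent.Lib.RecogM23.CertLinesA
import Cfsg.Agent.Lib.RecogM23.CertLinesB
import Cfsg.Agent.Lib.RecogM23.CertLinesC

/-!
Simple groups of order `10200960`: the family at the prime `11` at a central involution of the
centraliser of a Sylow subgroup of order `7`.
-/

set_option autoImplicit false
set_option linter.style.haveILetI false
set_option linter.unusedSectionVars false

namespace Cfsg.Agent.Lib.RecogM23.Lines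

open Cfsg.Agent.Lib.Characters Cfsg.Agent.Lib.Characters.Basic
open Cfsg.Agent.Lib.Classif Cfsg.Agent.Lib.SmallGroups
open Cfsg.Agent.Lib.Classif.PrimeExceptional (deg apply_one_eq)
open Cfsg.Agent.Lib.RecogM22.Search (Sums add init)

universe u

/-- The sum over the products of two conjugates commuting, in the two cases. -/
theorem sum_closed {G : Type u} [Group G] [Fintype G] [DecidableEq G] (χ : Cfsg.IrrCharacter G)
    {u y : G} (hu : orderOf u = 2) {w : ℤ} (hw : (χ : G → ℂ) u = w)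
    (hfix : Orbit.fixed u y = {u} ∨ ∃ b d, Orbit.fixed u y = {b, d, b * d} ∧ b * d = d * b ∧
        (Orbit.fixed u y).card = 3 ∧ b * b = 1 ∧ d * d = 1) :
    ∑ ab ∈ Orbit.fixed u y ×ˢ Orbit.fixed u y, (χ : G → ℂ) (ab.1 * ab.2) =
      ((if (Orbit.fixed u y).card = 1 then deg χ else 3 * deg χ + 6 * w : ℤ) : ℂ) := by
  rcases hfix with hK | ⟨b, d, hK, hc, hcard, hb2, hd2⟩
  · rw [hK, Finset.card_singleton, if_pos rfl, Finset.singleton_product_singleton,
      Finset.sum_singleton]
    simp [← pow_two, ← hu, pow_orderOf_eq_one, apply_one_eq]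
  have hval : ∀ x ∈ Orbit.fixed u y, (χ : G → ℂ) x = w ∧ x ≠ 1 := by
    intro x hx
    have hxu := Orbit.mem_cls.mp (Finset.mem_filter.mp hx).1
    refine ⟨(classFunction_apply_of_isConj (isClassFunction_irr χ) hxu.symm).trans hw, fun e => ?_⟩
    rw [e, isConj_one_left] at hxu
    rw [hxu, orderOf_one] at hu
    omega
  obtain ⟨hbw, hb1⟩ := hval b (by rw [hK]; simp)
  obtain ⟨hdw, hd1⟩ := hval d (by rw [hK]; simp)
  obtain ⟨hfw, hf1⟩ := hval (b * d) (by rw [hK]; simp)
  have hbd : b ≠ d := fun e => hf1 (by rw [← e, hb2])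
  have hbf : b ≠ b * d := fun e => hd1 (mul_eq_left.mp e.symm)
  have hdf : d ≠ b * d := fun e => hb1 (mul_eq_right.mp e.symm)
  rw [if_neg (by omega : (Orbit.fixed u y).card ≠ 1), hK, Finset.sum_product]
  simp only [Finset.sum_insert, Finset.mem_insert, Finset.mem_singleton, hbd, hbf, hdf, or_self,
    not_false_eq_true, Finset.sum_singleton]
  have h1 : d * b = b * d := hc.symm
  have h2 : b * (b * d) = d := by rw [← mul_assoc, hb2, one_mul]
  have h3 : d * (b * d) = b := by rw [← mul_assoc, h1, mul_assoc, hd2, mul_one]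
  have h4 : b * d * b = d := by rw [mul_assoc, h1, ← mul_assoc, hb2, one_mul]
  have h5 : b * d * d = b := by rw [mul_assoc, hd2, mul_one]
  have h6 : b * d * (b * d) = 1 := by rw [← mul_assoc, h4, hd2]
  rw [h1, h2, h3, h4, h5, h6, hb2, hd2, hbw, hdw, hfw, apply_one_eq]
  push_cast
  ring

/-- The congruence on the central character. -/
theorem om_of {m : ℕ} (hm : m = 1 ∨ m = 3) {d w o N a : ℤ} (ha : a = 1 ∨ a = -1)
    (hN : (7 : ℤ) ∣ N - (m : ℤ)) (ho : d * o = N * w)
    (h : (7 : ℤ) ∣ d * o ^ 2 - if m = 1 then d else 3 * d + 6 * w) :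
    (if m = 1 then decide ((a * w * (a * w) - a * d * (a * d)) % 7 = 0)
      else decide ((a * w - a * d) * (a * w - 2 * (a * d)) % 7 = 0)) = true := by
  have haa : a * a = 1 := by rcases ha with rfl | rfl <;> norm_num
  obtain ⟨t, ht⟩ := hN
  obtain ⟨s, hs⟩ := h
  rcases hm with rfl | rfl
  · rw [if_pos rfl, decide_eq_true_eq]
    rw [if_pos rfl] at hs
    push_cast at ht
    refine Int.emod_eq_zero_of_dvd ?_
    rw [show a * w * (a * w) - a * d * (a * d) = (a * a) * (w * w - d * d) by ring, haa, one_mul]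
    refine ⟨d * s - t * (N + 1) * (w * w), ?_⟩
    linear_combination (-(d * o + N * w)) * ho + d * hs - (N + 1) * w * w * ht
  · rw [if_neg (by norm_num), decide_eq_true_eq]
    rw [if_neg (by norm_num)] at hs
    push_cast at ht
    refine Int.emod_eq_zero_of_dvd ?_
    rw [show (a * w - a * d) * (a * w - 2 * (a * d)) = (a * a) * ((w - d) * (w - 2 * d)) by ring,
      haa, one_mul]
    refine ⟨4 * (d * s - t * (N + 3) * (w * w)) - 5 * (w * w) + 3 * (d * w) + 2 * (d * d), ?_⟩
    linear_combination (-4 * (d * o + N * w)) * ho + 4 * d * hs - 4 * (N + 3) * w * w * ht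

/-- The data of the family at `11` at the involution. -/
structure Known {G : Type u} [Group G] [Finite G] [Fact (Nat.Prime 11)] (F : Fam11.Fam G)
    (u : G) : Prop where
  theta : deg F.D.θ = 896 ∧ F.D.δ = 1 ∧ Family.iv u F.D.θ = 0
  members : ∀ χ ∈ F.D.K,
    (F.D.a χ = 1 ∧ deg χ = 45 ∧ Family.iv u χ = -3) ∨
      (F.D.a χ = -1 ∧ deg χ = 230 ∧ Family.iv u χ = 22) ∨
      (F.D.a χ = 1 ∧ deg χ = 1035 ∧ Family.iv u χ = 27)
  count : (F.D.K.filter fun χ => deg χ = 45).card = 2 ∧
    (F.D.K.filter fun χ => deg χ = 230).card = 1 ∧ (F.D.K.filter fun χ => deg χ = 1035).card = 1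

variable {G : Type u} [Group G] [Finite G] [IsSimpleGroup G] [Fact (Nat.Prime 7)]
  [Fact (Nat.Prime 11)] (h : Nat.card G = 10200960)

include h

theorem exists_known {e a : ℕ} (R : Sylow 7 G) (hR : Nat.card (R : Subgroup G) = 7) (ha : a ≠ 0)
    (hC : Nat.card (Subgroup.centralizer ((R : Subgroup G) : Set G)) = 7 * 2 ^ a)
    (hrel : (Subgroup.centralizer ((R : Subgroup G) : Set G)).relIndex
      (Subgroup.normalizer ((R : Subgroup G) : Set G)) = e) (he : e = 3 ∨ e = 6) (F : Fam11.Fam G) :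
    ∃ u : G, orderOf u = 2 ∧ Nat.card (Subgroup.centralizer ({u} : Set G)) = 2688 ∧
      Subgroup.centralizer ((R : Subgroup G) : Set G) ≤ Subgroup.centralizer ({u} : Set G) ∧
      Known F u ∧ ∀ χ : Cfsg.IrrCharacter G, χ ≠ oneChar G →
        (7 : ℤ) ∣ Family.iv u χ * Family.iv u χ - deg χ * deg χ := by
  classical
  haveI := Fintype.ofFinite G
  have hG := Base.not_comm h
  have hperf := Sylow.commutator_eq_top hG
  obtain ⟨u, y, hu, hy, hyR, hle, hfix⟩ := Central.exists_central R hR ha hC hrel he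
  set m := (Orbit.fixed u y).card with hmdef
  have hm : m = 1 ∨ m = 3 := by
    rcases hfix with hK | ⟨b, d, -, -, h3, -, -⟩
    · left; rw [hmdef, hK, Finset.card_singleton]
    · exact Or.inr h3
  set c := Nat.card (Subgroup.centralizer ({u} : Set G)) with hc
  have hu1 : u ≠ 1 := fun e' => by rw [e', orderOf_one] at hu; omega
  have hy7 : y ^ 7 = 1 := by rw [← hy, pow_orderOf_eq_one]
  have hN : (Orbit.cls u).card = 10200960 / c := by
    have h1 := Orbit.card_cls u
    rw [h, ← hc] at h1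
    rw [← h1, Nat.mul_div_cancel _ Nat.card_pos]
  have hcong := Orbit.card_cong (q := 7) (by norm_num) hy7 (u := u)
  rw [hN, ← hmdef] at hcong
  have h7c : 7 ∣ c := (dvd_trans (Dvd.intro _ rfl) hC.symm.dvd).trans (Subgroup.card_dvd_of_le hle)
  have hmem7 : c ∈ (Base.cents 7).filter fun c => decide (c % 11 ≠ 0) && decide (c % 23 ≠ 0) := by
    refine List.mem_filter.mpr ⟨Base.cent_mem h (by norm_num) hu h7c, ?_⟩
    haveI : Fact (Nat.Prime 23) := ⟨by norm_num⟩
    have h11 := Local.not_dvd_centralizer h (p := 11) (Or.inl rfl) (u := u) (by omega) hu1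
    have h23 := Local.not_dvd_centralizer h (p := 23) (Or.inr rfl) (u := u) (by omega) hu1
    rw [Bool.and_eq_true, decide_eq_true_eq, decide_eq_true_eq]
    exact ⟨fun e' => h11 (Nat.dvd_of_mod_eq_zero e'), fun e' => h23 (Nat.dvd_of_mod_eq_zero e')⟩
  have hlist := List.all_eq_true.mp cents_eq c hmem7
  rw [Bool.and_eq_true, beq_iff_eq, beq_iff_eq] at hlist
  -- the congruences
  have hom' : ∀ χ : Cfsg.IrrCharacter G, χ ≠ oneChar G → ∀ a : ℤ, a = 1 ∨ a = -1 →
      (if m = 1 then decide ((a * Family.iv u χ * (a * Family.iv u χ) -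
          a * deg χ * (a * deg χ)) % 7 = 0)
        else decide ((a * Family.iv u χ - a * deg χ) *
          (a * Family.iv u χ - 2 * (a * deg χ)) % 7 = 0)) = true := by
    intro χ h1 a ha'
    obtain ⟨hv, -, -, hd⟩ := Family.iv_spec hG h1 hu h rfl
    obtain ⟨o, ho⟩ := hd
    have ho' : deg χ * o = ((Orbit.cls u).card : ℤ) * Family.iv u χ := by rw [hN]; exact ho.symm
    refine om_of hm ha' hcong (ho.symm : deg χ * o = ((10200960 / c : ℕ) : ℤ) * Family.iv u χ) ?_
    exact Orbit.omega_sq (q := 7) (by norm_num) hy7 χ hv ho' (sum_closed χ hu hv hfix)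
  have hom : ∀ χ : Cfsg.IrrCharacter G, χ ≠ oneChar G → ∀ a : ℤ, a = 1 ∨ a = -1 →
      om m (a * deg χ) (a * Family.iv u χ) = true := fun χ h1 a ha' => by
    rw [om, Bool.or_eq_true]
    exact Or.inr (hom' χ h1 a ha')
  have hitems : ∀ χ ∈ F.D.K, (Family.sk F.D χ, Family.sw F.D u χ) ∈ items m c := by
    intro χ hχ
    obtain ⟨m1, m2, m4, m5, -⟩ := Family.member_spec hG F.hP F.D h hu rfl hχ
    refine List.mem_filter.mpr ⟨Items.mem_pairs (Fam11.sk_mem h F hχ)
      (Items.mem_vals (by norm_num) (by omega) m1 m2 (by omega) m4 m5), ?_⟩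
    exact hom χ (Family.ne_one_of_mem F.D hχ) _ (F.D.a_unit χ hχ)
  obtain ⟨hks, hsw, -, -, -, -⟩ := Family.sums_spec hG F.hP F.D h (by norm_num) hu rfl
  have hextra : extra m (Family.sums F.D 10200960 u) = true := by
    simp only [extra, Bool.and_eq_true, decide_eq_true_eq, hks, hsw]
    exact ⟨⟨Fam11.tVal_eq h F hu, Fam11.okd_theta h F⟩,
      hom F.D.θ F.D.θ_ne_one _ F.D.δ_unit⟩
  have hfound : ∀ (l : List (ℤ × ℤ)) (ex : Sums → Bool),
      (∀ χ ∈ F.D.K, (Family.sk F.D χ, Family.sw F.D u χ) ∈ l) →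
      ex (Family.sums F.D 10200960 u) = true → dead m c l ex = true → False := by
    intro l ex hl hex hd
    have hs := Search.go_of_search (RecogM22.Search.ok_mono _ _) _ _ _
      (Family.search_eq_true hG F.hP F.D h (by norm_num) hu rfl (Fam11.card_fam h F) (lo := 2)
        (Fam11.two_le_theta h F) hl (extra := fun s => extra m s && ex s)
        (by rw [hextra, hex]; rfl))
    rw [dead, hs] at hd
    exact Bool.noConfusion hd
  have hm1 : m = 1 := by
    refine hm.resolve_right fun h3 => ?_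
    have hc3 : c ∈ centsThree := by
      have := hlist.2
      rw [decide_eq_true (by omega : 10200960 / c % 7 = 3)] at this
      exact List.elem_iff.mp this.symm
    have hd := List.all_eq_true.mp dead_three c hc3
    exact hfound _ _ hitems rfl (by rw [h3]; exact hd)
  have hc1 : c ∈ centsOne := by
    have := hlist.1
    rw [decide_eq_true (by omega : 10200960 / c % 7 = 1)] at this
    exact List.elem_iff.mp this.symm
  rw [hm1] at hfound hitems
  have hd1 := List.all_eq_true.mp dead_one c hc1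
  rw [testOne] at hd1
  have hc2688 : c = 2688 := by
    by_contra hne
    exact hfound _ _ hitems (by simp [hne]) hd1
  have hoth : other (Family.sums F.D 10200960 u) = false := by
    by_contra hne
    exact hfound _ _ hitems (by simp at hne; simp [hne]) hd1
  simp only [other, Bool.not_eq_false', Bool.and_eq_true, decide_eq_true_eq, hks, hsw] at hoth
  obtain ⟨⟨⟨hk, hw⟩, -⟩, -⟩ := hoth
  rw [hc2688] at hitems hfound
  have hneed : ∀ kw, needs kw = true →
      ∃ χ ∈ F.D.K, (Family.sk F.D χ, Family.sw F.D u χ) = kw := by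
    intro kw hkw
    by_contra hne
    push Not at hne
    exact hfound _ (fun _ => true)
      (fun χ hχ => List.mem_filter.mpr ⟨hitems χ hχ, decide_eq_true (hne χ hχ)⟩) rfl hkw
  obtain ⟨χ₁, h1, e1⟩ := hneed _ needs_1035
  obtain ⟨χ₂, h2, e2⟩ := hneed _ needs_230
  obtain ⟨χ₃, h3, e3⟩ := hneed _ needs_45
  have h12 : χ₁ ≠ χ₂ := fun e' => by rw [e', e2] at e1; exact absurd e1 (by decide)
  have h13 : χ₁ ≠ χ₃ := fun e' => by rw [e', e3] at e1; exact absurd e1 (by decide)
  have h23 : χ₂ ≠ χ₃ := fun e' => by rw [e', e3] at e2; exact absurd e2 (by decide)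
  obtain ⟨χ₄, h4⟩ := Finset.card_eq_one.mp (show (F.D.K \ {χ₁, χ₂, χ₃}).card = 1 by
    rw [Finset.card_sdiff_of_subset (by simp [Finset.insert_subset_iff, h1, h2, h3]),
      Fam11.card_K h F, Finset.card_insert_of_notMem (by simp [h12, h13]),
      Finset.card_insert_of_notMem (by simp [h23]), Finset.card_singleton])
  have hK : F.D.K = {χ₁, χ₂, χ₃, χ₄} := by
    ext x
    constructor
    · intro hx
      by_cases hx' : x ∈ ({χ₁, χ₂, χ₃} : Finset _)
      · simp only [Finset.mem_insert, Finset.mem_singleton] at hx' ⊢; rcases hx' with e' | e' | e' <;> simp [e']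
      · have : x ∈ F.D.K \ {χ₁, χ₂, χ₃} := Finset.mem_sdiff.mpr ⟨hx, hx'⟩
        rw [h4, Finset.mem_singleton] at this
        simp [this]
    · intro hx
      simp only [Finset.mem_insert, Finset.mem_singleton] at hx
      rcases hx with rfl | rfl | rfl | rfl
      · exact h1
      · exact h2
      · exact h3
      · exact (Finset.mem_sdiff.mp (by rw [h4]; exact Finset.mem_singleton_self _)).1
  have h4n : χ₁ ≠ χ₄ ∧ χ₂ ≠ χ₄ ∧ χ₃ ≠ χ₄ := by
    have h4' : χ₄ ∉ ({χ₁, χ₂, χ₃} : Finset _) :=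
      (Finset.mem_sdiff.mp (show χ₄ ∈ F.D.K \ {χ₁, χ₂, χ₃} by
        rw [h4]; exact Finset.mem_singleton_self _)).2
    simp only [Finset.mem_insert, Finset.mem_singleton, not_or] at h4'
    exact ⟨Ne.symm h4'.1, Ne.symm h4'.2.1, Ne.symm h4'.2.2⟩
  have hperm : F.D.K.toList.Perm [χ₁, χ₂, χ₃, χ₄] := by
    refine (List.perm_ext_iff_of_nodup (Finset.nodup_toList _) ?_).mpr fun x => ?_
    · simp [h12, h13, h23, h4n]
    · rw [Finset.mem_toList, hK]; simp
  have hsums := Family2.sums_eq F.D 10200960 u hperm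
  simp only [List.map_cons, List.map_nil, e1, e2, e3, List.foldl_cons, List.foldl_nil, add,
    init] at hsums
  rw [hsums] at hks hsw
  simp only [] at hks hsw
  have e4 : Family.sk F.D χ₄ = 45 ∧ Family.sw F.D u χ₄ = -3 := by constructor <;> omega
  have hsigned : ∀ χ ∈ F.D.K, ∀ k w : ℤ, Family.sk F.D χ = k → Family.sw F.D u χ = w →
      (0 < k → F.D.a χ = 1 ∧ deg χ = k ∧ Family.iv u χ = w) ∧
        (k < 0 → F.D.a χ = -1 ∧ deg χ = -k ∧ Family.iv u χ = -w) := by
    intro χ hχ k w hk' hw'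
    have := RecogThree.M12.Basic.deg_nonneg χ
    rw [Family.sk] at hk'
    rw [Family.sw] at hw'
    rcases F.D.a_unit χ hχ with e' | e' <;> rw [e'] at hk' hw' <;>
      refine ⟨fun hpos => ⟨?_, ?_, ?_⟩, fun hneg => ⟨?_, ?_, ?_⟩⟩ <;> omega
  obtain ⟨a1, d1, v1⟩ := (hsigned χ₁ h1 _ _ (congrArg Prod.fst e1) (congrArg Prod.snd e1)).1
    (by norm_num)
  obtain ⟨a2, d2, v2⟩ := (hsigned χ₂ h2 _ _ (congrArg Prod.fst e2) (congrArg Prod.snd e2)).2
    (by norm_num)
  obtain ⟨a3, d3, v3⟩ := (hsigned χ₃ h3 _ _ (congrArg Prod.fst e3) (congrArg Prod.snd e3)).1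
    (by norm_num)
  obtain ⟨a4', d4, v4⟩ := (hsigned χ₄ (by rw [hK]; simp) _ _ e4.1 e4.2).1 (by norm_num)
  norm_num at d2 v2
  refine ⟨u, hu, hc2688, hle, ⟨?_, fun χ hχ => ?_, ?_⟩, fun χ hχ => ?_⟩
  · have := RecogThree.M12.Basic.deg_nonneg F.D.θ
    rcases F.D.δ_unit with e' | e' <;> rw [e'] at hk hw <;> refine ⟨?_, ?_, ?_⟩ <;> omega
  · rw [hK] at hχ
    simp only [Finset.mem_insert, Finset.mem_singleton] at hχ
    rcases hχ with rfl | rfl | rfl | rfl
    · exact Or.inr (Or.inr ⟨a1, d1, v1⟩)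
    · exact Or.inr (Or.inl ⟨a2, d2, v2⟩)
    · exact Or.inl ⟨a3, d3, v3⟩
    · exact Or.inl ⟨a4', d4, v4⟩
  · rw [hK]
    simp [Finset.filter_insert, Finset.filter_singleton, d1, d2, d3, d4, h4n]
  · have h' := hom' χ hχ 1 (Or.inl rfl)
    rw [if_pos hm1, decide_eq_true_eq] at h'
    simp only [one_mul] at h'
    exact Int.dvd_of_emod_eq_zero h'

end Cfsg.Agent.Lib.RecogM23.Lines
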