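import Cfsg.Agent.Lib.RecogM23.SevenTwo
import Cfsg.Agent.Lib.RecogM23.CertThree
import Cfsg.Agent.Lib.RecogM23.Tools2
import Cfsg.Agent.Lib.RecogM23.Family2

/-!
Simple groups of order `10200960`: with index three at the prime `7` the centraliser of a Sylow
subgroup of order `7` has order prime to `15`, or to `5` or to `3`.
-/

set_option autoImplicit false
set_option linter.style.haveILetI false
set_option linter.unusedSectionVars false

namespace Cfsg.Agent.Lib.RecogM23.Three

open Cfsg.Agent.Lib.Characters Cfsg.Agent.Lib.Characters.Basic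
open Cfsg.Agent.Lib.Classif Cfsg.Agent.Lib.SmallGroups
open Cfsg.Agent.Lib.Classif.PrimeExceptional (deg)
open Cfsg.Agent.Lib.RecogM22 (Pairs.T Pairs.T_eq_zero)
open Cfsg.Agent.Lib.RecogThree.M12 (Full.Extra Full.exists_full)

universe u

variable {G : Type u} [Group G] [Finite G] [IsSimpleGroup G] [Fact (Nat.Prime 7)]
  (h : Nat.card G = 10200960)

include h

theorem false_three (R : Sylow 7 G) (hR : Nat.card (R : Subgroup G) = 7)
    (hrel : (Subgroup.centralizer ((R : Subgroup G) : Set G)).relIndex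
      (Subgroup.normalizer ((R : Subgroup G) : Set G)) = 3)
    (h5 : 5 ∣ Nat.card (Subgroup.centralizer ((R : Subgroup G) : Set G)))
    (h3 : 3 ∣ Nat.card (Subgroup.centralizer ((R : Subgroup G) : Set G))) : False := by
  classical
  haveI := Fintype.ofFinite G
  have hG := Base.not_comm h
  obtain ⟨D, ⟨E⟩⟩ := Full.exists_full R hR hrel
  have ht : D.fam.card = 2 := by have := D.fam_card; omega
  obtain ⟨u, hu⟩ : ∃ u : G, orderOf u = 2 := by
    haveI : Fact (Nat.Prime 2) := ⟨Nat.prime_two⟩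
    exact exists_prime_orderOf_dvd_card' 2 (h ▸ by norm_num)
  set c := Nat.card (Subgroup.centralizer ({u} : Set G)) with hc
  obtain ⟨hk, -, -, -, -, hT⟩ := Family.sums_spec hG hR D h (by norm_num) hu rfl
  rw [Pairs.T_eq_zero hR D E (by norm_num) hrel (by decide) hu hu, zero_mul] at hT
  have hnd : ∀ (χ : Cfsg.IrrCharacter G) (a : ℤ), (a = 1 ∨ a = -1) →
      ¬ (5 : ℤ) ∣ deg χ → ¬ (9 : ℤ) ∣ deg χ → nd (a * deg χ) = true := by
    intro χ a ha h1 h2
    rw [nd, Bool.and_eq_true, decide_eq_true_eq, decide_eq_true_eq]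
    rcases ha with rfl | rfl <;> omega
  have hmem : ∀ χ ∈ D.K, (Family.sk D χ, Family.sw D u χ) ∈
      Items.pairs 10200960 c 4 ks3 fun k => k % 4 := by
    intro χ hχ
    obtain ⟨m1, m2, m4, m5, -⟩ := Family.member_spec hG hR D h hu rfl hχ
    refine Items.mem_pairs ?_ (Items.mem_vals (by norm_num) (by omega) m1 m2 (by omega) m4 m5)
    rw [← ks3_eq, List.mem_filter]
    refine ⟨Seven.sk_mem h hR D hχ, hnd χ _ (D.a_unit χ hχ) ?_ ?_⟩
    · exact Tools.not_dvd_deg hR D (q := 5) (a := 1) (r := 2040192) (by norm_num) (by norm_num)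
        (by rw [h]; norm_num) (by norm_num) h5 hχ
    · exact Tools.not_dvd_deg hR D (q := 3) (a := 2) (r := 1133440) (by norm_num) (by norm_num)
        (by rw [h]; norm_num) (by norm_num) h3 hχ
  have hextra : extra (Family.sums D 10200960 u) = true := by
    simp only [extra, Bool.and_eq_true, decide_eq_true_eq, hk]
    refine ⟨⟨by exact_mod_cast hT.symm, Local.okd_signed h _ D.δ_unit⟩,
      hnd _ _ D.δ_unit ?_ ?_⟩
    · exact Tools2.not_dvd_deg_theta hR D E (q := 5) (a := 1) (r := 2040192) (by norm_num)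
        (by norm_num) (by rw [h]; norm_num) (by norm_num) h5
    · exact Tools2.not_dvd_deg_theta hR D E (q := 3) (a := 2) (r := 1133440) (by norm_num)
        (by norm_num) (by rw [h]; norm_num) (by norm_num) h3
  obtain ⟨χ₁, χ₂, hne, hK⟩ := Finset.card_eq_two.mp (show D.K.card = 2 by have := D.card_K; omega)
  have h1 : χ₁ ∈ D.K := by rw [hK]; exact Finset.mem_insert_self _ _
  have h2 : χ₂ ∈ D.K := by
    rw [hK]; exact Finset.mem_insert_of_mem (Finset.mem_singleton_self _)
  have hperm : D.K.toList.Perm [χ₁, χ₂] := by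
    refine (List.perm_ext_iff_of_nodup (Finset.nodup_toList _) ?_).mpr fun x => ?_
    · exact List.nodup_cons.mpr ⟨by simpa using hne, List.nodup_singleton _⟩
    · rw [Finset.mem_toList, hK]; simp
  have hsums := Family2.sums_eq D 10200960 u hperm
  have hfin := Family2.fin_sums hG hR D h (by norm_num) hu rfl ht (lo := 2)
    (Seven.two_le_theta h hR D) hextra
  rw [hsums] at hfin
  simp only [List.map_cons, List.map_nil] at hfin
  have hfinK : DegSearch.finK 10200960 7 3 2 2 (fun k => Lines.okd k && nd k)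
      ([Family.sk D χ₁, Family.sk D χ₂].foldl DegSearch.addK (1, 1)) = true := by
    have hk' : 1 + Family.sk D χ₁ + Family.sk D χ₂ = D.δ * deg D.θ := by
      rw [← D.degree_eq, hK, Finset.sum_pair hne, ← add_assoc]; rfl
    have hsq := D.square_sum
    rw [h, ht, hK, Finset.sum_pair hne] at hsq
    push_cast at hsq
    simp only [extra, Bool.and_eq_true, decide_eq_true_eq, hk] at hextra
    simp only [DegSearch.finK, List.foldl_cons, List.foldl_nil, DegSearch.addK, hk',
      Bool.and_eq_true, decide_eq_true_eq, Family.natAbs_unit D.δ_unit,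
      Family.sq_unit D.δ_unit, hextra.1.2, hextra.2, and_true, and_self]
    refine ⟨⟨⟨Seven.two_le_theta h hR D, Nat.mod_eq_zero_of_dvd ?_⟩,
      Int.emod_eq_zero_of_dvd (D.θ_cong hR)⟩, ?_⟩
    · rw [← Int.natAbs_natCast 10200960, Int.natAbs_dvd_natAbs]; exact Family.deg_dvd D.θ h
    · rw [Family.sk, Family.sk, Family.sq_unit (D.a_unit χ₁ h1),
        Family.sq_unit (D.a_unit χ₂ h2)]
      push_cast
      linarith
  obtain ⟨hk₁, hv₁⟩ : Family.sk D χ₁ ∈ ks3 ∧ Family.sw D u χ₁ ∈
      Items.vals 10200960 c 4 (Family.sk D χ₁) (Family.sk D χ₁ % 4) := by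
    simpa [Items.pairs] using hmem χ₁ h1
  obtain ⟨hk₂, hv₂⟩ : Family.sk D χ₂ ∈ ks3 ∧ Family.sw D u χ₂ ∈
      Items.vals 10200960 c 4 (Family.sk D χ₂) (Family.sk D χ₂ % 4) := by
    simpa [Items.pairs] using hmem χ₂ h2
  have hd := List.all_eq_true.mp (List.all_eq_true.mp (dead c (Local.cent_mem h hu)) _ hk₁) _ hk₂
  rw [hfinK, Bool.not_true, Bool.false_or] at hd
  have hd' := List.all_eq_true.mp (List.all_eq_true.mp hd _ hv₁) _ hv₂
  rw [hfin] at hd'
  exact Bool.noConfusion hd'

end Cfsg.Agent.Lib.RecogM23.Three
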