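import Cfsg.Agent.Lib.RecogM23.SevenOne
import Cfsg.Agent.Lib.RecogM23.SevenFive
import Cfsg.Agent.Lib.RecogM23.SevenThree
import Cfsg.Agent.Lib.RecogM23.SevenLines
import Cfsg.Agent.Lib.RecogM23.CertSevenU

/-!
Simple groups of order `10200960`: the prime `7`.
-/

set_option autoImplicit false
set_option linter.style.haveILetI false
set_option linter.unusedSectionVars false

namespace Cfsg.Agent.Lib.RecogM23.SevenU

open Cfsg.Agent.Lib.Characters Cfsg.Agent.Lib.Characters.Basic
open Cfsg.Agent.Lib.Classif Cfsg.Agent.Lib.SmallGroups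
open Cfsg.Agent.Lib.Classif.PrimeExceptional (deg)
open Cfsg.Agent.Lib.RecogM22 (Pairs.T Pairs.T_eq_zero Pairs.exists_square Pairs.card_invCls_le
  Pairs.invCls)
open Cfsg.Agent.Lib.RecogM22.Search (Sums add init ok)
open Cfsg.Agent.Lib.RecogThree.M12 (Full.Extra Full.exists_full)

universe u

/-- The family at `7`, with index three. -/
structure Fam (G : Type u) [Group G] [Finite G] [Fact (Nat.Prime 7)] where
  R : Sylow 7 G
  hR : Nat.card (R : Subgroup G) = 7
  a : ℕ
  ha : a ≠ 0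
  hC : Nat.card (Subgroup.centralizer ((R : Subgroup G) : Set G)) = 7 * 2 ^ a
  hrel : (Subgroup.centralizer ((R : Subgroup G) : Set G)).relIndex
    (Subgroup.normalizer ((R : Subgroup G) : Set G)) = 3
  D : FirstPowerData.Data R 3
  E : Full.Extra R D

/-- Its data at the involution. -/
structure Known {G : Type u} [Group G] [Finite G] [Fact (Nat.Prime 7)] (S : Fam G) (u : G) :
    Prop where
  theta : deg S.D.θ = 990 ∧ S.D.δ = 1 ∧ Family.iv u S.D.θ = -18
  members : ∃ χ₁ χ₂, χ₁ ≠ χ₂ ∧ (∀ χ, χ ∈ S.D.K ↔ χ = χ₁ ∨ χ = χ₂) ∧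
    (S.D.a χ₁ = -1 ∧ deg χ₁ = 1035 ∧ Family.iv u χ₁ = 27) ∧
    (S.D.a χ₂ = 1 ∧ deg χ₂ = 2024 ∧ Family.iv u χ₂ = 8)

variable {G : Type u} [Group G] [Finite G] [IsSimpleGroup G] [Fact (Nat.Prime 7)]
  [Fact (Nat.Prime 11)] (h : Nat.card G = 10200960)

include h

theorem exists_data (F : Fam11.Fam G) :
    ∃ (S : Fam G) (u : G), orderOf u = 2 ∧
      Nat.card (Subgroup.centralizer ({u} : Set G)) = 2688 ∧
      Subgroup.centralizer ((S.R : Subgroup G) : Set G) ≤ Subgroup.centralizer ({u} : Set G) ∧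
      Lines.Known F u ∧ Known S u ∧ ∀ χ : Cfsg.IrrCharacter G, χ ≠ oneChar G →
        (7 : ℤ) ∣ Family.iv u χ * Family.iv u χ - deg χ * deg χ := by
  classical
  haveI := Fintype.ofFinite G
  have hG := Base.not_comm h
  obtain ⟨R⟩ : Nonempty (Sylow 7 G) := inferInstance
  obtain ⟨e, V, hmem, hR, hC, -, hrel⟩ := Local.seven h R
  have h2 : e ≠ 2 := by
    rintro rfl
    obtain ⟨D, -⟩ := Full.exists_full R hR hrel
    exact Seven.false_two h hR D
  have h1 : ¬ (e = 6 ∧ V = 1) := fun ⟨he, hV⟩ =>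
    One.false_one h R hR (by rw [hC, hV]) (he ▸ hrel)
  have h5 : ¬ (5 ∣ V) := by
    intro hd
    rcases eq_or_ne e 6 with rfl | he
    · exact Five.false_of_five h R hR hrel (hC ▸ hd.mul_left 7)
    · have h3 : e = 3 ∧ 3 ∣ V := by
        simp only [Local.sevens, List.mem_cons, Prod.mk.injEq, List.not_mem_nil, or_false] at hmem
        omega
      obtain ⟨rfl, h3⟩ := h3
      exact Three.false_three h R hR hrel (hC ▸ hd.mul_left 7) (hC ▸ h3.mul_left 7)
  obtain ⟨a, ha, rfl, he⟩ : ∃ a, a ≠ 0 ∧ V = 2 ^ a ∧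
      (e = 3 ∨ e = 6 ∧ (2 ^ a = 8 ∨ 2 ^ a = 64)) := by
    have key : ∀ p ∈ Local.sevens, p.1 = 2 ∨ (p.1 = 6 ∧ p.2 = 1) ∨ 5 ∣ p.2 ∨
        (p.1 = 3 ∧ (p.2 = 2 ^ 7 ∨ p.2 = 2 ^ 4 ∨ p.2 = 2 ^ 1)) ∨
        (p.1 = 6 ∧ (p.2 = 2 ^ 6 ∨ p.2 = 2 ^ 3)) := by decide
    rcases key _ hmem with k | k | k | ⟨rfl, k | k | k⟩ | ⟨rfl, k | k⟩
    · exact absurd k h2
    · exact absurd k h1
    · exact absurd k h5
    · exact ⟨7, by norm_num, k, Or.inl rfl⟩
    · exact ⟨4, by norm_num, k, Or.inl rfl⟩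
    · exact ⟨1, by norm_num, k, Or.inl rfl⟩
    · exact ⟨6, by norm_num, k, Or.inr ⟨rfl, Or.inr (by norm_num)⟩⟩
    · exact ⟨3, by norm_num, k, Or.inr ⟨rfl, Or.inl (by norm_num)⟩⟩
  have he36 : e = 3 ∨ e = 6 := he.imp id And.left
  obtain ⟨u, hu, hc, hle, hF, hsq7⟩ := Lines.exists_known h R hR ha hC hrel he36 F
  obtain ⟨D, ⟨E⟩⟩ := Full.exists_full R hR hrel
  have huC : u ∈ Subgroup.centralizer ((R : Subgroup G) : Set G) := by
    rw [Subgroup.mem_centralizer_iff]
    intro w hw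
    have hwC : w ∈ Subgroup.centralizer ((R : Subgroup G) : Set G) := by
      haveI := isCyclic_of_prime_card hR
      haveI : IsMulCommutative (R : Subgroup G) := IsCyclic.isMulCommutative
      rw [Subgroup.mem_centralizer_iff]
      intro x hx
      exact congrArg Subtype.val (mul_comm' (⟨x, hx⟩ : (R : Subgroup G)) ⟨w, hw⟩)
    exact Subgroup.mem_centralizer_singleton_iff.mp (hle hwC)
  have h2k : 2 ∣ Nat.card (Subgroup.centralizer ((R : Subgroup G) : Set G)) :=
    hC ▸ (dvd_pow_self 2 ha).mul_left 7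
  obtain ⟨hks, hsw, -, -, -, hT⟩ := Family.sums_spec hG hR D h (by norm_num) hu hc
  have hmemI : ∀ χ ∈ D.K, (Family.sk D χ, Family.sw D u χ) ∈ items := by
    intro χ hχ
    obtain ⟨m1, m2, m4, m5, -⟩ := Family.member_spec hG hR D h hu hc hχ
    refine Items.mem_pairs (Seven.sk_mem h hR D hχ)
      (Items.mem_vals (by norm_num) (by norm_num) m1 m2 ?_ m4 m5)
    obtain ⟨hv, -, -, -⟩ := Family.iv_spec hG (Family.ne_one_of_mem D hχ) hu h hc
    have h' := D.value_cong hR hχ huC (by rw [hu]; norm_num)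
    rw [hv, ← Int.cast_sub] at h'
    have h'' := FirstPowerData.int_dvd_of_isIntegral (by norm_num) h'
    rw [Family.sw]
    rcases D.a_unit χ hχ with e' | e' <;> rw [e'] at h'' ⊢ <;> omega
  have hgood : good (Family.sums D 10200960 u) = true := by
    simp only [good, Bool.and_eq_true, decide_eq_true_eq, hks]
    refine ⟨Local.okd_signed h _ D.δ_unit, fun h0 => ?_⟩
    refine Tools2.not_dvd_deg_theta hR D E (q := 2) (a := 7) (r := 79695) (by norm_num)
      (by norm_num) (by rw [h]; norm_num) (by norm_num) h2k ?_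
    have hd := Int.dvd_of_emod_eq_zero h0
    push_cast
    rcases D.δ_unit with e' | e' <;> rw [e'] at hd <;> simpa using hd
  have hfound : ∀ (t : ℕ), D.fam.card = t → ∀ (l : List (ℤ × ℤ)) (ex : Sums → Bool),
      (∀ χ ∈ D.K, (Family.sk D χ, Family.sw D u χ) ∈ l) →
      ex (Family.sums D 10200960 u) = true → dead e t l ex = true → False := by
    intro t ht l ex hl hex hd
    have hs := Search.go_of_search (RecogM22.Search.ok_mono _ _) _ _ _
      (Family.search_eq_true hG hR D h (by norm_num) hu hc ht (lo := 2)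
        (Seven.two_le_theta h hR D) hl (extra := fun s => good s && ex s)
        (by rw [hgood, hex]; rfl))
    rw [dead] at hd
    simp only [Nat.cast_ofNat] at hs hd
    rw [hs] at hd
    exact Bool.noConfusion hd
  have he3 : e = 3 := by
    refine he.resolve_right ?_
    rintro ⟨rfl, hV⟩
    refine hfound 1 (by have := D.fam_card; omega) _ square hmemI ?_ dead_six
    obtain ⟨j, hj, hsq⟩ := Pairs.exists_square hR D E (by norm_num) hrel hu
    have hjle := Pairs.card_invCls_le (P := R) u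
    rw [hj, hC] at hjle
    rw [h, hC, hT, hc] at hsq
    have hz : RecogM22.Basic.tVal 10200960 (Family.sums D 10200960 u) * ((2 ^ a : ℕ) : ℤ) =
        7 * (2688 : ℤ) ^ 2 * (j : ℤ) ^ 2 := by
      have h' : RecogM22.Basic.tVal 10200960 (Family.sums D 10200960 u) *
          ((7 * 2 ^ a : ℕ) : ℤ) = ((7 ^ 2 * 2688 ^ 2 * j ^ 2 : ℕ) : ℤ) := by exact_mod_cast hsq
      push_cast at h' ⊢
      linarith
    simp only [square, List.any_eq_true, decide_eq_true_eq, List.mem_cons, List.not_mem_nil,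
      or_false, List.mem_range]
    exact ⟨2 ^ a, hV, j, Nat.lt_succ_of_le (Nat.le_of_mul_le_mul_left hjle (by norm_num)), hz⟩
  subst he3
  have hfam : D.fam.card = 2 := by have := D.fam_card; omega
  have hzero : zero (Family.sums D 10200960 u) = true := by
    rw [Pairs.T_eq_zero hR D E (by norm_num) hrel (by decide) hu hu, zero_mul] at hT
    simp only [zero, decide_eq_true_eq]
    exact_mod_cast hT.symm
  have hneed : ∀ kw, dead 3 2 (items.filter fun x => decide (x ≠ kw)) zero = true →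
      ∃ χ ∈ D.K, (Family.sk D χ, Family.sw D u χ) = kw := by
    intro kw hkw
    by_contra hne
    push Not at hne
    exact hfound 2 hfam _ zero
      (fun χ hχ => List.mem_filter.mpr ⟨hmemI χ hχ, decide_eq_true (hne χ hχ)⟩) hzero hkw
  obtain ⟨χ₁, hk1, e1⟩ := hneed _ needs_1035
  obtain ⟨χ₂, hk2, e2⟩ := hneed _ needs_2024
  have hne : χ₁ ≠ χ₂ := fun e' => by rw [e', e2] at e1; exact absurd e1 (by decide)
  have hK : D.K = {χ₁, χ₂} := by
    refine (Finset.eq_of_subset_of_card_le (by simp [Finset.insert_subset_iff, hk1, hk2]) ?_).symm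
    rw [Finset.card_pair hne]
    have := D.card_K; omega
  have hperm : D.K.toList.Perm [χ₁, χ₂] := by
    refine (List.perm_ext_iff_of_nodup (Finset.nodup_toList _) ?_).mpr fun x => ?_
    · simp [hne]
    · rw [Finset.mem_toList, hK]; simp
  have hsums := Family2.sums_eq D 10200960 u hperm
  simp only [List.map_cons, List.map_nil, e1, e2, List.foldl_cons, List.foldl_nil, add,
    init] at hsums
  rw [hsums] at hks hsw
  simp only [] at hks hsw
  refine ⟨⟨R, hR, a, ha, hC, hrel, D, E⟩, u, hu, hc, hle, hF, ⟨?_, χ₁, χ₂, hne, fun χ => by simp [hK], ?_, ?_⟩, hsq7⟩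
  · have := RecogThree.M12.Basic.deg_nonneg D.θ
    rcases D.δ_unit with e' | e' <;> rw [e'] at hks hsw <;>
      exact ⟨by simp only []; omega, by simp only []; omega, by simp only []; omega⟩
  · have := RecogThree.M12.Basic.deg_nonneg χ₁
    simp only [Family.sk, Family.sw, Prod.mk.injEq] at e1
    rcases D.a_unit χ₁ hk1 with e' | e' <;> rw [e'] at e1 <;>
      exact ⟨by simp only []; omega, by omega, by omega⟩
  · have := RecogThree.M12.Basic.deg_nonneg χ₂
    simp only [Family.sk, Family.sw, Prod.mk.injEq] at e2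
    rcases D.a_unit χ₂ hk2 with e' | e' <;> rw [e'] at e2 <;>
      exact ⟨by simp only []; omega, by omega, by omega⟩

end Cfsg.Agent.Lib.RecogM23.SevenU
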