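import Cfsg.Agent.Lib.RecogM23.SevenTwo
import Cfsg.Agent.Lib.RecogM23.CertOne

/-!
Simple groups of order `10200960`: with index six the Sylow subgroups of order `7` are not
self-centralising.
-/

set_option autoImplicit false
set_option linter.style.haveILetI false
set_option linter.unusedSectionVars false

namespace Cfsg.Agent.Lib.RecogM23.One

open Cfsg.Agent.Lib.Characters Cfsg.Agent.Lib.Characters.Basic
open Cfsg.Agent.Lib.Classif Cfsg.Agent.Lib.SmallGroups
open Cfsg.Agent.Lib.Classif.PrimeExceptional (deg)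
open Cfsg.Agent.Lib.RecogM22 (Pairs.exists_square Pairs.card_invCls_le Pairs.invCls)
open Cfsg.Agent.Lib.RecogM22.Search (Sums add init ok)
open Cfsg.Agent.Lib.RecogThree.M12 (Full.Extra Full.exists_full)

universe u

theorem natAbs_signed {a x : ℤ} (ha : a = 1 ∨ a = -1) (n : ℕ) :
    (a * x).natAbs = n ↔ x.natAbs = n := by rw [Family.natAbs_unit ha]

theorem wt_eq (k : ℤ) : wt k = (if k.natAbs = 160 then 1 else 0) +
    16 * (if k.natAbs = 253 then 1 else 0) +
    256 * (if ¬ (k.natAbs = 22 ∨ k.natAbs = 160 ∨ k.natAbs = 253) then 1 else 0) := by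
  unfold wt
  split_ifs <;> omega

variable {G : Type u} [Group G] [Finite G] [IsSimpleGroup G] [Fact (Nat.Prime 7)]
  (h : Nat.card G = 10200960)

include h

theorem false_one (R : Sylow 7 G) (hR : Nat.card (R : Subgroup G) = 7)
    (hC : Nat.card (Subgroup.centralizer ((R : Subgroup G) : Set G)) = 7)
    (hrel : (Subgroup.centralizer ((R : Subgroup G) : Set G)).relIndex
      (Subgroup.normalizer ((R : Subgroup G) : Set G)) = 6) : False := by
  classical
  haveI := Fintype.ofFinite G
  haveI : Fact (Nat.Prime 11) := ⟨by norm_num⟩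
  have hG := Base.not_comm h
  have hperf := Sylow.commutator_eq_top hG
  obtain ⟨D, ⟨E⟩⟩ := Full.exists_full R hR hrel
  have hself : ∀ S : Sylow 7 G, Nat.card (S : Subgroup G) = 7 ∧
      Subgroup.centralizer ((S : Subgroup G) : Set G) = S := by
    intro S
    have hS : Nat.card (S : Subgroup G) = 7 := by
      rw [Sylow.card_sylow_eq S (a := 1) (m := 1457280) (by rw [h]; norm_num) (by norm_num), pow_one]
    obtain ⟨b, rfl⟩ := MulAction.exists_smul_eq G R S
    refine ⟨hS, (Subgroup.eq_of_le_of_card_ge ?_ ?_).symm⟩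
    · intro x hx
      haveI := isCyclic_of_prime_card hS
      haveI : IsMulCommutative ((b • R : Sylow 7 G) : Subgroup G) := IsCyclic.isMulCommutative
      rw [Subgroup.mem_centralizer_iff]
      intro y hy
      exact congrArg Subtype.val
        (mul_comm' (⟨y, hy⟩ : ((b • R : Sylow 7 G) : Subgroup G)) ⟨x, hx⟩)
    · refine le_of_eq ?_
      rw [hS]
      refine Eq.trans ?_ hC
      refine Nat.card_congr (Equiv.subtypeEquiv
        ⟨fun x => b⁻¹ * x * b, fun x => b * x * b⁻¹, fun x => by group, fun x => by group⟩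
        fun x => ?_)
      simp only [Equiv.coe_fn_mk, Subgroup.mem_centralizer_iff,
        Sylow.coe_subgroup_smul, SetLike.mem_coe]
      constructor
      · intro hx y hy
        have h1 := hx (b * y * b⁻¹) (by
          rw [Subgroup.mem_pointwise_smul_iff_inv_smul_mem, MulAut.smul_def, ← map_inv,
            MulAut.conj_apply]
          simpa [mul_assoc] using hy)
        calc y * (b⁻¹ * x * b) = b⁻¹ * (b * y * b⁻¹ * x) * b := by group
          _ = b⁻¹ * x * b * y := by rw [h1]; group
      · intro hx y hy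
        rw [Subgroup.mem_pointwise_smul_iff_inv_smul_mem, MulAut.smul_def, ← map_inv,
          MulAut.conj_apply, inv_inv] at hy
        have h1 := hx _ hy
        calc y * x = b * (b⁻¹ * y * b * (b⁻¹ * x * b)) * b⁻¹ := by group
          _ = x * y := by rw [h1]; group
  have hCR := (hself R).2
  have hfam : D.fam.card = 1 := by have := D.fam_card; omega
  have hfamθ : ∀ θ' ∈ D.fam, θ' = D.θ := fun θ' hθ' =>
    Finset.card_le_one.mp hfam.le _ hθ' _ D.θ_mem
  -- degrees modulo `7`
  have hout : ∀ χ : Cfsg.IrrCharacter G, χ ≠ oneChar G → ¬ (7 : ℤ) ∣ deg χ →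
      χ ∈ D.K ∨ χ = D.θ := by
    intro χ h1 hd
    by_contra hne
    obtain ⟨hK, hθ⟩ := not_or.mp hne
    exact hd (PrimeDegrees.dvd_deg_of_other hR hCR D χ h1 hK fun hf => hθ (hfamθ χ hf))
  have hok7 : ∀ χ : Cfsg.IrrCharacter G, ok7 (deg χ) = true := by
    intro χ
    have key : ∀ m : ℕ, m = 0 ∨ m = 1 ∨ m = 6 → (deg χ).natAbs % 7 = m → ok7 (deg χ) = true := by
      intro m hm hd
      rcases hm with rfl | rfl | rfl <;> simp [ok7, hd]
    have h0 := RecogThree.M12.Basic.deg_nonneg χ
    by_cases h1 : χ = oneChar G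
    · subst h1; simp [ok7, PrimeExceptional.deg_oneChar]
    by_cases hd : (7 : ℤ) ∣ deg χ
    · exact key 0 (Or.inl rfl) (by omega)
    refine key ((deg χ).natAbs % 7) ?_ rfl
    rcases hout χ h1 hd with hK | rfl
    · have := (FirstPowerKills.signed_facts hperf hR D hK).1
      rcases D.a_unit χ hK with e | e <;> rw [e] at this <;> omega
    · have := D.θ_cong hR
      rcases D.δ_unit with e | e <;> rw [e] at this <;> omega
  have hok7' : ∀ (χ : Cfsg.IrrCharacter G) {a : ℤ}, (a = 1 ∨ a = -1) →
      ok7 (a * deg χ) = true := fun χ a ha => by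
    have h0 := hok7 χ
    rw [ok7, Family.natAbs_unit ha]
    rwa [ok7] at h0
  -- the exceptional degree at `11`
  obtain ⟨F⟩ := Fam11.exists_fam h
  have hks : ∀ χ ∈ F.D.K, Family.sk F.D χ ∈ ks11' := fun χ hχ => by
    rw [← ks11'_eq, List.mem_filter]
    exact ⟨Fam11.sk_mem h F hχ, hok7' χ (F.D.a_unit χ hχ)⟩
  have hθ11 : F.D.δ * deg F.D.θ = -160 := by
    by_contra hne
    refine DegSearch.false_of_dead hG F.hP F.D h (Fam11.card_fam h F) (Fam11.two_le_theta h F)
      hks ?_ dead_theta
    simp only [Bool.and_eq_true, decide_eq_true_eq]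
    exact ⟨⟨Fam11.okd_theta h F, hok7' _ F.D.δ_unit⟩, hne⟩
  have h160 : deg F.D.θ = 160 := by
    have := RecogThree.M12.Basic.deg_nonneg F.D.θ
    rcases F.D.δ_unit with e | e <;> rw [e] at hθ11 <;> omega
  have hmem160 : ∀ χ : Cfsg.IrrCharacter G, deg χ = 160 → χ ∈ F.D.fam := by
    intro χ hd
    by_contra hf
    have h1 : χ ≠ oneChar G := fun e => by
      rw [e, PrimeExceptional.deg_oneChar] at hd; omega
    by_cases hK : χ ∈ F.D.K
    · have := Fam11.K_cong h F hK
      rcases F.D.a_unit χ hK with e | e <;> rw [e, hd] at this <;> norm_num at this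
    · have := Fam11.dvd_deg h F h1 hK hf
      rw [hd] at this
      norm_num at this
  -- the family at `7` has degrees `22`, `160` and `253`
  set A := D.K.filter fun χ => (deg χ).natAbs = 160 with hA
  set B := D.K.filter fun χ => (deg χ).natAbs = 253 with hB
  set W := D.K.filter fun χ =>
    ¬ ((deg χ).natAbs = 22 ∨ (deg χ).natAbs = 160 ∨ (deg χ).natAbs = 253) with hW
  have hA2 : 2 ≤ A.card + (if (deg D.θ).natAbs = 160 then 1 else 0) := by
    have hsub : F.D.fam ⊆ A ∪ (if (deg D.θ).natAbs = 160 then {D.θ} else ∅) := by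
      intro χ hχ
      have hd : deg χ = 160 := (F.D.fam_deg χ hχ).trans h160
      rcases hout χ (fun e => F.D.fam_one (e ▸ hχ)) (by rw [hd]; norm_num) with hK | rfl
      · exact Finset.mem_union_left _ (Finset.mem_filter.mpr ⟨hK, by rw [hd]; rfl⟩)
      · rw [if_pos (by rw [hd]; rfl)]
        exact Finset.mem_union_right _ (Finset.mem_singleton_self _)
    have h1 := (Finset.card_le_card hsub).trans (Finset.card_union_le _ _)
    rw [Fam11.card_fam h F] at h1
    split_ifs at h1 ⊢ with hθ
    · rw [Finset.card_singleton] at h1; omega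
    · rw [Finset.card_empty] at h1; omega
  have hgood : W.card = 0 ∧ B.card ≤ 1 ∧
      ((deg D.θ).natAbs = 22 ∨ (deg D.θ).natAbs = 160 ∨ (deg D.θ).natAbs = 253) := by
    by_contra hne
    refine DegCount.false_of_dead hG hR D h (ks := Seven.ks7) (f := wt) (good := bad) hfam
      (Seven.two_le_theta h hR D) (fun χ hχ => Seven.sk_mem h hR D hχ) ?_ dead_seven
    have hsum : ∑ χ ∈ D.K, wt (Family.sk D χ) = A.card + 16 * B.card + 256 * W.card := by
      rw [hA, hB, hW, Finset.card_filter, Finset.card_filter, Finset.card_filter, Finset.mul_sum,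
        Finset.mul_sum, ← Finset.sum_add_distrib, ← Finset.sum_add_distrib]
      exact Finset.sum_congr rfl fun χ hχ => by
        rw [wt_eq, Family.sk, Family.natAbs_unit (D.a_unit χ hχ)]
    have hcard : D.K.card = 5 := by have := D.card_K; omega
    have hA5 := Finset.card_filter_le D.K fun χ => (deg χ).natAbs = 160
    have hB5 := Finset.card_filter_le D.K fun χ => (deg χ).natAbs = 253
    rw [← hA, hcard] at hA5
    rw [← hB, hcard] at hB5
    rw [hsum]
    simp only [bad, Bool.and_eq_true, Bool.or_eq_true, decide_eq_true_eq, wt_eq,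
      Family.natAbs_unit D.δ_unit]
    refine ⟨⟨Local.okd_signed h _ D.δ_unit, ?_⟩, ?_⟩
    · split_ifs at hA2 ⊢ <;> omega
    · split_ifs at hA2 ⊢ <;> omega
  obtain ⟨hW0, hB1, hθ7⟩ := hgood
  have hdeg7 : ∀ χ ∈ D.K,
      (deg χ).natAbs = 22 ∨ (deg χ).natAbs = 160 ∨ (deg χ).natAbs = 253 := by
    intro χ hχ
    by_contra hn
    exact Finset.notMem_empty χ (Finset.card_eq_zero.mp hW0 ▸ Finset.mem_filter.mpr ⟨hχ, hn⟩)
  -- the members at `11` have degrees divisible by `7`
  have hks3 : ∀ χ ∈ F.D.K, Family.sk F.D χ ∈ ([-252, -483, 1288] : List ℤ) := by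
    intro χ hχ
    have hk := hks χ hχ
    have hd : (7 : ℤ) ∣ deg χ := by
      by_contra hd
      have hc := Fam11.K_cong h F hχ
      have h0 := RecogThree.M12.Basic.deg_nonneg χ
      have h22 : (deg χ).natAbs = 22 ∨ (deg χ).natAbs = 160 ∨ (deg χ).natAbs = 253 := by
        rcases hout χ (Family.ne_one_of_mem F.D hχ) hd with hK | rfl
        · exact hdeg7 χ hK
        · exact hθ7
      rcases F.D.a_unit χ hχ with e | e <;> rw [e] at hc <;> omega
    have hd' : Family.sk F.D χ % 7 = 0 := Int.emod_eq_zero_of_dvd (Dvd.dvd.mul_left hd _)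
    simp only [ks11', List.mem_cons, List.not_mem_nil, or_false] at hk ⊢
    omega
  have hks2 : ∀ χ ∈ F.D.K, Family.sk F.D χ ∈ ([-483, 1288] : List ℤ) := by
    intro χ hχ
    have h3 := hks3 χ hχ
    simp only [List.mem_cons, List.not_mem_nil, or_false] at h3 ⊢
    refine h3.resolve_left fun h252 => ?_
    refine DegCount.false_of_dead hG F.hP F.D h (f := is252) (Fam11.card_fam h F)
      (Fam11.two_le_theta h F) hks3 ?_ dead_252
    refine Bool.and_eq_true_iff.mpr ⟨decide_eq_true hθ11, decide_eq_true ?_⟩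
    have h1 : is252 (Family.sk F.D χ) ≤ ∑ χ ∈ F.D.K, is252 (Family.sk F.D χ) :=
      Finset.single_le_sum (f := fun χ => is252 (Family.sk F.D χ)) (fun _ _ => Nat.zero_le _) hχ
    have h2 : is252 (Family.sk F.D χ) = 1 := by rw [h252]; rfl
    omega
  -- an involution
  obtain ⟨u, hu⟩ : ∃ u : G, orderOf u = 2 := by
    haveI : Fact (Nat.Prime 2) := ⟨Nat.prime_two⟩
    exact exists_prime_orderOf_dvd_card' 2 (h ▸ by norm_num)
  have hc7 : ¬ 7 ∣ Nat.card (Subgroup.centralizer ({u} : Set G)) := by
    intro hd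
    obtain ⟨⟨z, hzC⟩, hz⟩ := exists_prime_orderOf_dvd_card'
      (G := Subgroup.centralizer ({u} : Set G)) 7 hd
    rw [Subgroup.orderOf_mk] at hz
    obtain ⟨S, hS⟩ := (IsPGroup.of_card (n := 1)
      (show Nat.card (Subgroup.zpowers z) = 7 ^ 1 by rw [Nat.card_zpowers, hz, pow_one])
      ).exists_le_sylow
    obtain ⟨hS7, hSC⟩ := hself S
    have hSz : Subgroup.zpowers z = (S : Subgroup G) :=
      Subgroup.eq_of_le_of_card_ge hS (by rw [hS7, Nat.card_zpowers, hz])
    have hmem : u ∈ Subgroup.centralizer ((S : Subgroup G) : Set G) := by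
      rw [Subgroup.mem_centralizer_iff]
      intro w hw
      rw [SetLike.mem_coe, ← hSz] at hw
      obtain ⟨i, rfl⟩ := Subgroup.mem_zpowers_iff.mp hw
      exact (Commute.zpow_left (Subgroup.mem_centralizer_singleton_iff.mp hzC) i).eq
    rw [hSC] at hmem
    have := Subgroup.orderOf_dvd_natCard _ hmem
    rw [hu, hS7] at this
    norm_num at this
  set c := Nat.card (Subgroup.centralizer ({u} : Set G)) with hc
  obtain ⟨hks0, hsw, -, -, -, -⟩ := Family.sums_spec hG F.hP F.D h (by norm_num) hu rfl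
  have hsol : c = 1920 ∧ (Family.sums F.D 10200960 u).w = 0 := by
    by_contra hne
    have hs := Search.go_of_search (RecogM22.Search.ok_mono _ _) _ _ _
      (Family.search_eq_true hG F.hP F.D h (by norm_num) hu rfl (Fam11.card_fam h F) (lo := 2)
        (Fam11.two_le_theta h F) (items := Items.pairs 10200960 c 4 [-483, 1288] fun k => k % 4)
        (fun χ hχ => by
          obtain ⟨m1, m2, m4, m5, -⟩ := Family.member_spec hG F.hP F.D h hu rfl hχ
          exact Items.mem_pairs (hks2 χ hχ)
            (Items.mem_vals (by norm_num) (by omega) m1 m2 (by omega) m4 m5))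
        (extra := fun s => decide (RecogM22.Basic.tVal 10200960 s = 0) &&
          decide (s.k = -160) && (decide (c ≠ 1920) || decide (s.w ≠ 0)))
        (by
          simp only [Bool.and_eq_true, Bool.or_eq_true, decide_eq_true_eq]
          refine ⟨⟨Fam11.tVal_eq h F hu, hks0.trans hθ11⟩, ?_⟩
          by_cases hc' : c = 1920
          · exact Or.inr fun hw => hne ⟨hc', hw⟩
          · exact Or.inl hc'))
    have hd := List.all_eq_true.mp dead_one c
      (List.mem_filter.mpr ⟨Local.cent_mem h hu,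
        decide_eq_true fun e => hc7 (Nat.dvd_of_mod_eq_zero e)⟩)
    rw [testEleven, hs] at hd
    exact Bool.noConfusion hd
  obtain ⟨hc1920, hw0⟩ := hsol
  have hv160 : ∀ χ : Cfsg.IrrCharacter G, deg χ = 160 → Family.iv u χ = 0 := by
    intro χ hd
    refine Family.iv_eq ?_
    rw [F.D.fam_regular χ (hmem160 χ hd) u (by rw [hu]; norm_num),
      (Family.iv_spec hG F.D.θ_ne_one hu h rfl).1]
    rw [hsw] at hw0
    rcases F.D.δ_unit with e | e <;> rw [e] at hw0 <;> simp at hw0 <;> simp [hw0]
  -- the family at `7` at that involution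
  obtain ⟨hks7, hsw7, -, -, hok, hT⟩ := Family.sums_spec hG hR D h (by norm_num) hu rfl
  obtain ⟨j, hj, hsq⟩ := Pairs.exists_square hR D E (by norm_num) hrel hu
  have hle := Pairs.card_invCls_le (P := R) u
  rw [hj, hC] at hle
  rw [h, hC, hT] at hsq
  have hz : RecogM22.Basic.tVal 10200960 (Family.sums D 10200960 u) =
      7 * (1920 : ℤ) ^ 2 * (j : ℤ) ^ 2 := by
    have h' : RecogM22.Basic.tVal 10200960 (Family.sums D 10200960 u) * ((7 : ℕ) : ℤ) =
        ((7 ^ 2 * c ^ 2 * j ^ 2 : ℕ) : ℤ) := by exact_mod_cast hsq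
    rw [hc1920] at h'
    push_cast at h' ⊢
    linarith
  have hextra : extra7 (Family.sums D 10200960 u) = true := by
    simp only [extra7, Bool.and_eq_true, Bool.or_eq_true, decide_eq_true_eq, List.elem_eq_mem,
      List.mem_cons, List.not_mem_nil, or_false, List.any_eq_true, hks7,
      Family.natAbs_unit D.δ_unit]
    refine ⟨⟨hθ7, ?_⟩, j, ?_, hz⟩
    · by_cases h' : (deg D.θ).natAbs = 160
      · have := RecogThree.M12.Basic.deg_nonneg D.θ
        exact Or.inr (by rw [hsw7, hv160 D.θ (by omega), mul_zero])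
      · exact Or.inl h'
    · omega
  have hpair : ∀ χ ∈ D.K, (deg χ).natAbs ≠ 253 →
      (Family.sk D χ, Family.sw D u χ) ∈ items7 := by
    intro χ hχ hne
    obtain ⟨m1, m2, m4, m5, m7⟩ := Family.member_spec hG hR D h hu rfl hχ
    rw [← hc, hc1920] at m4 m5
    have h0 := RecogThree.M12.Basic.deg_nonneg χ
    rw [items7, List.mem_append, List.mem_map, List.mem_singleton]
    rcases hdeg7 χ hχ with h' | h' | h'
    · left
      have hk : Family.sk D χ = 22 := by
        rw [Family.sk] at m7 ⊢
        rcases D.a_unit χ hχ with e | e <;> rw [e] at m7 ⊢ <;> omega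
      rw [hk] at m1 m2 m4 ⊢
      exact ⟨_, Items.mem_vals (by norm_num) (by norm_num) m1 m2 (by omega) m4 m5, rfl⟩
    · right
      rw [Family.sk, Family.sw, hv160 χ (by omega), mul_zero]
      rw [Family.sk, show deg χ = 160 by omega] at m7
      rw [show deg χ = 160 by omega]
      rcases D.a_unit χ hχ with e | e <;> rw [e] at m7 ⊢
      · norm_num at m7
      · norm_num
    · exact absurd h' hne
  have hd := dead_1920
  rw [testSeven, Bool.and_eq_true] at hd
  obtain ⟨hd0, hd1⟩ := hd
  rw [hc1920] at hc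
  rcases Nat.eq_zero_or_pos B.card with hB0 | hB0
  · have hs := Search.go_of_search (RecogM22.Search.ok_mono _ _) _ _ _
      (Family.search_eq_true hG hR D h (by norm_num) hu hc.symm hfam (lo := 2)
        (Seven.two_le_theta h hR D) (items := items7)
        (fun χ hχ => hpair χ hχ fun e => Finset.notMem_empty χ
          (Finset.card_eq_zero.mp hB0 ▸ Finset.mem_filter.mpr ⟨hχ, e⟩))
        hextra)
    exact absurd hs (Bool.eq_false_iff.mp ((Bool.not_eq_true' _).mp hd0))
  · obtain ⟨χ₀, hχ₀⟩ := Finset.card_eq_one.mp (show B.card = 1 by omega)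
    obtain ⟨hχK, h253⟩ : χ₀ ∈ D.K ∧ (deg χ₀).natAbs = 253 :=
      Finset.mem_filter.mp (show χ₀ ∈ B by rw [hχ₀]; exact Finset.mem_singleton_self _)
    have hk : Family.sk D χ₀ = 253 := by
      have m7 := (FirstPowerKills.signed_facts hperf hR D hχK).1
      have h0 := RecogThree.M12.Basic.deg_nonneg χ₀
      rw [Family.sk]
      rcases D.a_unit χ₀ hχK with e | e <;> rw [e] at m7 ⊢ <;> omega
    obtain ⟨m1, m2, m4, m5, -⟩ := Family.member_spec hG hR D h hu hc.symm hχK
    rw [hk] at m1 m2 m4
    have hw := List.all_eq_true.mp hd1 _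
      (Items.mem_vals (r := 1) (m := 4) (by norm_num) (by norm_num) m1 m2 (by omega) m4 m5)
    set l := ((D.K.erase χ₀).toList.map fun χ => (Family.sk D χ, Family.sw D u χ)) with hl
    have hperm : D.K.toList.Perm (χ₀ :: (D.K.erase χ₀).toList) := by
      refine (List.perm_ext_iff_of_nodup (Finset.nodup_toList _) ?_).mpr fun x => ?_
      · exact List.nodup_cons.mpr ⟨fun hm => by simp at hm, Finset.nodup_toList _⟩
      · rw [List.mem_cons, Finset.mem_toList, Finset.mem_toList, Finset.mem_erase]
        refine ⟨fun hx => ?_, fun hx => hx.elim (fun e => e ▸ hχK) fun hx => hx.2⟩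
        by_cases e : x = χ₀
        · exact Or.inl e
        · exact Or.inr ⟨e, hx⟩
    have hsums := Family2.sums_eq D 10200960 u hperm
    rw [List.map_cons, List.foldl_cons, hk, ← hl] at hsums
    have hlen : l.length = 4 := by
      have hcard := D.card_K
      rw [hl, List.length_map, Finset.length_toList, Finset.card_erase_of_mem hχK]
      omega
    have hfin := Family2.fin_sums hG hR D h (by norm_num) hu hc.symm hfam (lo := 2)
      (Seven.two_le_theta h hR D) hextra
    obtain ⟨-, -, -, -, hok', -⟩ := Family.sums_spec hG hR D h (by norm_num) hu hc.symm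
    rw [hsums] at hfin hok'
    have hs := RecogM22.Search.search_complete (fin := Family.fin 10200960 1920 7 6 1 2 extra7)
      (RecogM22.Search.add_comm' ((10200960 : ℕ) : ℤ))
      (RecogM22.Search.ok_mono ((10200960 : ℕ) : ℤ) ((1920 : ℕ) : ℤ)) items7 l _
      (fun x hx => by
        obtain ⟨χ, hχ, rfl⟩ := List.mem_map.mp hx
        obtain ⟨hne, hχ⟩ := Finset.mem_erase.mp (Finset.mem_toList.mp hχ)
        refine hpair χ hχ fun e => hne ?_
        have hm : χ ∈ B := Finset.mem_filter.mpr ⟨hχ, e⟩
        rwa [hχ₀, Finset.mem_singleton] at hm)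
      hok' hfin
    rw [hlen] at hs
    exact absurd (Search.go_of_search (RecogM22.Search.ok_mono _ _) _ _ _ hs)
      (Bool.eq_false_iff.mp ((Bool.not_eq_true' _).mp hw))

end Cfsg.Agent.Lib.RecogM23.One
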