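import Cfsg.Agent.Lib.RecogM23.Fam11
import Cfsg.Agent.Lib.RecogM23.CertTwo

/-!
Simple groups of order `10200960`: the index at the prime `7` is not two.
-/

set_option autoImplicit false
set_option linter.style.haveILetI false
set_option linter.unusedSectionVars false

namespace Cfsg.Agent.Lib.RecogM23.Seven

open Cfsg.Agent.Lib.Characters Cfsg.Agent.Lib.Characters.Basic
open Cfsg.Agent.Lib.Classif Cfsg.Agent.Lib.SmallGroups
open Cfsg.Agent.Lib.Classif.PrimeExceptional (deg)

universe u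

variable {G : Type u} [Group G] [Finite G] [IsSimpleGroup G] [Fact (Nat.Prime 7)]
  (h : Nat.card G = 10200960) {R : Sylow 7 G} (hR : Nat.card (R : Subgroup G) = 7)

include h hR

theorem sk_mem {e : ℕ} (D : FirstPowerData.Data R e) {χ : Cfsg.IrrCharacter G} (hK : χ ∈ D.K) :
    Family.sk D χ ∈ ks7 := by
  rw [← ks7_eq, List.mem_filter]
  refine ⟨Family.sk_mem (Base.not_comm h) hR D h hK ?_, ?_⟩
  · have := (FirstPowerKills.signed_facts (Sylow.commutator_eq_top (Base.not_comm h)) hR D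
      hK).2.1
    rwa [Family.natAbs_unit (D.a_unit χ hK)] at this
  · rw [Family.sk]
    exact Local.okd_signed h χ (D.a_unit χ hK)

theorem two_le_theta {e : ℕ} (D : FirstPowerData.Data R e) : 2 ≤ (deg D.θ).natAbs := by
  classical
  haveI := Fintype.ofFinite G
  have := PrimeExceptional.two_le_deg (Sylow.commutator_eq_top (Base.not_comm h)) D.θ D.θ_ne_one
  omega

theorem false_two (D : FirstPowerData.Data R 2) : False := by
  classical
  haveI := Fintype.ofFinite G
  haveI : Fact (Nat.Prime 11) := ⟨by norm_num⟩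
  have hG := Base.not_comm h
  have ht : D.fam.card = 3 := by have := D.fam_card; omega
  obtain ⟨χ, hK⟩ := Finset.card_eq_one.mp (show D.K.card = 1 by have := D.card_K; omega)
  have hχ : χ ∈ D.K := by rw [hK]; exact Finset.mem_singleton_self χ
  have h22 : Family.sk D χ = 22 := by
    by_contra hne
    refine DegSearch.false_of_dead hG hR D h ht (two_le_theta h hR D) (fun χ' hχ' => ?_)
      (Local.okd_signed h _ D.δ_unit) dead_two_deg
    rw [hK, Finset.mem_singleton] at hχ'
    subst hχ'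
    exact List.mem_filter.mpr ⟨sk_mem h hR D hχ, decide_eq_true hne⟩
  have h23 : deg D.θ = 23 := by
    have h1 := D.degree_eq
    rw [hK, Finset.sum_singleton, ← show Family.sk D χ = D.a χ * deg χ from rfl, h22] at h1
    have := RecogThree.M12.Basic.deg_nonneg D.θ
    rcases D.δ_unit with e' | e' <;> rw [e'] at h1 <;> omega
  obtain ⟨F⟩ := Fam11.exists_fam h
  have hsub : ∀ θ' ∈ D.fam, θ' ∈ F.D.K ∧ F.D.a θ' = 1 ∧ deg θ' = 23 := by
    intro θ' hθ'
    have hd : deg θ' = 23 := (D.fam_deg θ' hθ').trans h23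
    have hK' := Fam11.mem_K h F (fun e' => D.fam_one (e' ▸ hθ')) (by rw [hd]; norm_num)
    refine ⟨hK', ?_, hd⟩
    have := Fam11.K_cong h F hK'
    rcases F.D.a_unit θ' hK' with e' | e'
    · exact e'
    · rw [e', hd] at this; norm_num at this
  obtain ⟨ψ, hψ⟩ := Finset.card_eq_one.mp (show (F.D.K \ D.fam).card = 1 by
    rw [Finset.card_sdiff_of_subset (fun θ' hθ' => (hsub θ' hθ').1), Fam11.card_K h F, ht])
  have hψK : ψ ∈ F.D.K :=
    (Finset.mem_sdiff.mp (by rw [hψ]; exact Finset.mem_singleton_self ψ)).1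
  obtain ⟨⟨u₀⟩, hu⟩ : Nonempty G ∧ ∃ u : G, orderOf u = 2 := by
    haveI : Fact (Nat.Prime 2) := ⟨Nat.prime_two⟩
    exact ⟨⟨1⟩, exists_prime_orderOf_dvd_card' 2 (h ▸ by norm_num)⟩
  obtain ⟨u, hu⟩ := hu
  set c := Nat.card (Subgroup.centralizer ({u} : Set G)) with hc
  set w := Family.iv u D.θ
  have hval : ∀ θ' ∈ D.fam, (Family.sk F.D θ', Family.sw F.D u θ') = ((23 : ℤ), w) := by
    intro θ' hθ'
    obtain ⟨hK', ha, hd⟩ := hsub θ' hθ'
    rw [Family.sk, Family.sw, ha, hd, one_mul, one_mul]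
    congr 1
    refine Family.iv_eq ?_
    rw [D.fam_regular θ' hθ' u (by rw [hu]; norm_num)]
    exact (Family.iv_spec hG D.θ_ne_one hu h rfl).1
  set l : List (Cfsg.IrrCharacter G) := D.fam.toList ++ [ψ] with hl
  have hperm : F.D.K.toList.Perm l := by
    refine (List.perm_ext_iff_of_nodup (Finset.nodup_toList _) ?_).mpr fun x => ?_
    · rw [hl, List.nodup_append]
      refine ⟨Finset.nodup_toList _, List.nodup_singleton ψ, fun a ha b hb => ?_⟩
      rw [List.mem_singleton] at hb
      subst hb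
      intro e'
      subst e'
      have : a ∈ F.D.K \ D.fam := by rw [hψ]; exact Finset.mem_singleton_self a
      exact (Finset.mem_sdiff.mp this).2 (Finset.mem_toList.mp ha)
    · rw [hl, List.mem_append, List.mem_singleton, Finset.mem_toList, Finset.mem_toList]
      refine ⟨fun hx => ?_, fun hx => hx.elim (fun hx => (hsub x hx).1) (fun hx => hx ▸ hψK)⟩
      by_cases hf : x ∈ D.fam
      · exact Or.inl hf
      · right
        have : x ∈ F.D.K \ D.fam := Finset.mem_sdiff.mpr ⟨hx, hf⟩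
        rwa [hψ, Finset.mem_singleton] at this
  have hmap : l.map (fun χ => (Family.sk F.D χ, Family.sw F.D u χ)) =
      [((23 : ℤ), w), (23, w), (23, w), (Family.sk F.D ψ, Family.sw F.D u ψ)] := by
    rw [hl, List.map_append, List.map_congr_left (l := D.fam.toList)
      (g := fun _ => ((23 : ℤ), w)) fun x hx => hval x (Finset.mem_toList.mp hx),
      List.map_const', Finset.length_toList, ht]
    rfl
  have hk4 : Family.sk F.D ψ ∈ fourthK := by
    have h1 := List.all_eq_true.mp fourth_eq _ (Fam11.sk_mem h F hψK)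
    rw [Bool.or_eq_true, List.elem_eq_mem, decide_eq_true_eq, Bool.not_eq_true'] at h1
    refine h1.resolve_right fun h2 => ?_
    have hsum : ∀ f : ℤ → ℤ, ∑ χ ∈ F.D.K, f (Family.sk F.D χ) =
        3 * f 23 + f (Family.sk F.D ψ) := by
      intro f
      rw [← Finset.sum_sdiff (fun θ' hθ' => (hsub θ' hθ').1 : D.fam ⊆ F.D.K), hψ,
        Finset.sum_singleton, Finset.sum_congr rfl fun x hx => by
          rw [show Family.sk F.D x = 23 from congrArg Prod.fst (hval x hx)],
        Finset.sum_const, ht, nsmul_eq_mul]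
      push_cast
      ring
    have e1 : 1 + (3 * 23 + Family.sk F.D ψ) = F.D.δ * deg F.D.θ := by
      rw [← F.D.degree_eq, ← hsum fun k => k]; rfl
    have e2 : 1 + (3 * (23 * 23) + Family.sk F.D ψ * Family.sk F.D ψ) +
        2 * (deg F.D.θ * deg F.D.θ) ≤ (10200960 : ℤ) := by
      rw [← hsum fun k => k * k]
      have := F.D.square_sum
      rw [h, Fam11.card_fam h F] at this
      rw [Finset.sum_congr rfl fun χ hχ => by
        rw [Family.sk, Family.sq_unit (F.D.a_unit χ hχ), ← pow_two]]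
      push_cast at this
      linarith
    have hd := Family.deg_dvd F.D.θ h
    rw [Bool.eq_false_iff] at h2
    refine h2 ?_
    have hfold : [(23 : ℤ), 23, 23, Family.sk F.D ψ].foldl DegSearch.addK (1, 1) =
        (F.D.δ * deg F.D.θ, 1 + (3 * (23 * 23) + Family.sk F.D ψ * Family.sk F.D ψ)) := by
      rw [DegSearch.foldl_addK, ← e1]
      simp only [List.sum_cons, List.sum_nil, List.map_cons, List.map_nil]
      refine Prod.ext ?_ ?_ <;> ring
    rw [hfold]
    simp only [DegSearch.finK, Bool.and_eq_true, decide_eq_true_eq,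
      Family.natAbs_unit F.D.δ_unit, Family.sq_unit F.D.δ_unit]
    refine ⟨⟨⟨⟨Fam11.two_le_theta h F, Nat.mod_eq_zero_of_dvd ?_⟩,
      Int.emod_eq_zero_of_dvd (F.D.θ_cong F.hP)⟩, by push_cast; linarith⟩, Fam11.okd_theta h F⟩
    rw [← Int.natAbs_natCast 10200960, Int.natAbs_dvd_natAbs]; exact hd
  obtain ⟨m1, m2, m4, m5, -⟩ := Family.member_spec hG F.hP F.D h hu rfl hψK
  have hvψ : (Family.sk F.D ψ, Family.sw F.D u ψ) ∈
      Items.pairs 10200960 c 4 fourthK fun k => k % 4 :=
    Items.mem_pairs hk4 (Items.mem_vals (by norm_num) (by omega) m1 m2 (by omega) m4 m5)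
  obtain ⟨θ₀, hθ₀⟩ : ∃ θ₀, θ₀ ∈ D.fam := ⟨D.θ, D.θ_mem⟩
  have hv0 := hval θ₀ hθ₀
  obtain ⟨n1, n2, n4, n5, -⟩ := Family.member_spec hG F.hP F.D h hu rfl (hsub θ₀ hθ₀).1
  obtain ⟨hv1, hv2⟩ := Prod.mk.inj hv0
  rw [hv1] at n1 n2 n4
  rw [hv2] at n1 n2 n4 n5
  have hw : w ∈ Items.vals 10200960 c 4 23 (23 % 4) :=
    Items.mem_vals (by norm_num) (by norm_num) n1 n2 (by omega) n4 n5
  have hs := Family2.sums_eq F.D 10200960 u hperm
  rw [hmap] at hs
  have hd := List.all_eq_true.mp (List.all_eq_true.mp (List.all_eq_true.mp dead_two _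
    (Local.cent_mem h hu)) w hw) _ hvψ
  rw [← hs, Bool.not_eq_true', Bool.eq_false_iff] at hd
  refine hd (Family2.fin_sums hG F.hP F.D h (by norm_num) hu rfl (Fam11.card_fam h F)
    (Fam11.two_le_theta h F) (Bool.and_eq_true_iff.mpr ⟨decide_eq_true (Fam11.tVal_eq h F hu), ?_⟩))
  rw [(Family.sums_spec hG F.hP F.D h (by norm_num) hu rfl).1]
  exact Fam11.okd_theta h F

end Cfsg.Agent.Lib.RecogM23.Seven
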