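import Cfsg.Agent.Lib.RecogM23.Four
import Cfsg.Agent.Lib.RecogM23.Scott

/-!
Simple groups of order `10200960`: an involution and an element of order eleven with product of
order four fix a common vector in degree `22`.
-/

set_option autoImplicit false
set_option linter.style.haveILetI false
set_option linter.unusedSectionVars false

namespace Cfsg.Agent.Lib.RecogM23.Sub

open Cfsg.Agent.Lib.Characters Cfsg.Agent.Lib.Characters.Basic
open Cfsg.Agent.Lib.Classif
open Cfsg.Agent.Lib.Classif.PrimeExceptional (deg apply_one_eq)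
open Cfsg.Agent.Lib.RecogThree.M11 (Rep.avg Rep.avg_idem Rep.trace_avg Rep.eq_zero_of_trace)
open Cfsg.Agent.Lib.RecogM23.Table
open scoped ComplexConjugate

universe u

variable {G : Type u} [Group G] [Finite G] [IsSimpleGroup G] [Fact (Nat.Prime 7)]
  [Fact (Nat.Prime 11)] [Fact (Nat.Prime 23)] (h : Nat.card G = 10200960) (d : Data G)

include h

/-- The values in degree `22`. -/
theorem val_one_eq : (deg (d.ch 1) = 22) ∧ d.val 1 d.u = 6 := by
  refine ⟨d.deg_eq 1, ?_⟩
  have hne : d.ch 1 ≠ oneChar G := d.one ▸ d.ne (by decide)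
  rw [Data.val, (Family.iv_spec (Base.not_comm h) hne d.hu h rfl).1, d.iv_eq]
  norm_num [ts]

/-- The value at an element of order `23`. -/
theorem val_one_23 {z : G} (hz : orderOf z = 23) : d.val 1 z = -1 := by
  obtain ⟨S, hS⟩ := (IsPGroup.of_card (n := 1)
    (show Nat.card (Subgroup.zpowers z) = 23 ^ 1 by rw [Nat.card_zpowers, hz, pow_one])
    ).exists_le_sylow
  obtain ⟨g, hg⟩ := MulAction.exists_smul_eq G S d.T.P
  have hmem : g * z * g⁻¹ ∈ (d.T.P : Subgroup G) := by
    rw [← hg, Sylow.coe_subgroup_smul, Subgroup.mem_pointwise_smul_iff_inv_smul_mem,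
      MulAut.smul_def, ← map_inv, MulAut.conj_apply]
    simpa [mul_assoc] using hS (Subgroup.mem_zpowers z)
  have hne : g * z * g⁻¹ ≠ 1 := fun e => by
    rw [conj_eq_one_iff] at e
    rw [e, orderOf_one] at hz
    omega
  have hK := (d.K23 (d.ch 1)).mpr (Or.inl rfl)
  have h1 := d.T.D.value _ hK _ hmem hne 1 (one_mem _) (by rw [orderOf_one]; norm_num)
  rw [mul_one, d.a23.1] at h1
  rw [Data.val, ← isClassFunction_irr (d.ch 1) z g, h1]
  norm_num

/-- The subgroup fixes a vector. -/
theorem proper {b : G} (hb : orderOf b = 4) (hbu : b * b = d.u) {I : ℤ}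
    (hI : d.val 1 b = 2 + (I : ℂ) * Complex.I) {q : G} (hq : q ∈ (d.F.P : Subgroup G))
    (hq1 : q ≠ 1) {a : G} (ha : IsConj d.u a) (hx : IsConj b (a⁻¹ * q)) :
    Subgroup.closure ({a, q} : Set G) ≠ ⊤ ∧
      ¬ 23 ∣ Nat.card (Subgroup.closure ({a, q} : Set G)) := by
  classical
  haveI := Fintype.ofFinite G
  obtain ⟨n, ρ, hirr, hρ⟩ := exists_rep (d.ch 1)
  haveI := hirr
  obtain ⟨hd22, hu6⟩ := val_one_eq h d
  have hn : (n : ℤ) = 22 := (RecogThree.M12.Basic.rep_deg (d.ch 1) hρ).trans hd22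
  have hn' : n = 22 := by omega
  have hconj : ∀ {g g' : G}, IsConj g g' → d.val 1 g' = d.val 1 g := fun hc =>
    classFunction_apply_of_isConj (isClassFunction_irr (d.ch 1)) hc.symm
  have h1 : d.val 1 1 = 22 := by rw [Data.val, apply_one_eq, hd22]; norm_num
  set x := a⁻¹ * q
  obtain ⟨g, hg⟩ := isConj_iff.mp hx
  have ha2 : a ^ 2 = 1 := by
    obtain ⟨c, hc⟩ := isConj_iff.mp ha
    rw [← hc, conj_pow, ← d.hu, pow_orderOf_eq_one, mul_one, mul_inv_cancel]
  have hx4 : x ^ 4 = 1 := by
    rw [← hg, conj_pow, ← hb, pow_orderOf_eq_one, mul_one, mul_inv_cancel]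
  have hq11 : q ^ 11 = 1 := by
    have := pow_card_eq_one' (x := (⟨q, hq⟩ : (d.F.P : Subgroup G)))
    rw [d.F.hP] at this
    exact congrArg Subtype.val this
  have htra : LinearMap.trace ℂ _ (Rep.avg ρ a 2) = ((14 : ℕ) : ℂ) := by
    rw [Rep.trace_avg, hρ]
    simp only [Finset.sum_range_succ, Finset.sum_range_zero, pow_zero, pow_one, zero_add]
    change ((2 : ℕ) : ℂ)⁻¹ * (d.val 1 1 + d.val 1 a) = _
    rw [h1, hconj ha, hu6]
    norm_num
  have htrx : LinearMap.trace ℂ _ (Rep.avg ρ x 4) = ((8 : ℕ) : ℂ) := by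
    rw [Rep.trace_avg, hρ]
    simp only [Finset.sum_range_succ, Finset.sum_range_zero, pow_zero, pow_one, zero_add]
    change ((4 : ℕ) : ℂ)⁻¹ * (d.val 1 1 + d.val 1 x + d.val 1 (x ^ 2) + d.val 1 (x ^ 3)) = _
    have h2 : IsConj d.u (x ^ 2) := isConj_iff.mpr ⟨g, by rw [← hg, conj_pow, pow_two, hbu]⟩
    have h3 : x ^ 3 = x⁻¹ := eq_inv_of_mul_eq_one_left (by rw [← pow_succ, hx4])
    rw [h1, hconj h2, hu6, h3,
      show d.val 1 x⁻¹ = conj (d.val 1 x) from apply_inv (isCharacter_irr _) x, hconj hx, hI]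
    simp only [map_add, map_mul, map_ofNat, map_intCast, Complex.conj_I]
    norm_num
    ring
  have htrq : LinearMap.trace ℂ _ (Rep.avg ρ q 11) = ((2 : ℕ) : ℂ) := by
    rw [Rep.trace_avg, hρ, Finset.sum_range_succ', pow_zero]
    rw [Finset.sum_eq_zero fun i hi => ?_]
    · change ((11 : ℕ) : ℂ)⁻¹ * (0 + d.val 1 1) = _
      rw [h1]
      norm_num
    · have hqi : q ^ (i + 1) ≠ 1 := pow_ne_one_of_lt_orderOf (Nat.succ_ne_zero i) (by
        rw [orderOf_eq_prime hq11 hq1]; have := Finset.mem_range.mp hi; omega)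
      refine Tools.apply_eq_zero_of_dvd (q := 11) (a := 1) (r := 927360) (by norm_num)
        (by rw [h]; norm_num) (by norm_num) _ (by rw [hd22]; norm_num) ?_
      rw [orderOf_eq_prime (p := 11) (by rw [← pow_mul, mul_comm, pow_mul, hq11, one_pow]) hqi]
  have hfin : Module.finrank ℂ (Fin n → ℂ) = 22 := by rw [Module.finrank_fin_fun, hn']
  have r1 := Scott.finrank_range_add_le ρ (by norm_num : 2 ≠ 0) ha2 htra
  have r2 := Scott.finrank_range_add_le ρ (by norm_num : 4 ≠ 0) hx4 htrx
  have r3 := Scott.finrank_range_add_le ρ (by norm_num : 11 ≠ 0) hq11 htrq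
  have hax : a * x = q := mul_inv_cancel_left a q
  obtain ⟨w, hw0, hw⟩ := Scott.exists_fixed ρ a x (by rw [hax]; omega)
  have hH : Subgroup.closure ({a, q} : Set G) ≤ Subgroup.closure ({a, x} : Set G) := by
    rw [Subgroup.closure_le]
    rintro y (rfl | rfl)
    · exact Subgroup.subset_closure (by simp)
    · rw [← hax]
      exact mul_mem (Subgroup.subset_closure (by simp)) (Subgroup.subset_closure (by simp))
  have hw' : ∀ y ∈ Subgroup.closure ({a, q} : Set G), ρ y w = w := fun y hy => hw y (hH hy)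
  refine ⟨fun htop => ?_, fun h23 => ?_⟩
  · let W : Subrepresentation ρ :=
      { toSubmodule := Submodule.span ℂ {w}
        apply_mem_toSubmodule := fun y v hv => by
          obtain ⟨c, rfl⟩ := Submodule.mem_span_singleton.mp hv
          rw [map_smul, hw' y (htop ▸ Subgroup.mem_top y)]
          exact Submodule.smul_mem _ _ (Submodule.mem_span_singleton_self w) }
    rcases eq_bot_or_eq_top W with e | e
    · have : W.toSubmodule = ⊥ := by rw [e]; rfl
      exact hw0 ((Submodule.span_singleton_eq_bot).mp this)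
    · have : W.toSubmodule = ⊤ := by rw [e]; rfl
      have hle := finrank_span_singleton (K := ℂ) hw0
      rw [show Submodule.span ℂ {w} = ⊤ from this, finrank_top, hfin] at hle
      omega
  · obtain ⟨⟨z, hzH⟩, hz⟩ := exists_prime_orderOf_dvd_card'
      (G := Subgroup.closure ({a, q} : Set G)) 23 h23
    rw [Subgroup.orderOf_mk] at hz
    have hz23 : z ^ 23 = 1 := by rw [← hz, pow_orderOf_eq_one]
    have htrz : LinearMap.trace ℂ _ (Rep.avg ρ z 23) = 0 := by
      rw [Rep.trace_avg, hρ, Finset.sum_range_succ', pow_zero]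
      rw [Finset.sum_congr rfl (g := fun _ => (-1 : ℂ)) fun i hi => ?_]
      · change ((23 : ℕ) : ℂ)⁻¹ * (_ + d.val 1 1) = _
        rw [h1, Finset.sum_const, Finset.card_range]
        norm_num
      · refine val_one_23 h d ?_
        refine orderOf_eq_prime (by rw [← pow_mul, mul_comm, pow_mul, hz23, one_pow]) ?_
        exact pow_ne_one_of_lt_orderOf (Nat.succ_ne_zero i) (by
          rw [hz]; have := Finset.mem_range.mp hi; omega)
    have hE := Rep.eq_zero_of_trace _ (Rep.avg_idem ρ (by norm_num : 23 ≠ 0) hz23) htrz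
    refine hw0 ?_
    have hEw : Rep.avg ρ z 23 w = w := by
      rw [Rep.avg, LinearMap.smul_apply, LinearMap.sum_apply,
        Finset.sum_congr rfl fun i _ => hw' _ (pow_mem hzH i), Finset.sum_const, Finset.card_range,
        ← Nat.cast_smul_eq_nsmul ℂ, smul_smul]
      norm_num
    rw [← hEw, hE, LinearMap.zero_apply]

end Cfsg.Agent.Lib.RecogM23.Sub
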