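import Cfsg.Agent.Lib.Characters.DefectZero
import Cfsg.Agent.Lib.RecogM23.Family

/-!
Local tools: a member of a family has degree not divisible by the full power of a prime dividing
the centraliser, and a characteristic Sylow subgroup of `C(P)`.
-/

set_option autoImplicit false
set_option linter.style.haveILetI false
set_option linter.unusedSectionVars false

namespace Cfsg.Agent.Lib.RecogM23.Tools

open Cfsg.Agent.Lib.Characters Cfsg.Agent.Lib.Characters.Basic
open Cfsg.Agent.Lib.Classif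
open Cfsg.Agent.Lib.Classif.PrimeExceptional (deg apply_one_eq natAbs_deg)

universe u

variable {G : Type u} [Group G] [Finite G]

/-- A character whose degree contains the whole power of `q` vanishes on `q`-singular elements. -/
theorem apply_eq_zero_of_dvd {q a r : ℕ} (hq : q.Prime) (hG : Nat.card G = q ^ a * r)
    (hr : ¬ q ∣ r) (χ : Cfsg.IrrCharacter G) (hd : ((q ^ a : ℕ) : ℤ) ∣ deg χ) {x : G}
    (hx : q ∣ orderOf x) : (χ : G → ℂ) x = 0 := by
  obtain ⟨f, hf⟩ := hd
  have h0 : (0 : ℤ) ≤ f := by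
    have h : 0 ≤ ((q ^ a : ℕ) : ℤ) * f := hf ▸ RecogThree.M12.Basic.deg_nonneg χ
    exact nonneg_of_mul_nonneg_right h (by exact_mod_cast pow_pos hq.pos a)
  refine DefectZero.apply_eq_zero hq χ hG hr (e := f.toNat) ?_ hx
  rw [apply_one_eq, hf, Nat.cast_mul]
  rw [Int.cast_mul, Int.cast_natCast]
  congr 1
  rw [show ((f.toNat : ℕ) : ℂ) = (((f.toNat : ℕ) : ℤ) : ℂ) by norm_cast, Int.toNat_of_nonneg h0]

variable {p : ℕ} [hp : Fact p.Prime] {P : Sylow p G} (hP : Nat.card (P : Subgroup G) = p)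
  {e : ℕ} (D : FirstPowerData.Data P e)

include hP in
/-- A prime dividing `|C(P)|` does not occur to its full power in the degree of a member. -/
theorem not_dvd_deg {q a r : ℕ} (hq : q.Prime) (hqp : q ≠ p) (hG : Nat.card G = q ^ a * r)
    (hr : ¬ q ∣ r) (hC : q ∣ Nat.card (Subgroup.centralizer ((P : Subgroup G) : Set G)))
    {χ : Cfsg.IrrCharacter G} (hχ : χ ∈ D.K) : ¬ ((q ^ a : ℕ) : ℤ) ∣ deg χ := by
  intro hd
  haveI : Fact q.Prime := ⟨hq⟩
  obtain ⟨⟨v, hv⟩, hvo⟩ := exists_prime_orderOf_dvd_card'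
    (G := Subgroup.centralizer ((P : Subgroup G) : Set G)) q hC
  rw [Subgroup.orderOf_mk] at hvo
  obtain ⟨⟨y, hy⟩, hyo⟩ := exists_prime_orderOf_dvd_card' (G := (P : Subgroup G)) p (by rw [hP])
  rw [Subgroup.orderOf_mk] at hyo
  have hy1 : y ≠ 1 := fun h => by rw [h, orderOf_one] at hyo; exact hp.out.ne_one hyo.symm
  have hpv : ¬ p ∣ orderOf v := by
    rw [hvo]; exact fun h => hqp ((Nat.prime_dvd_prime_iff_eq hp.out hq).mp h).symm
  have hval := D.value χ hχ y hy hy1 v hv hpv
  have hcomm : Commute y v := Subgroup.mem_centralizer_iff.mp hv y hy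
  have hord : q ∣ orderOf (y * v) := by
    rw [hcomm.orderOf_mul_eq_mul_orderOf_of_coprime
      (by rw [hyo, hvo]; exact (Nat.coprime_primes hp.out hq).mpr (Ne.symm hqp)), hvo, hyo]
    exact dvd_mul_left q p
  rw [apply_eq_zero_of_dvd hq hG hr χ hd hord] at hval
  rcases D.a_unit χ hχ with h | h <;> rw [h] at hval <;> norm_num at hval

/-- If `C(P)` has exactly one Sylow `q`-subgroup, and that is one of `G`, then `N(P)` normalises
it. -/
theorem exists_normalizer_le {q : ℕ} [Fact q.Prime] (C : Subgroup G) (R : Sylow q G)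
    (hRC : (R : Subgroup G) ≤ C) (h1 : Nat.card (Sylow q C) = 1) :
    Subgroup.normalizer (C : Set G) ≤ Subgroup.normalizer ((R : Subgroup G) : Set G) := by
  intro g hg
  haveI : Subsingleton (Sylow q C) := (Nat.card_eq_one_iff_unique.mp h1).1
  have hgR : ((g • R : Sylow q G) : Subgroup G) ≤ C := by
    intro z hz
    rw [Sylow.coe_subgroup_smul, Subgroup.mem_pointwise_smul_iff_inv_smul_mem, MulAut.smul_def,
      ← map_inv, MulAut.conj_apply, inv_inv] at hz
    have := (Subgroup.mem_normalizer_iff.mp hg (g⁻¹ * z * g)).mp (hRC hz)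
    simpa [mul_assoc] using this
  have h := Sylow.subtype_injective (hP := hgR) (hQ := hRC)
    (Subsingleton.elim ((g • R).subtype hgR) (R.subtype hRC))
  exact Sylow.smul_eq_iff_mem_normalizer.mp h

end Cfsg.Agent.Lib.RecogM23.Tools
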