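import Cfsg.Agent.Lib.RecogM23.CertTwentythree
import Cfsg.Agent.Lib.RecogM23.Tools

/-!
Simple groups of order `10200960`: the Sylow subgroups of order `23` are self-centralising, with
normalisers of order `253`.
-/

set_option autoImplicit false
set_option linter.style.haveILetI false
set_option linter.unusedSectionVars false

namespace Cfsg.Agent.Lib.RecogM23.Twentythree

open Cfsg.Agent.Lib.Classif Cfsg.Agent.Lib.SmallGroups
open Cfsg.Agent.Lib.Classif.PrimeExceptional (deg)
open Cfsg.Agent.Lib.RecogM22 (Pairs.T_eq_zero Options.exists_opt Options.mem_divs)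
open Cfsg.Agent.Lib.RecogThree.M12 (Full.Extra Full.exists_full)

universe u

variable {G : Type u} [Group G] [Finite G] [IsSimpleGroup G] (h : Nat.card G = 10200960)

include h

/-- With a centre of order `805` or `1610` the Sylow normaliser lies in that of a subgroup of order
seven. -/
theorem false_of_seven [Fact (Nat.Prime 23)] (P : Sylow 23 G)
    (hn : Nat.card (Sylow 23 G) = 576)
    (hc : Nat.card (Subgroup.centralizer ((P : Subgroup G) : Set G)) = 1610 ∨
      Nat.card (Subgroup.centralizer ((P : Subgroup G) : Set G)) = 805) : False := by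
  classical
  haveI : Fact (Nat.Prime 7) := ⟨by norm_num⟩
  set C := Subgroup.centralizer ((P : Subgroup G) : Set G)
  have h7C : 7 ∣ Nat.card C := by rcases hc with e | e <;> rw [e] <;> norm_num
  obtain ⟨⟨z, hzC⟩, hz⟩ := exists_prime_orderOf_dvd_card' (G := C) 7 h7C
  rw [Subgroup.orderOf_mk] at hz
  obtain ⟨R, hR⟩ := (IsPGroup.of_card (n := 1)
    (show Nat.card (Subgroup.zpowers z) = 7 ^ 1 by rw [Nat.card_zpowers, hz, pow_one])
    ).exists_le_sylow
  have hR7 : Nat.card (R : Subgroup G) = 7 := by
    rw [Sylow.card_sylow_eq R (a := 1) (m := 1457280) (by rw [h]; norm_num) (by norm_num), pow_one]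
  have hRz : Subgroup.zpowers z = (R : Subgroup G) :=
    Subgroup.eq_of_le_of_card_ge hR (by rw [hR7, Nat.card_zpowers, hz])
  have hRC : (R : Subgroup G) ≤ C := hRz ▸ Subgroup.zpowers_le.mpr hzC
  have hn7C : Nat.card (Sylow 7 C) = 1 := by
    have hmod : Nat.card (Sylow 7 C) % 7 = 1 := Sylow.card_sylow_mod
    have hdvd : Nat.card (Sylow 7 C) ∣ 230 := by
      rcases hc with e | e
      · exact Sylow.card_sylow_dvd (a := 1) (m := 230) (by rw [e]; norm_num) (by norm_num)
      · exact (Sylow.card_sylow_dvd (a := 1) (m := 115) (by rw [e]; norm_num)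
          (by norm_num)).trans (by norm_num)
    have hmem := Options.mem_divs (by norm_num : (230 : ℕ) ≠ 0) hdvd
    have key : ∀ d ∈ RecogM22.Options.divs 230, d % 7 = 1 → d = 1 := by decide +kernel
    exact key _ hmem hmod
  have hle : Subgroup.normalizer ((P : Subgroup G) : Set G) ≤
      Subgroup.normalizer ((R : Subgroup G) : Set G) := by
    refine le_trans (fun g hg => ?_) (Tools.exists_normalizer_le C R hRC hn7C)
    rw [Subgroup.mem_normalizer_iff]
    intro a
    simp only [C, Subgroup.mem_centralizer_iff, SetLike.mem_coe] at *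
    constructor
    · intro ha y hy
      have h1 := ha (g⁻¹ * y * g) ((Subgroup.mem_normalizer_iff''.mp hg y).mp hy)
      calc y * (g * a * g⁻¹) = g * ((g⁻¹ * y * g) * a) * g⁻¹ := by group
        _ = g * a * g⁻¹ * y := by rw [h1]; group
    · intro ha y hy
      have h1 := ha (g * y * g⁻¹) ((Subgroup.mem_normalizer_iff.mp hg y).mp hy)
      calc y * a = g⁻¹ * ((g * y * g⁻¹) * (g * a * g⁻¹)) * g := by group
        _ = a * y := by rw [h1]; group
  set N := Subgroup.normalizer ((R : Subgroup G) : Set G)
  have hPN : (P : Subgroup G) ≤ N := Subgroup.le_normalizer.trans hle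
  have hk : Nat.card (Sylow 23 N) =
      (Subgroup.normalizer (((P : Subgroup G).subgroupOf N : Subgroup N) : Set N)).index :=
    Sylow.card_eq_index_normalizer (P.subtype hPN)
  rw [← Subgroup.subgroupOf_normalizer_eq hPN] at hk
  have hmod : Nat.card (Sylow 23 N) % 23 = 1 := Sylow.card_sylow_mod
  rw [hk, ← Subgroup.relIndex] at hmod
  have hn7 : Nat.card (Sylow 7 G) = N.index := R.card_eq_index_normalizer
  have hmod7 : Nat.card (Sylow 7 G) % 7 = 1 := Sylow.card_sylow_mod
  have hne := Sylow.card_sylow_ne_one (p := 7) (a := 1) (m := 1457280)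
    (show Nat.card G = 7 ^ 1 * 1457280 by rw [h]; norm_num) (by norm_num) one_ne_zero (by norm_num)
  rw [hn7] at hmod7 hne
  have hprod := Subgroup.relIndex_mul_index hle
  rw [show (Subgroup.normalizer ((P : Subgroup G) : Set G)).index = 576 from
    P.card_eq_index_normalizer.symm.trans hn] at hprod
  set k := (Subgroup.normalizer ((P : Subgroup G) : Set G)).relIndex N
  have hk0 : 0 < k := Nat.pos_of_ne_zero fun e => by simp [e] at hprod
  have h7 : 576 / k = N.index := by rw [← hprod, Nat.mul_div_cancel_left _ hk0]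
  have := divs_576 k (Options.mem_divs (by norm_num) ⟨_, hprod.symm⟩) hmod (by rw [h7]; exact hmod7)
  rw [this, Nat.div_self (by norm_num)] at h7
  exact hne h7.symm

/-- The Sylow subgroups of order `23`. -/
theorem data [Fact (Nat.Prime 23)] : ∀ P : Sylow 23 G,
    Nat.card (P : Subgroup G) = 23 ∧ Nat.card (Sylow 23 G) = 40320 ∧
      Nat.card (Subgroup.centralizer ((P : Subgroup G) : Set G)) = 23 ∧
      Nat.card (Subgroup.normalizer ((P : Subgroup G) : Set G)) = 253 := by
  classical
  haveI := Fintype.ofFinite G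
  have hG := Base.not_comm h
  have hn : Nat.card (Sylow 23 G) = 40320 := by
    obtain ⟨n, e, c, hmem, hP, hn, hce, -, hC, hN, hrel⟩ := Options.exists_opt hG (m₁ := 1152)
      (m₂ := 385) h (by norm_num) (by norm_num) (by norm_num) (by norm_num)
      (default : Sylow 23 G)
    set P : Sylow 23 G := default
    have hl := List.all_eq_true.mp opts_twentythree _ hmem
    simp only [Bool.or_eq_true, decide_eq_true_eq, List.elem_eq_mem, List.mem_cons,
      List.not_mem_nil, or_false] at hl
    rcases hl with hl | hl
    · rw [hn]; exact (Prod.mk.inj hl).1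
    exfalso
    have hcases : ((n = 576 ∧ (c = 1610 ∨ c = 805)) ∨
        ((c = 23 * 576 ∨ c = 23 * 288 ∨ c = 23 * 24 ∨ c = 23 * 12) ∧ (e = 11 ∨ e = 22))) := by
      rcases hl with hl | hl | hl | hl | hl | hl <;> obtain ⟨rfl, rfl⟩ := Prod.mk.inj hl <;> omega
    rcases hcases with ⟨rfl, hc'⟩ | ⟨hc', he⟩
    · exact false_of_seven h P hn (hC ▸ hc')
    obtain ⟨D, ⟨E⟩⟩ := Full.exists_full P hP hrel
    have h2 : 2 ∣ Nat.card (Subgroup.centralizer ((P : Subgroup G) : Set G)) := by
      rw [hC]; omega
    have h3 : 3 ∣ Nat.card (Subgroup.centralizer ((P : Subgroup G) : Set G)) := by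
      rw [hC]; omega
    obtain ⟨u, huC, hu, hcu⟩ := Base.exists_involution h (by norm_num) hP h2
    set cu := Nat.card (Subgroup.centralizer ({u} : Set G)) with hcu'
    have hlo := PrimeDegrees.two_mul_le_of_centralizer hG hP hC (by omega) (by omega)
      (by rcases hc' with e' | e' | e' | e' <;> rw [e'] <;> norm_num) D
    have hmem : ∀ χ ∈ D.K, (Family.sk D χ, Family.sw D u χ) ∈ items cu := by
      intro χ hχ
      obtain ⟨m1, m2, m4, m5, -⟩ := Family.member_spec hG hP D h hu hcu'.symm hχ
      have hk := Family.sk_mem hG hP D h hχ (hlo.1 χ hχ)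
      rw [show 2 * 23 = 46 by norm_num, cands_eq] at hk
      have hk' : Family.sk D χ ∈ ks := by
        rw [← ks_filter, List.mem_filter, Bool.and_eq_true, decide_eq_true_eq, decide_eq_true_eq]
        refine ⟨hk, fun hz => ?_, fun hz => ?_⟩
        · refine Tools.not_dvd_deg hP D (q := 3) (a := 2) (r := 1133440) (by norm_num)
            (by norm_num) (by rw [h]; norm_num) (by norm_num) h3 hχ ?_
          have hd := Int.dvd_of_emod_eq_zero hz
          rw [Family.sk] at hd
          rcases D.a_unit χ hχ with e' | e' <;> rw [e'] at hd <;> simpa using hd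
        · refine Tools.not_dvd_deg hP D (q := 2) (a := 7) (r := 79695) Nat.prime_two
            (by norm_num) (by rw [h]; norm_num) (by norm_num) h2 hχ ?_
          have hd := Int.dvd_of_emod_eq_zero hz
          rw [Family.sk] at hd
          rcases D.a_unit χ hχ with e' | e' <;> rw [e'] at hd <;> simpa using hd
      exact Items.mem_pairs hk' (Items.mem_vals (by norm_num) (by norm_num) m1 m2
        (Family.sw_cong hG hP D (by norm_num) h hu hcu'.symm huC hχ) m4 m5)
    have hfam := D.fam_card
    rcases he with rfl | rfl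
    · have ht : D.fam.card = 2 := by omega
      obtain ⟨-, -, -, -, -, hT⟩ := Family.sums_spec hG hP D h (by norm_num) hu hcu'.symm
      rw [Pairs.T_eq_zero hP D E (by norm_num) hrel (by decide) hu hu, zero_mul] at hT
      have h0 : RecogM22.Basic.tVal 10200960 (Family.sums D 10200960 u) = 0 := by
        exact_mod_cast hT.symm
      have hs := Family.search_eq_true hG hP D h (by norm_num) hu hcu'.symm ht (lo := 46) hlo.2 hmem
        (extra := fun s => decide (RecogM22.Basic.tVal 10200960 s = 0)) (decide_eq_true h0)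
      have hd := List.all_eq_true.mp dead_eleven _ hcu
      rw [dead, Search.go_of_search (RecogM22.Search.ok_mono _ _) _ _ _ hs] at hd
      exact Bool.noConfusion hd
    · have ht : D.fam.card = 1 := by omega
      have hs := Family.search_eq_true hG hP D h (by norm_num) hu hcu'.symm ht (lo := 46) hlo.2 hmem
        (extra := fun _ => true) rfl
      have hd := List.all_eq_true.mp dead_twentytwo _ hcu
      rw [dead, Search.go_of_search (RecogM22.Search.ok_mono _ _) _ _ _ hs] at hd
      exact Bool.noConfusion hd
  intro P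
  have hP : Nat.card (P : Subgroup G) = 23 := by
    rw [Sylow.card_sylow_eq P (a := 1) (m := 443520) (by rw [h]; norm_num) (by norm_num), pow_one]
  have hN := Sylow.card_normalizer_mul P
  rw [hn, h] at hN
  have hN' : Nat.card (Subgroup.normalizer ((P : Subgroup G) : Set G)) = 253 := by omega
  refine ⟨hP, hn, ?_, hN'⟩
  obtain ⟨e, c, he, he1, hc, hC, hce⟩ := Sylow.exists_normalizer_factor hG P hP
  rw [hN'] at hce
  obtain ⟨d, rfl⟩ := hc
  have he5 : e = 11 := by
    have h55 : e ∣ 253 := ⟨23 * d, by linarith⟩
    have := Nat.le_of_dvd (by norm_num) he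
    interval_cases e <;> simp_all
  subst he5
  rw [hC]; omega

end Cfsg.Agent.Lib.RecogM23.Twentythree
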