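import Cfsg.Agent.Lib.RecogM23.SevenData
import Cfsg.Agent.Lib.RecogM23.CertTable
import Cfsg.Agent.Lib.RecogM23.Twentythree

/-!
Simple groups of order `10200960`: the degrees and the values at the involution with centraliser of
order `2688`.
-/

set_option autoImplicit false
set_option linter.style.haveILetI false
set_option linter.unusedSectionVars false

namespace Cfsg.Agent.Lib.RecogM23.Table

open Cfsg.Agent.Lib.Characters Cfsg.Agent.Lib.Characters.Basic
open Cfsg.Agent.Lib.Classif Cfsg.Agent.Lib.SmallGroups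
open Cfsg.Agent.Lib.Classif.PrimeExceptional (deg apply_one_eq deg_oneChar)
open Cfsg.Agent.Lib.RecogM22 (Pairs.T Pairs.T_eq_zero)
open Cfsg.Agent.Lib.RecogM22.Search (Sums add init ok)
open Cfsg.Agent.Lib.RecogThree.M12 (Full.Extra Full.exists_full)

universe u

/-- The degrees. -/
def dgs : Fin 17 → ℤ :=
  ![1, 22, 45, 45, 230, 231, 231, 231, 253, 770, 770, 896, 896, 990, 990, 1035, 2024]

/-- The values at the involution. -/
def ts : Fin 17 → ℤ := ![1, 6, -3, -3, 22, 7, 7, 7, 13, -14, -14, 0, 0, -18, -18, 27, 8]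

/-- The family at `23`. -/
structure Fam (G : Type u) [Group G] [Finite G] [Fact (Nat.Prime 23)] where
  P : Sylow 23 G
  hP : Nat.card (P : Subgroup G) = 23
  hC : Subgroup.centralizer ((P : Subgroup G) : Set G) = P
  hrel : (Subgroup.centralizer ((P : Subgroup G) : Set G)).relIndex
    (Subgroup.normalizer ((P : Subgroup G) : Set G)) = 11
  D : FirstPowerData.Data P 11
  E : Full.Extra P D

/-- The characters of the group, with their families. -/
structure Data (G : Type u) [Group G] [Finite G] [Fact (Nat.Prime 7)] [Fact (Nat.Prime 11)]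
    [Fact (Nat.Prime 23)] where
  u : G
  hu : orderOf u = 2
  hc : Nat.card (Subgroup.centralizer ({u} : Set G)) = 2688
  S : SevenU.Fam G
  hSu : Subgroup.centralizer ((S.R : Subgroup G) : Set G) ≤ Subgroup.centralizer ({u} : Set G)
  F : Fam11.Fam G
  T : Fam G
  ch : Fin 17 → Cfsg.IrrCharacter G
  bij : Function.Bijective ch
  one : ch 0 = oneChar G
  deg_eq : ∀ i, deg (ch i) = dgs i
  iv_eq : ∀ i, Family.iv u (ch i) = ts i
  K11 : ∀ χ, χ ∈ F.D.K ↔ χ = ch 2 ∨ χ = ch 3 ∨ χ = ch 4 ∨ χ = ch 15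
  a11 : F.D.a (ch 2) = 1 ∧ F.D.a (ch 3) = 1 ∧ F.D.a (ch 4) = -1 ∧ F.D.a (ch 15) = 1 ∧ F.D.δ = 1
  fam11 : ∀ χ, χ ∈ F.D.fam ↔ χ = ch 11 ∨ χ = ch 12
  K7 : ∀ χ, χ ∈ S.D.K ↔ χ = ch 15 ∨ χ = ch 16
  a7 : S.D.a (ch 15) = -1 ∧ S.D.a (ch 16) = 1 ∧ S.D.δ = 1
  fam7 : ∀ χ, χ ∈ S.D.fam ↔ χ = ch 13 ∨ χ = ch 14
  K23 : ∀ χ, χ ∈ T.D.K ↔ χ = ch 1 ∨ χ = ch 2 ∨ χ = ch 3 ∨ χ = ch 5 ∨ χ = ch 6 ∨ χ = ch 7 ∨
    χ = ch 11 ∨ χ = ch 12 ∨ χ = ch 13 ∨ χ = ch 14
  a23 : T.D.a (ch 1) = -1 ∧ T.D.a (ch 2) = -1 ∧ T.D.a (ch 3) = -1 ∧ T.D.a (ch 5) = 1 ∧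
    T.D.a (ch 6) = 1 ∧ T.D.a (ch 7) = 1 ∧ T.D.a (ch 11) = -1 ∧ T.D.a (ch 12) = -1 ∧
    T.D.a (ch 13) = 1 ∧ T.D.a (ch 14) = 1 ∧ T.D.δ = 1
  fam23 : ∀ χ, χ ∈ T.D.fam ↔ χ = ch 9 ∨ χ = ch 10

/-- A degree and a value from a signed pair. -/
theorem of_signed {a d w k v : ℤ} (ha : a = 1 ∨ a = -1) (hd : 0 ≤ d) (h1 : a * d = k)
    (h2 : a * w = v) : (0 < k → a = 1 ∧ d = k ∧ w = v) ∧ (k < 0 → a = -1 ∧ d = -k ∧ w = -v) := by
  rcases ha with rfl | rfl <;> constructor <;> intro h <;> refine ⟨?_, ?_, ?_⟩ <;> omega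

variable {G : Type u} [Group G] [Finite G] [IsSimpleGroup G] [Fact (Nat.Prime 7)]
  [Fact (Nat.Prime 11)] [Fact (Nat.Prime 23)] (h : Nat.card G = 10200960)

include h

theorem exists_fam : Nonempty (Fam G) := by
  classical
  obtain ⟨P⟩ : Nonempty (Sylow 23 G) := inferInstance
  obtain ⟨hP, -, hC, hN⟩ := Twentythree.data h P
  have hrel : (Subgroup.centralizer ((P : Subgroup G) : Set G)).relIndex
      (Subgroup.normalizer ((P : Subgroup G) : Set G)) = 11 := by
    have h' := Sylow.card_centralizer_mul_relIndex (P : Subgroup G)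
    rw [hC, hN] at h'
    omega
  obtain ⟨D, ⟨E⟩⟩ := Full.exists_full P hP hrel
  exact ⟨⟨P, hP, (Local.self_centralizing h (Or.inr rfl) P).2, hrel, D, E⟩⟩

theorem exists_data : Nonempty (Data G) := by
  classical
  haveI := Fintype.ofFinite G
  haveI := Fintype.ofFinite (Cfsg.IrrCharacter G)
  have hG := Base.not_comm h
  have hperf := Sylow.commutator_eq_top hG
  obtain ⟨F⟩ := Fam11.exists_fam h
  obtain ⟨T⟩ := exists_fam h
  obtain ⟨S, u, hu, hc, hSu, hF, hS, hsel⟩ := SevenU.exists_data h F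
  obtain ⟨hθd, hδ, hθv⟩ := hF.theta
  obtain ⟨hc45, hc230, hc1035⟩ := hF.count
  obtain ⟨f2, f3, hne23, h45⟩ := Finset.card_eq_two.mp hc45
  obtain ⟨f4, h230⟩ := Finset.card_eq_one.mp hc230
  obtain ⟨f15, h1035⟩ := Finset.card_eq_one.mp hc1035
  obtain ⟨hf2K, hf2d⟩ : f2 ∈ F.D.K ∧ deg f2 = 45 :=
    Finset.mem_filter.mp (show f2 ∈ F.D.K.filter (fun χ => deg χ = 45) by rw [h45]; simp)
  obtain ⟨hf3K, hf3d⟩ : f3 ∈ F.D.K ∧ deg f3 = 45 :=
    Finset.mem_filter.mp (show f3 ∈ F.D.K.filter (fun χ => deg χ = 45) by rw [h45]; simp)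
  obtain ⟨hf4K, hf4d⟩ : f4 ∈ F.D.K ∧ deg f4 = 230 :=
    Finset.mem_filter.mp (show f4 ∈ F.D.K.filter (fun χ => deg χ = 230) by rw [h230]; simp)
  obtain ⟨hf15K, hf15d⟩ : f15 ∈ F.D.K ∧ deg f15 = 1035 :=
    Finset.mem_filter.mp (show f15 ∈ F.D.K.filter (fun χ => deg χ = 1035) by rw [h1035]; simp)
  have hK11 : ∀ χ, χ ∈ F.D.K ↔ χ = f2 ∨ χ = f3 ∨ χ = f4 ∨ χ = f15 := by
    intro χ
    constructor
    · intro hχ
      rcases hF.members χ hχ with ⟨-, hd, -⟩ | ⟨-, hd, -⟩ | ⟨-, hd, -⟩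
      · have : χ ∈ F.D.K.filter (fun χ => deg χ = 45) := Finset.mem_filter.mpr ⟨hχ, hd⟩
        rw [h45, Finset.mem_insert, Finset.mem_singleton] at this
        rcases this with e | e <;> simp [e]
      · have : χ ∈ F.D.K.filter (fun χ => deg χ = 230) := Finset.mem_filter.mpr ⟨hχ, hd⟩
        rw [h230, Finset.mem_singleton] at this
        simp [this]
      · have : χ ∈ F.D.K.filter (fun χ => deg χ = 1035) := Finset.mem_filter.mpr ⟨hχ, hd⟩
        rw [h1035, Finset.mem_singleton] at this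
        simp [this]
    · rintro (rfl | rfl | rfl | rfl) <;> assumption
  obtain ⟨ha2, hv2⟩ : F.D.a f2 = 1 ∧ Family.iv u f2 = -3 := by
    rcases hF.members f2 hf2K with ⟨a, d, v⟩ | ⟨a, d, v⟩ | ⟨a, d, v⟩ <;>
      first | exact ⟨a, v⟩ | (exfalso; omega)
  obtain ⟨ha3, hv3⟩ : F.D.a f3 = 1 ∧ Family.iv u f3 = -3 := by
    rcases hF.members f3 hf3K with ⟨a, d, v⟩ | ⟨a, d, v⟩ | ⟨a, d, v⟩ <;>
      first | exact ⟨a, v⟩ | (exfalso; omega)
  obtain ⟨ha4, hv4⟩ : F.D.a f4 = -1 ∧ Family.iv u f4 = 22 := by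
    rcases hF.members f4 hf4K with ⟨a, d, v⟩ | ⟨a, d, v⟩ | ⟨a, d, v⟩ <;>
      first | exact ⟨a, v⟩ | (exfalso; omega)
  obtain ⟨ha15, hv15⟩ : F.D.a f15 = 1 ∧ Family.iv u f15 = 27 := by
    rcases hF.members f15 hf15K with ⟨a, d, v⟩ | ⟨a, d, v⟩ | ⟨a, d, v⟩ <;>
      first | exact ⟨a, v⟩ | (exfalso; omega)
  have hu7 : ¬ 7 ∣ orderOf u := by rw [hu]; norm_num
  have hu11 : ¬ 11 ∣ orderOf u := by rw [hu]; norm_num
  have hu23 : ¬ 23 ∣ orderOf u := by rw [hu]; norm_num
  -- the exceptional characters at `11`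
  obtain ⟨f11, f12, hne1112, hfam11⟩ := Finset.card_eq_two.mp (Fam11.card_fam h F)
  have h896 : ∀ χ ∈ F.D.fam, deg χ = 896 ∧ Family.iv u χ = 0 := fun χ hχ => by
    refine ⟨(F.D.fam_deg χ hχ).trans hθd, Family.iv_eq ?_⟩
    rw [F.D.fam_regular χ hχ u hu11, (Family.iv_spec hG F.D.θ_ne_one hu h rfl).1, hθv]
  obtain ⟨hd11, hv11⟩ := h896 f11 (by rw [hfam11]; simp)
  obtain ⟨hd12, hv12⟩ := h896 f12 (by rw [hfam11]; simp)
  -- the family at `7`
  obtain ⟨hθ7d, hδ7, hθ7v⟩ := hS.theta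
  obtain ⟨s1, f16, hne7, hK7, ⟨ha15', hd15', hv15'⟩, ⟨ha16, hd16, hv16⟩⟩ := hS.members
  have hs1 : s1 = f15 := by
    have h1 : s1 ∈ F.D.K := Fam11.mem_K h F (fun e => by
      rw [e, deg_oneChar] at hd15'; omega) (Or.inl (by rw [hd15']; norm_num))
    rcases (hK11 s1).mp h1 with rfl | rfl | rfl | rfl <;> first | rfl | (exfalso; omega)
  subst hs1
  obtain ⟨f13, f14, hne1314, hfam7⟩ := Finset.card_eq_two.mp
    (show S.D.fam.card = 2 by have := S.D.fam_card; omega)
  have h990 : ∀ χ ∈ S.D.fam, deg χ = 990 ∧ Family.iv u χ = -18 := fun χ hχ => by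
    refine ⟨(S.D.fam_deg χ hχ).trans hθ7d, Family.iv_eq ?_⟩
    rw [S.D.fam_regular χ hχ u hu7, (Family.iv_spec hG S.D.θ_ne_one hu h rfl).1, hθ7v]
  obtain ⟨hd13, hv13⟩ := h990 f13 (by rw [hfam7]; simp)
  obtain ⟨hd14, hv14⟩ := h990 f14 (by rw [hfam7]; simp)
  -- the six known members at `23`
  have hne1 : ∀ χ : Cfsg.IrrCharacter G, deg χ ≠ 1 → χ ≠ oneChar G := fun χ hd e => by
    rw [e, deg_oneChar] at hd; exact hd rfl
  have hθ23 := T.D.θ_cong T.hP
  have hmem23 : ∀ (χ : Cfsg.IrrCharacter G) (k : ℤ), deg χ = k → k ≠ 1 →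
      (k % 23 = 1 ∨ k % 23 = 22) → χ ∈ T.D.K ∧ T.D.a χ = if k % 23 = 1 then 1 else -1 := by
    intro χ k hk h1 hmod
    have hK : χ ∈ T.D.K := by
      by_contra hK
      by_cases hf : χ ∈ T.D.fam
      · rw [← T.D.fam_deg χ hf, hk] at hθ23
        rcases T.D.δ_unit with e | e <;> rw [e] at hθ23 <;> omega
      · have := PrimeDegrees.dvd_deg_of_other T.hP T.hC T.D χ (hne1 χ (by omega)) hK hf
        omega
    have hs := (FirstPowerKills.signed_facts hperf T.hP T.D hK).1
    rw [hk] at hs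
    refine ⟨hK, ?_⟩
    rcases T.D.a_unit χ hK with e | e <;> rw [e] at hs ⊢ <;> split_ifs <;> omega
  obtain ⟨hK2, hb2⟩ := hmem23 f2 _ hf2d (by norm_num) (by norm_num)
  obtain ⟨hK3, hb3⟩ := hmem23 f3 _ hf3d (by norm_num) (by norm_num)
  obtain ⟨hK11', hb11⟩ := hmem23 f11 _ hd11 (by norm_num) (by norm_num)
  obtain ⟨hK12, hb12⟩ := hmem23 f12 _ hd12 (by norm_num) (by norm_num)
  obtain ⟨hK13, hb13⟩ := hmem23 f13 _ hd13 (by norm_num) (by norm_num)
  obtain ⟨hK14, hb14⟩ := hmem23 f14 _ hd14 (by norm_num) (by norm_num)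
  norm_num at hb2 hb3 hb11 hb12 hb13 hb14
  set six' : List (Cfsg.IrrCharacter G) := [f2, f3, f13, f14, f11, f12] with hsix
  have hnd : six'.Nodup := by
    have key : ∀ a b : Cfsg.IrrCharacter G, deg a ≠ deg b → a ≠ b := fun a b hab e => hab (e ▸ rfl)
    simp [hsix, hne23, hne1314, hne1112, key f2 f13 (by omega), key f2 f14 (by omega),
      key f2 f11 (by omega), key f2 f12 (by omega), key f3 f13 (by omega), key f3 f14 (by omega),
      key f3 f11 (by omega), key f3 f12 (by omega), key f13 f11 (by omega), key f13 f12 (by omega),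
      key f14 f11 (by omega), key f14 f12 (by omega)]
  have hsub : six'.toFinset ⊆ T.D.K := by
    intro x hx
    simp only [hsix, List.mem_toFinset, List.mem_cons, List.not_mem_nil, or_false] at hx
    rcases hx with rfl | rfl | rfl | rfl | rfl | rfl <;> assumption
  set rest := (T.D.K \ six'.toFinset).toList with hrestdef
  have hrest4 : rest.length = 4 := by
    rw [hrestdef, Finset.length_toList, Finset.card_sdiff_of_subset hsub,
      List.toFinset_card_of_nodup hnd]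
    have := T.D.card_K
    simp [hsix]
    omega
  have hperm : T.D.K.toList.Perm (six' ++ rest) := by
    refine (List.perm_ext_iff_of_nodup (Finset.nodup_toList _) ?_).mpr fun x => ?_
    · refine List.nodup_append.mpr ⟨hnd, Finset.nodup_toList _, fun a ha b hb e => ?_⟩
      rw [hrestdef, Finset.mem_toList, Finset.mem_sdiff] at hb
      exact hb.2 (List.mem_toFinset.mpr (e ▸ ha))
    · rw [Finset.mem_toList, List.mem_append, hrestdef, Finset.mem_toList, Finset.mem_sdiff]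
      constructor
      · intro hx
        by_cases hx' : x ∈ six'
        · exact Or.inl hx'
        · exact Or.inr ⟨hx, fun e => hx' (List.mem_toFinset.mp e)⟩
      · rintro (hx | hx)
        · exact hsub (List.mem_toFinset.mpr hx)
        · exact hx.1
  -- the other four members
  have hselc : ∀ χ : Cfsg.IrrCharacter G, χ ≠ oneChar G → ∀ a : ℤ, a = 1 ∨ a = -1 →
      sel (a * deg χ) (a * Family.iv u χ) = true := by
    intro χ h1 a ha
    rw [sel, decide_eq_true_eq,
      Family.sq_unit ha, Family.sq_unit ha]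
    exact Int.emod_eq_zero_of_dvd (hsel χ h1)
  have hitem : ∀ χ ∈ T.D.K, χ ∉ six' → (Family.sk T.D χ, Family.sw T.D u χ) ∈ items := by
    intro χ hχ hns
    obtain ⟨m1, m2, m4, m5, -⟩ := Family.member_spec hG T.hP T.D h hu hc hχ
    have hs := (FirstPowerKills.signed_facts hperf T.hP T.D hχ).1
    have h11 : (11 : ℤ) ∣ deg χ := by
      by_contra hd
      have h1 := Family.ne_one_of_mem T.D hχ
      by_cases hfm : χ ∈ F.D.fam
      · rw [hfam11, Finset.mem_insert, Finset.mem_singleton] at hfm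
        exact hns (by rcases hfm with e | e <;> simp [hsix, e])
      by_cases hK : χ ∈ F.D.K
      · rcases (hK11 χ).mp hK with e | e | e | e
        · exact hns (by simp [hsix, e])
        · exact hns (by simp [hsix, e])
        · rw [e] at hs
          rw [hf4d] at hs
          rcases T.D.a_unit f4 (e ▸ hχ) with e' | e' <;> rw [e'] at hs <;> omega
        · rw [e] at hs
          rw [hf15d] at hs
          rcases T.D.a_unit s1 (e ▸ hχ) with e' | e' <;> rw [e'] at hs <;> omega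
      · exact hd (Fam11.dvd_deg h F h1 hK hfm)
    refine List.mem_filter.mpr ⟨Items.mem_pairs ?_
      (Items.mem_vals (by norm_num) (by omega) m1 m2 (by omega) m4 m5),
      hselc χ (Family.ne_one_of_mem T.D hχ) _ (T.D.a_unit χ hχ)⟩
    rw [← ks_eq, List.mem_filter, Bool.and_eq_true, decide_eq_true_eq]
    refine ⟨Family.sk_mem hG T.hP T.D h hχ ?_, Local.okd_signed h χ (T.D.a_unit χ hχ), ?_⟩
    · have := PrimeExceptional.two_le_deg hperf χ (Family.ne_one_of_mem T.D hχ)
      omega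
    · rw [Family.sk]
      exact Int.emod_eq_zero_of_dvd (h11.mul_left _)
  have hsums := Family2.sums_eq T.D 10200960 u hperm
  have hsix' : six'.map (fun χ => (Family.sk T.D χ, Family.sw T.D u χ)) = six := by
    simp [hsix, six, Family.sk, Family.sw, hb2, hb3, hb11, hb12, hb13, hb14, hf2d, hf3d, hd11,
      hd12, hd13, hd14, hv2, hv3, hv11, hv12, hv13, hv14]
  rw [List.map_append, List.foldl_append, hsix', ← start] at hsums
  set l := rest.map fun χ => (Family.sk T.D χ, Family.sw T.D u χ) with hl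
  have hll : l.length = 4 := by rw [hl, List.length_map, hrest4]
  obtain ⟨hks, hsw, -, -, hok, hT⟩ := Family.sums_spec hG T.hP T.D h (by norm_num) hu hc
  rw [Pairs.T_eq_zero T.hP T.D T.E (by norm_num) T.hrel (by decide) hu hu, zero_mul] at hT
  have hextra : extra (Family.sums T.D 10200960 u) = true := by
    simp only [extra, Bool.and_eq_true, decide_eq_true_eq, hks, hsw]
    exact ⟨⟨by exact_mod_cast hT.symm, Local.okd_signed h _ T.D.δ_unit⟩,
      hselc _ T.D.θ_ne_one _ T.D.δ_unit⟩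
  have htfam : T.D.fam.card = 2 := by have := T.D.fam_card; omega
  have hlo : 2 ≤ (deg T.D.θ).natAbs := by
    have := PrimeExceptional.two_le_deg hperf T.D.θ T.D.θ_ne_one
    omega
  have hfound : ∀ (L : List (ℤ × ℤ)) (ex : Sums → Bool), (∀ x ∈ l, x ∈ L) →
      ex (Family.sums T.D 10200960 u) = true → dead L ex = true → False := by
    intro L ex hL hex hd
    have hfin := Family2.fin_sums hG T.hP T.D h (by norm_num) hu hc htfam (lo := 2) hlo
      (extra := fun s => extra s && ex s) (by rw [hextra, hex]; rfl)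
    rw [hsums] at hfin
    have hok' := hok
    rw [hsums] at hok'
    have hs := RecogM22.Search.search_complete
      (fin := Family.fin 10200960 2688 23 11 2 2 fun s => extra s && ex s)
      (RecogM22.Search.add_comm' ((10200960 : ℕ) : ℤ))
      (RecogM22.Search.ok_mono ((10200960 : ℕ) : ℤ) ((2688 : ℕ) : ℤ)) L l start hL hok' hfin
    rw [hll] at hs
    have hs' := Search.go_of_search (RecogM22.Search.ok_mono _ _) _ _ _ hs
    rw [dead] at hd
    simp only [Nat.cast_ofNat] at hs' hd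
    rw [hs'] at hd
    exact Bool.noConfusion hd
  have hlmem : ∀ x ∈ l, x ∈ items := by
    intro x hx
    obtain ⟨χ, hχ, rfl⟩ := List.mem_map.mp hx
    rw [hrestdef, Finset.mem_toList, Finset.mem_sdiff, List.mem_toFinset] at hχ
    exact hitem χ hχ.1 hχ.2
  have hexp : Family.sums T.D 10200960 u = expected := by
    by_contra hne
    exact hfound _ _ hlmem (decide_eq_true hne) unique
  obtain ⟨f1, hf1r, hf1⟩ : ∃ χ ∈ rest,
      (Family.sk T.D χ, Family.sw T.D u χ) = ((-22 : ℤ), (-6 : ℤ)) := by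
    by_contra hne
    push Not at hne
    refine hfound _ (fun _ => true) (fun x hx => ?_) rfl needs_22
    refine List.mem_filter.mpr ⟨hlmem x hx, decide_eq_true ?_⟩
    obtain ⟨χ, hχ, rfl⟩ := List.mem_map.mp hx
    exact hne χ hχ
  -- the remaining three members
  obtain ⟨f5, f6, f7, hrest3⟩ := List.length_eq_three.mp
    (show (rest.erase f1).length = 3 by rw [List.length_erase_of_mem hf1r, hrest4])
  have hp4 : rest.Perm [f1, f5, f6, f7] := hrest3 ▸ List.perm_cons_erase hf1r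
  have hsums4 : Family.sums T.D 10200960 u =
      ([f1, f5, f6, f7].map fun χ => (Family.sk T.D χ, Family.sw T.D u χ)).foldl
        (add ((10200960 : ℕ) : ℤ)) start := by
    haveI : RightCommutative (add ((10200960 : ℕ) : ℤ)) :=
      ⟨RecogM22.Search.add_comm' ((10200960 : ℕ) : ℤ)⟩
    rw [hsums]
    exact (hp4.map _).foldl_eq _
  rw [hexp] at hks hsw
  obtain ⟨e770, e14, ekk, eww, estk, estw⟩ := expected_eq
  rw [e770] at hks
  rw [e14] at hsw
  have hk3 : ∀ χ ∈ [f5, f6, f7], Family.sk T.D χ = 231 ∧ Family.sw T.D u χ = 7 := by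
    rw [hexp] at hsums4
    simp only [List.map_cons, List.map_nil, List.foldl_cons, List.foldl_nil, hf1] at hsums4
    have e1 := congrArg Sums.k hsums4
    have e2 := congrArg Sums.kk hsums4
    have e3 := congrArg Sums.w hsums4
    have e4 := congrArg Sums.ww hsums4
    simp only [add, e770, e14, ekk, eww, estk, estw] at e1 e2 e3 e4
    intro χ hχ
    set x5 := Family.sk T.D f5
    set x6 := Family.sk T.D f6
    set x7 := Family.sk T.D f7
    set y5 := Family.sw T.D u f5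
    set y6 := Family.sw T.D u f6
    set y7 := Family.sw T.D u f7
    have hz : (x5 - 231) * (x5 - 231) + (x6 - 231) * (x6 - 231) + (x7 - 231) * (x7 - 231) = 0 := by
      linear_combination -e2 + 462 * e1
    have hz' : (y5 - 7) * (y5 - 7) + (y6 - 7) * (y6 - 7) + (y7 - 7) * (y7 - 7) = 0 := by
      linear_combination -e4 + 14 * e3
    have a5 := mul_self_nonneg (x5 - 231)
    have a6 := mul_self_nonneg (x6 - 231)
    have a7 := mul_self_nonneg (x7 - 231)
    have b5 := mul_self_nonneg (y5 - 7)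
    have b6 := mul_self_nonneg (y6 - 7)
    have b7 := mul_self_nonneg (y7 - 7)
    have qx5 : x5 = 231 :=
      sub_eq_zero.mp (mul_self_eq_zero.mp (le_antisymm (by linarith) a5))
    have qx6 : x6 = 231 :=
      sub_eq_zero.mp (mul_self_eq_zero.mp (le_antisymm (by linarith) a6))
    have qx7 : x7 = 231 :=
      sub_eq_zero.mp (mul_self_eq_zero.mp (le_antisymm (by linarith) a7))
    have qy5 : y5 = 7 :=
      sub_eq_zero.mp (mul_self_eq_zero.mp (le_antisymm (by linarith) b5))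
    have qy6 : y6 = 7 :=
      sub_eq_zero.mp (mul_self_eq_zero.mp (le_antisymm (by linarith) b6))
    have qy7 : y7 = 7 :=
      sub_eq_zero.mp (mul_self_eq_zero.mp (le_antisymm (by linarith) b7))
    simp only [List.mem_cons, List.not_mem_nil, or_false] at hχ
    rcases hχ with rfl | rfl | rfl
    · exact ⟨qx5, qy5⟩
    · exact ⟨qx6, qy6⟩
    · exact ⟨qx7, qy7⟩
  have hrestK : ∀ χ ∈ rest, χ ∈ T.D.K ∧ χ ∉ six' := fun χ hχ => by
    rw [hrestdef, Finset.mem_toList, Finset.mem_sdiff, List.mem_toFinset] at hχ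
    exact hχ
  obtain ⟨hb1, hd1, hv1⟩ := (of_signed (T.D.a_unit f1 (hrestK f1 hf1r).1)
    (RecogThree.M12.Basic.deg_nonneg f1) (congrArg Prod.fst hf1 : Family.sk T.D f1 = -22)
    (congrArg Prod.snd hf1 : Family.sw T.D u f1 = -6)).2 (by norm_num)
  norm_num at hd1 hv1
  have h231 : ∀ χ ∈ [f5, f6, f7], χ ∈ T.D.K ∧ T.D.a χ = 1 ∧ deg χ = 231 ∧ Family.iv u χ = 7 := by
    intro χ hχ
    have hr : χ ∈ rest := hp4.mem_iff.mpr (List.mem_cons_of_mem _ hχ)
    exact ⟨(hrestK χ hr).1, (of_signed (T.D.a_unit χ (hrestK χ hr).1)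
      (RecogThree.M12.Basic.deg_nonneg χ) (hk3 χ hχ).1 (hk3 χ hχ).2).1 (by norm_num)⟩
  obtain ⟨hK5, hb5, hd5, hv5⟩ := h231 f5 (by simp)
  obtain ⟨hK6, hb6, hd6, hv6⟩ := h231 f6 (by simp)
  obtain ⟨hK7', hb7, hd7, hv7⟩ := h231 f7 (by simp)
  have hnd4 : [f1, f5, f6, f7].Nodup := hp4.nodup_iff.mp (Finset.nodup_toList _)
  simp only [List.nodup_cons, List.mem_cons, List.not_mem_nil, or_false, not_or, not_false_eq_true,
    List.nodup_nil, and_true] at hnd4
  obtain ⟨⟨-, -, -⟩, ⟨hne56, hne57⟩, hne67⟩ := hnd4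
  have hδ23 : T.D.δ = 1 := by
    have := RecogThree.M12.Basic.deg_nonneg T.D.θ
    rcases T.D.δ_unit with e | e <;> rw [e] at hks ⊢ <;> omega
  have hθ770 : deg T.D.θ = 770 ∧ Family.iv u T.D.θ = -14 := by
    rw [hδ23] at hks hsw
    omega
  obtain ⟨f9, f10, hne910, hfam23⟩ := Finset.card_eq_two.mp htfam
  have h770 : ∀ χ ∈ T.D.fam, deg χ = 770 ∧ Family.iv u χ = -14 := fun χ hχ => by
    refine ⟨(T.D.fam_deg χ hχ).trans hθ770.1, Family.iv_eq ?_⟩
    rw [T.D.fam_regular χ hχ u hu23, (Family.iv_spec hG T.D.θ_ne_one hu h rfl).1, hθ770.2]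
  obtain ⟨hd9, hv9⟩ := h770 f9 (by rw [hfam23]; simp)
  obtain ⟨hd10, hv10⟩ := h770 f10 (by rw [hfam23]; simp)
  -- the last character
  set c16 : Fin 16 → Cfsg.IrrCharacter G :=
    ![oneChar G, f1, f2, f3, f4, f5, f6, f7, f9, f10, f11, f12, f13, f14, s1, f16] with hc16
  have hd16' : ∀ i, deg (c16 i) = ![1, 22, 45, 45, 230, 231, 231, 231, 770, 770, 896, 896, 990,
      990, 1035, 2024] i := by
    intro i
    fin_cases i
    exacts [deg_oneChar, hd1, hf2d, hf3d, hf4d, hd5, hd6, hd7, hd9, hd10, hd11, hd12, hd13, hd14,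
      hf15d, hd16]
  have hv16' : ∀ i, Family.iv u (c16 i) = ![1, 6, -3, -3, 22, 7, 7, 7, -14, -14, 0, 0, -18,
      -18, 27, 8] i := by
    intro i
    fin_cases i
    exacts [Family.iv_oneChar u, hv1, hv2, hv3, hv4, hv5, hv6, hv7, hv9, hv10, hv11, hv12, hv13,
      hv14, hv15, hv16]
  have hinj : Function.Injective c16 := by
    intro i j hij
    have hd := congrArg deg hij
    rw [hd16', hd16'] at hd
    have key : ∀ i j : Fin 16, (![1, 22, 45, 45, 230, 231, 231, 231, 770, 770, 896, 896, 990,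
        990, 1035, 2024] : Fin 16 → ℤ) i = (![1, 22, 45, 45, 230, 231, 231, 231, 770, 770, 896,
        896, 990, 990, 1035, 2024] : Fin 16 → ℤ) j → i = j ∨ (i, j) ∈ ([(2, 3), (3, 2), (5, 6),
        (6, 5), (5, 7), (7, 5), (6, 7), (7, 6), (8, 9), (9, 8), (10, 11), (11, 10), (12, 13),
        (13, 12)] : List (Fin 16 × Fin 16)) := by decide +kernel
    rcases key i j hd with e | e
    · exact e
    exfalso
    simp only [List.mem_cons, List.not_mem_nil, or_false, Prod.mk.injEq] at e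
    rcases e with ⟨rfl, rfl⟩ | ⟨rfl, rfl⟩ | ⟨rfl, rfl⟩ | ⟨rfl, rfl⟩ | ⟨rfl, rfl⟩ | ⟨rfl, rfl⟩ |
      ⟨rfl, rfl⟩ | ⟨rfl, rfl⟩ | ⟨rfl, rfl⟩ | ⟨rfl, rfl⟩ | ⟨rfl, rfl⟩ | ⟨rfl, rfl⟩ | ⟨rfl, rfl⟩ |
      ⟨rfl, rfl⟩
    · exact hne23 hij
    · exact hne23 hij.symm
    · exact hne56 hij
    · exact hne56 hij.symm
    · exact hne57 hij
    · exact hne57 hij.symm
    · exact hne67 hij
    · exact hne67 hij.symm
    · exact hne910 hij
    · exact hne910 hij.symm
    · exact hne1112 hij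
    · exact hne1112 hij.symm
    · exact hne1314 hij
    · exact hne1314 hij.symm
  set S16 := Finset.univ.image c16 with hS16
  have hK23mem : ∀ χ, χ ∈ T.D.K ↔ χ = f1 ∨ χ = f2 ∨ χ = f3 ∨ χ = f5 ∨ χ = f6 ∨ χ = f7 ∨
      χ = f11 ∨ χ = f12 ∨ χ = f13 ∨ χ = f14 := by
    intro χ
    rw [← Finset.mem_toList, hperm.mem_iff, List.mem_append, hp4.mem_iff]
    simp only [hsix, List.mem_cons, List.not_mem_nil, or_false]
    constructor
    · rintro ((e | e | e | e | e | e) | (e | e | e | e)) <;> simp [e]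
    · rintro (e | e | e | e | e | e | e | e | e | e) <;> simp [e]
  have hin : ∀ i, c16 i ∈ S16 := fun i => Finset.mem_image_of_mem _ (Finset.mem_univ i)
  have hrestdeg : ∀ χ ∈ Finset.univ \ S16, (253 : ℤ) ∣ deg χ := by
    intro χ hχ
    rw [Finset.mem_sdiff] at hχ
    have hnot : ∀ i, χ ≠ c16 i := fun i e => hχ.2 (e ▸ hin i)
    have h1 : χ ≠ oneChar G := hnot 0
    refine (IsCoprime.mul_dvd (by norm_num : IsCoprime (11 : ℤ) 23) ?_ ?_ : (11 * 23 : ℤ) ∣ deg χ)
    · refine Fam11.dvd_deg h F h1 (fun hK => ?_) fun hf => ?_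
      · rcases (hK11 χ).mp hK with e | e | e | e
        · exact hnot 2 e
        · exact hnot 3 e
        · exact hnot 4 e
        · exact hnot 14 e
      · rw [hfam11, Finset.mem_insert, Finset.mem_singleton] at hf
        rcases hf with e | e
        · exact hnot 10 e
        · exact hnot 11 e
    · refine PrimeDegrees.dvd_deg_of_other T.hP T.hC T.D χ h1 (fun hK => ?_) fun hf => ?_
      · rcases (hK23mem χ).mp hK with e | e | e | e | e | e | e | e | e | e
        · exact hnot 1 e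
        · exact hnot 2 e
        · exact hnot 3 e
        · exact hnot 5 e
        · exact hnot 6 e
        · exact hnot 7 e
        · exact hnot 10 e
        · exact hnot 11 e
        · exact hnot 12 e
        · exact hnot 13 e
      · rw [hfam23, Finset.mem_insert, Finset.mem_singleton] at hf
        rcases hf with e | e
        · exact hnot 8 e
        · exact hnot 9 e
  have hsq := PrimeExceptional.sum_deg_sq (G := G)
  rw [h, ← Finset.sum_sdiff (Finset.subset_univ S16), hS16,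
    Finset.sum_image fun i _ j _ e => hinj e] at hsq
  simp only [hd16'] at hsq
  rw [show (∑ i : Fin 16, (![1, 22, 45, 45, 230, 231, 231, 231, 770, 770, 896, 896, 990, 990, 1035,
      2024] : Fin 16 → ℤ) i ^ 2) = 10136951 by decide +kernel, ← hS16] at hsq
  push_cast at hsq
  have hR1 : (Finset.univ \ S16).card = 1 := by
    have hge : ∀ χ ∈ Finset.univ \ S16, (64009 : ℤ) ≤ deg χ ^ 2 := by
      intro χ hχ
      obtain ⟨k, hk⟩ := hrestdeg χ hχ
      have h2 := PrimeExceptional.two_le_deg hperf χ fun e =>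
        (Finset.mem_sdiff.mp hχ).2 (e ▸ hin 0)
      have hk1 : 1 ≤ k := by omega
      rw [hk]
      nlinarith
    have hle : ((Finset.univ \ S16).card : ℤ) * 64009 ≤ 64009 := by
      have := Finset.card_nsmul_le_sum _ _ _ hge
      rw [nsmul_eq_mul] at this
      linarith
    have hne : (Finset.univ \ S16).card ≠ 0 := by
      intro e
      rw [Finset.card_eq_zero.mp e, Finset.sum_empty] at hsq
      norm_num at hsq
    omega
  obtain ⟨f8, hR⟩ := Finset.card_eq_one.mp hR1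
  rw [hR, Finset.sum_singleton] at hsq
  have hd8 : deg f8 = 253 := by
    have h0 := RecogThree.M12.Basic.deg_nonneg f8
    have hz : (deg f8 - 253) * (deg f8 + 253) = 0 := by linear_combination hsq
    rcases mul_eq_zero.mp hz with e | e <;> omega
  have hv8 : Family.iv u f8 = 13 := by
    have h8one := hne1 f8 (by omega)
    obtain ⟨hv, h4, -, -⟩ := Family.iv_spec hG h8one hu h rfl
    have hall : ∀ χ : Cfsg.IrrCharacter G, (χ : G → ℂ) u = (Family.iv u χ : ℂ) := by
      intro χ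
      by_cases e : χ = oneChar G
      · rw [e, Family.iv_oneChar, oneChar_apply, Int.cast_one]
      · exact (Family.iv_spec hG e hu h rfl).1
    have horth := Complete.sum_irr_mul_conj u u
    rw [if_pos (IsConj.refl u), hc, Finset.sum_congr rfl fun χ _ => by
      rw [hall χ, map_intCast, ← Int.cast_mul], ← Int.cast_sum] at horth
    have horth' : ∑ χ : Cfsg.IrrCharacter G, Family.iv u χ * Family.iv u χ = (2688 : ℤ) := by
      exact_mod_cast horth
    rw [← Finset.sum_sdiff (Finset.subset_univ S16), hR, Finset.sum_singleton, hS16,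
      Finset.sum_image fun i _ j _ e => hinj e] at horth'
    simp only [hv16'] at horth'
    rw [show (∑ i : Fin 16, (![1, 6, -3, -3, 22, 7, 7, 7, -14, -14, 0, 0, -18, -18, 27, 8] :
        Fin 16 → ℤ) i * (![1, 6, -3, -3, 22, 7, 7, 7, -14, -14, 0, 0, -18, -18, 27, 8] :
        Fin 16 → ℤ) i) = 2519 by decide +kernel] at horth'
    rw [hd8] at h4
    have hsplit : (Family.iv u f8 - 13) * (Family.iv u f8 + 13) = 0 := by linear_combination horth'
    rcases mul_eq_zero.mp hsplit with e | e <;> omega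
  have hf8 : ∀ i, f8 ≠ c16 i := fun i e => by
    have : f8 ∈ Finset.univ \ S16 := by rw [hR]; simp
    exact (Finset.mem_sdiff.mp this).2 (e ▸ hin i)
  set ch : Fin 17 → Cfsg.IrrCharacter G :=
    ![oneChar G, f1, f2, f3, f4, f5, f6, f7, f8, f9, f10, f11, f12, f13, f14, s1, f16] with hch
  have hsucc : ∀ i : Fin 16, ch ((8 : Fin 17).succAbove i) = c16 i := by
    intro i
    fin_cases i <;> rfl
  have hbij : Function.Bijective ch := by
    constructor
    · intro i j hij
      rcases Fin.eq_self_or_eq_succAbove (8 : Fin 17) i with rfl | ⟨i, rfl⟩ <;>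
        rcases Fin.eq_self_or_eq_succAbove (8 : Fin 17) j with rfl | ⟨j, rfl⟩
      · rfl
      · exact absurd (hij.trans (hsucc j)) (hf8 j)
      · exact absurd (hij.symm.trans (hsucc i)) (hf8 i)
      · rw [hsucc, hsucc] at hij
        rw [hinj hij]
    · intro χ
      by_cases hχ : χ ∈ S16
      · obtain ⟨i, -, rfl⟩ := Finset.mem_image.mp hχ
        exact ⟨_, hsucc i⟩
      · refine ⟨8, ?_⟩
        have : χ ∈ Finset.univ \ S16 := Finset.mem_sdiff.mpr ⟨Finset.mem_univ _, hχ⟩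
        rw [hR, Finset.mem_singleton] at this
        exact this.symm
  refine ⟨⟨u, hu, hc, S, hSu, F, T, ch, hbij, rfl, ?_, ?_, ?_, ⟨ha2, ha3, ha4, ha15, hδ⟩, ?_, hK7,
    ⟨ha15', ha16, hδ7⟩, ?_, hK23mem,
    ⟨hb1, hb2, hb3, hb5, hb6, hb7, hb11, hb12, hb13, hb14, hδ23⟩, ?_⟩⟩
  · intro i
    fin_cases i
    exacts [deg_oneChar, hd1, hf2d, hf3d, hf4d, hd5, hd6, hd7, hd8, hd9, hd10, hd11, hd12, hd13,
      hd14, hf15d, hd16]
  · intro i
    fin_cases i
    exacts [Family.iv_oneChar u, hv1, hv2, hv3, hv4, hv5, hv6, hv7, hv8, hv9, hv10, hv11, hv12,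
      hv13, hv14, hv15, hv16]
  · exact hK11
  · intro χ; rw [hfam11, Finset.mem_insert, Finset.mem_singleton]; rfl
  · intro χ; rw [hfam7, Finset.mem_insert, Finset.mem_singleton]; rfl
  · intro χ; rw [hfam23, Finset.mem_insert, Finset.mem_singleton]; rfl

end Cfsg.Agent.Lib.RecogM23.Table
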